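import Cfsg.Agent.Char.ExtraExtend.Rep

/-!
# The symplectic module of a group of extraspecial type

`V z E` is `E / ⟨z⟩` written additively, `B` the commutator bit, `act g` conjugation by an element
normalising `E`.  For a subgroup `K` of odd order without fixed points on `V z E`, `cR z E K` is
the ring generated by its class sums: it is commutative, reduced, closed under adjoints, and its
idempotents cut out the pieces used to extend representations.
-/

set_option autoImplicit false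
set_option linter.unusedSectionVars false
set_option linter.unusedVariables false
set_option linter.style.haveILetI false

namespace CfsgLib.ExtraExtend

open Subgroup

universe u

variable {G : Type u} [Group G]

/-- The central subgroup generated by `z`. -/
def zsub (z : G) (E : Subgroup G) : Subgroup ↥E :=
  (zpowers z).subgroupOf E ⊓ center ↥E

theorem zsub_normal (z : G) (E : Subgroup G) : (zsub z E).Normal where
  conj_mem n hn g := by
    have h1 : g * n * g⁻¹ = n := by
      rw [(Subgroup.mem_center_iff.1 hn.2 g), mul_inv_cancel_right]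
    rw [h1]; exact hn

instance (z : G) (E : Subgroup G) : (zsub z E).Normal := zsub_normal z E

/-- `E` modulo `⟨z⟩`, additively. -/
abbrev V (z : G) (E : Subgroup G) : Type u := Additive (Abelianization (↥E ⧸ zsub z E))

open scoped Classical in
/-- The projection, zero outside `E`. -/
noncomputable def π (z : G) (E : Subgroup G) (a : G) : V z E :=
  if h : a ∈ E then Additive.ofMul (Abelianization.of (QuotientGroup.mk ⟨a, h⟩ : ↥E ⧸ zsub z E))
  else 0

theorem π_of_mem (z : G) {E : Subgroup G} {a : G} (h : a ∈ E) :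
    π z E a = Additive.ofMul (Abelianization.of (QuotientGroup.mk ⟨a, h⟩ : ↥E ⧸ zsub z E)) :=
  dif_pos h

theorem π_mul (z : G) {E : Subgroup G} {a b : G} (ha : a ∈ E) (hb : b ∈ E) :
    π z E (a * b) = π z E a + π z E b := by
  rw [π_of_mem z ha, π_of_mem z hb, π_of_mem z (mul_mem ha hb), ← ofMul_mul, ← map_mul,
    ← QuotientGroup.mk_mul]
  rfl

theorem π_one (z : G) (E : Subgroup G) : π z E 1 = 0 := by
  have h := π_mul z (one_mem E) (one_mem E)
  rw [one_mul] at h
  exact left_eq_add.1 h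

theorem π_inv (z : G) {E : Subgroup G} {a : G} (ha : a ∈ E) : π z E a⁻¹ = -π z E a := by
  have h := π_mul z (inv_mem ha) ha
  rw [inv_mul_cancel, π_one] at h
  exact eq_neg_of_add_eq_zero_left h.symm

theorem exists_lift (z : G) (E : Subgroup G) (v : V z E) : ∃ a, a ∈ E ∧ π z E a = v := by
  obtain ⟨q, hq⟩ : ∃ q : ↥E ⧸ zsub z E, Abelianization.of q = v.toMul :=
    QuotientGroup.mk_surjective v.toMul
  obtain ⟨a, rfl⟩ := QuotientGroup.mk_surjective q
  exact ⟨a, a.2, by rw [π_of_mem z a.2]; exact congrArg Additive.ofMul hq⟩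

/-- A chosen preimage. -/
noncomputable def lift {z : G} {E : Subgroup G} (v : V z E) : G := (exists_lift z E v).choose

theorem lift_mem {z : G} {E : Subgroup G} (v : V z E) : lift v ∈ E :=
  (exists_lift z E v).choose_spec.1

theorem π_lift {z : G} {E : Subgroup G} (v : V z E) : π z E (lift v) = v :=
  (exists_lift z E v).choose_spec.2

open scoped Classical in
/-- The commutator bit. -/
noncomputable def cb (a b : G) : ZMod 2 := if a * b = b * a then 0 else 1

/-- The symplectic form. -/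
noncomputable def B {z : G} {E : Subgroup G} (x y : V z E) : ZMod 2 := cb (lift x) (lift y)

open scoped Classical in
/-- The square bit. -/
noncomputable def sb (a : G) : ZMod 2 := if a * a = 1 then 0 else 1

/-- The quadratic form. -/
noncomputable def Q {z : G} {E : Subgroup G} (x : V z E) : ZMod 2 := sb (lift x)

open scoped Classical in
/-- Conjugation as an additive endomorphism. -/
noncomputable def act (z : G) (E : Subgroup G) (g : G) : AddMonoid.End (V z E) :=
  if h : ∀ x y : V z E, π z E (g * lift (x + y) * g⁻¹) =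
      π z E (g * lift x * g⁻¹) + π z E (g * lift y * g⁻¹) then
    (AddMonoidHom.mk' (fun x => π z E (g * lift x * g⁻¹)) h : AddMonoid.End (V z E))
  else 0

theorem end_ext {A : Type u} [AddZeroClass A] {T U : AddMonoid.End A} (h : ∀ x, T x = U x) :
    T = U := DFunLike.ext _ _ h

theorem act_apply {z : G} {E : Subgroup G} {g : G}
    (h : ∀ x y : V z E, π z E (g * lift (x + y) * g⁻¹) =
      π z E (g * lift x * g⁻¹) + π z E (g * lift y * g⁻¹)) (x : V z E) :
    act z E g x = π z E (g * lift x * g⁻¹) := by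
  classical
  have e : act z E g = (AddMonoidHom.mk' (fun x => π z E (g * lift x * g⁻¹)) h :
      AddMonoid.End (V z E)) := dif_pos h
  rw [e]; rfl

section sym

variable {z : G} {E : Subgroup G}

theorem Sym.z_zpow (hS : Sym z E) (j : ℤ) : z ^ j = 1 ∨ z ^ j = z := by
  rcases Int.even_or_odd j with ⟨i, hi⟩ | ⟨i, hi⟩
  · left; rw [hi, ← two_mul, zpow_mul, zpow_two, hS.z_sq, one_zpow]
  · right; rw [hi, zpow_add_one, zpow_mul, zpow_two, hS.z_sq, one_zpow, one_mul]

theorem Sym.mem_zsub (hS : Sym z E) (y : ↥E) : y ∈ zsub z E ↔ (y : G) = 1 ∨ (y : G) = z := by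
  constructor
  · rintro ⟨hy, -⟩
    obtain ⟨j, hj⟩ := Subgroup.mem_zpowers_iff.1 (Subgroup.mem_subgroupOf.1 hy)
    rw [← hj]; exact hS.z_zpow j
  · rintro (hy | hy)
    · rw [show y = 1 from Subtype.ext hy]; exact one_mem _
    · refine ⟨Subgroup.mem_subgroupOf.2 (by rw [hy]; exact mem_zpowers z),
        Subgroup.mem_center_iff.2 fun g => Subtype.ext ?_⟩
      rw [Subgroup.coe_mul, Subgroup.coe_mul, hy]
      exact hS.z_comm g g.2

theorem Sym.quot_comm (hS : Sym z E) (p q : ↥E ⧸ zsub z E) : p * q = q * p := by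
  obtain ⟨a, rfl⟩ := QuotientGroup.mk_surjective p
  obtain ⟨b, rfl⟩ := QuotientGroup.mk_surjective q
  rw [← QuotientGroup.mk_mul, ← QuotientGroup.mk_mul, QuotientGroup.eq, hS.mem_zsub]
  simp only [Subgroup.coe_mul, Subgroup.coe_inv]
  rcases hS.comm _ b.2 _ a.2 with h | h
  · left; rw [h]; group
  · right; rw [h]; group

theorem Sym.π_eq_zero (hS : Sym z E) {a : G} (ha : a ∈ E) :
    π z E a = 0 ↔ a = 1 ∨ a = z := by
  rw [π_of_mem z ha, ← hS.mem_zsub ⟨a, ha⟩, ← QuotientGroup.eq_one_iff]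
  constructor
  · intro h
    letI : CommGroup (↥E ⧸ zsub z E) :=
      { (inferInstance : Group (↥E ⧸ zsub z E)) with mul_comm := hS.quot_comm }
    have h1 : Abelianization.of (QuotientGroup.mk (⟨a, ha⟩ : ↥E) : ↥E ⧸ zsub z E) = 1 :=
      Additive.ofMul.injective (h.trans ofMul_one.symm)
    have h2 := congrArg (Abelianization.lift (MonoidHom.id (↥E ⧸ zsub z E))) h1
    rwa [Abelianization.lift_apply_of, MonoidHom.id_apply, map_one] at h2
  · intro h
    rw [h, map_one, ofMul_one]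

theorem Sym.π_z (hS : Sym z E) : π z E z = 0 := (hS.π_eq_zero hS.z_mem).2 (Or.inr rfl)

theorem Sym.π_eq (hS : Sym z E) {a b : G} (ha : a ∈ E) (hb : b ∈ E) (h : π z E a = π z E b) :
    a = b ∨ a = b * z := by
  have h1 : π z E (b⁻¹ * a) = 0 := by
    rw [π_mul z (inv_mem hb) ha, π_inv z hb, h, neg_add_cancel]
  rcases (hS.π_eq_zero (mul_mem (inv_mem hb) ha)).1 h1 with h2 | h2
  · left; exact (inv_mul_eq_one.1 h2).symm
  · right; rw [← h2, mul_inv_cancel_left]

theorem Sym.add_self (hS : Sym z E) (x : V z E) : x + x = 0 := by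
  rw [← π_lift x, ← π_mul z (lift_mem x) (lift_mem x),
    hS.π_eq_zero (mul_mem (lift_mem x) (lift_mem x))]
  exact hS.sq _ (lift_mem x)

theorem Sym.neg_eq (hS : Sym z E) (x : V z E) : -x = x :=
  neg_eq_of_add_eq_zero_left (hS.add_self x)

theorem Sym.end_add_self (hS : Sym z E) (T : AddMonoid.End (V z E)) : T + T = 0 :=
  end_ext fun x => hS.add_self (T x)

theorem Sym.end_neg (hS : Sym z E) (T : AddMonoid.End (V z E)) : -T = T :=
  neg_eq_of_add_eq_zero_left (hS.end_add_self T)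

theorem Sym.end_sub (hS : Sym z E) (T U : AddMonoid.End (V z E)) : T - U = T + U := by
  rw [sub_eq_add_neg, hS.end_neg]

theorem Sym.end_odd_nsmul (hS : Sym z E) (T : AddMonoid.End (V z E)) {n : ℕ} (hn : Odd n) :
    n • T = T := by
  obtain ⟨m, rfl⟩ := hn
  rw [add_nsmul, mul_comm, mul_nsmul, one_nsmul, two_nsmul, ← nsmul_add, hS.end_add_self,
    nsmul_zero, zero_add]

theorem Sym.odd_nsmul (hS : Sym z E) (x : V z E) {n : ℕ} (hn : Odd n) : n • x = x := by
  obtain ⟨m, rfl⟩ := hn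
  rw [add_nsmul, mul_comm, mul_nsmul, one_nsmul, two_nsmul, ← nsmul_add, hS.add_self,
    nsmul_zero, zero_add]

theorem Sym.conj_z (hS : Sym z E) {p : G} (hp : p ∈ normalizer (E : Set G)) :
    p * z * p⁻¹ = z := by
  have hc : p * z * p⁻¹ = 1 ∨ p * z * p⁻¹ = z := by
    refine hS.nondeg _ ((mem_normalizer_iff.1 hp z).1 hS.z_mem) fun b hb => ?_
    have hb' : p⁻¹ * b * p ∈ E := by
      simpa using (mem_normalizer_iff.1 (inv_mem hp) b).1 hb
    calc p * z * p⁻¹ * b = p * (z * (p⁻¹ * b * p)) * p⁻¹ := by group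
      _ = p * (p⁻¹ * b * p * z) * p⁻¹ := by rw [hS.z_comm _ hb']
      _ = b * (p * z * p⁻¹) := by group
  refine hc.resolve_left fun h0 => hS.z_ne ?_
  rw [show z = p⁻¹ * (p * z * p⁻¹) * p by group, h0]; group

theorem cb_symm (a b : G) : cb a b = cb b a := by
  unfold cb
  by_cases h : a * b = b * a
  · rw [if_pos h, if_pos h.symm]
  · rw [if_neg h, if_neg (Ne.symm h)]

theorem cb_self (a : G) : cb a a = 0 := if_pos rfl

theorem cb_eq_zero {a b : G} : cb a b = 0 ↔ a * b = b * a := by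
  unfold cb
  by_cases h : a * b = b * a <;> simp [h]

theorem zmod_two_cases (x : ZMod 2) : x = 0 ∨ x = 1 := by revert x; decide

theorem cb_cases (hS : Sym z E) {a b : G} (ha : a ∈ E) (hb : b ∈ E) :
    (cb a b = 0 ∧ a * b = b * a) ∨ (cb a b = 1 ∧ a * b = b * a * z) := by
  unfold cb
  by_cases h : a * b = b * a
  · exact Or.inl ⟨if_pos h, h⟩
  · exact Or.inr ⟨if_neg h, (hS.comm a ha b hb).resolve_left h⟩

theorem Sym.mul_z_ne (hS : Sym z E) (a : G) : a * z ≠ a := fun h => hS.z_ne (mul_eq_left.1 h)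

theorem Sym.cb_mul (hS : Sym z E) {a b c : G} (ha : a ∈ E) (hb : b ∈ E) (hc : c ∈ E) :
    cb (a * b) c = cb a c + cb b c := by
  have hcab := mul_mem (mul_mem hc ha) hb
  rcases cb_cases hS ha hc with ⟨h1, e1⟩ | ⟨h1, e1⟩ <;>
    rcases cb_cases hS hb hc with ⟨h2, e2⟩ | ⟨h2, e2⟩ <;> rw [h1, h2]
  · rw [add_zero, cb_eq_zero, mul_assoc, e2, ← mul_assoc, e1, mul_assoc]
  · rw [zero_add, cb, if_neg]
    rw [mul_assoc, e2, ← mul_assoc, ← mul_assoc a, e1, mul_assoc c a b]
    exact hS.mul_z_ne _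
  · rw [add_zero, cb, if_neg]
    rw [mul_assoc, e2, ← mul_assoc, e1, mul_assoc (c * a), ← hS.z_comm b hb, ← mul_assoc,
      mul_assoc c a b]
    exact hS.mul_z_ne _
  · rw [show (1 + 1 : ZMod 2) = 0 from rfl, cb_eq_zero, mul_assoc, e2, ← mul_assoc, ← mul_assoc a,
      e1, mul_assoc (c * a), ← hS.z_comm b hb, ← mul_assoc, mul_assoc _ z z, hS.z_sq, mul_one,
      mul_assoc c a b]

theorem Sym.cb_z (hS : Sym z E) {c : G} (hc : c ∈ E) : cb z c = 0 :=
  cb_eq_zero.2 (hS.z_comm c hc).symm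

theorem Sym.B_π (hS : Sym z E) {a b : G} (ha : a ∈ E) (hb : b ∈ E) :
    B (π z E a) (π z E b) = cb a b := by
  have key : ∀ a' ∈ E, ∀ a ∈ E, ∀ c ∈ E, π z E a' = π z E a → cb a' c = cb a c := by
    intro a' ha' a ha c hc h
    rcases hS.π_eq ha' ha h with h1 | h1
    · rw [h1]
    · rw [h1, hS.cb_mul ha hS.z_mem hc, hS.cb_z hc, add_zero]
  show cb (lift (π z E a)) (lift (π z E b)) = cb a b
  rw [key _ (lift_mem _) a ha _ (lift_mem _) (π_lift _), cb_symm,
    key _ (lift_mem _) b hb a ha (π_lift _), cb_symm]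

theorem Sym.B_symm (hS : Sym z E) (x y : V z E) : B x y = B y x := cb_symm _ _

theorem Sym.B_self (hS : Sym z E) (x : V z E) : B x x = 0 := cb_self _

theorem Sym.B_add_left (hS : Sym z E) (x y w : V z E) : B (x + y) w = B x w + B y w := by
  rw [← π_lift x, ← π_lift y, ← π_lift w, ← π_mul z (lift_mem x) (lift_mem y),
    hS.B_π (mul_mem (lift_mem x) (lift_mem y)) (lift_mem w), hS.B_π (lift_mem x) (lift_mem w),
    hS.B_π (lift_mem y) (lift_mem w), hS.cb_mul (lift_mem x) (lift_mem y) (lift_mem w)]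

theorem Sym.B_add_right (hS : Sym z E) (x y w : V z E) : B x (y + w) = B x y + B x w := by
  rw [hS.B_symm, hS.B_add_left, hS.B_symm y, hS.B_symm w]

/-- `B x` as an additive functional. -/
noncomputable def Sym.bHom (hS : Sym z E) (x : V z E) : V z E →+ ZMod 2 :=
  AddMonoidHom.mk' (fun y => B x y) (hS.B_add_right x)

theorem Sym.B_zero_left (hS : Sym z E) (x : V z E) : B 0 x = 0 := by
  rw [hS.B_symm]; exact (hS.bHom x).map_zero

theorem Sym.B_zero_right (hS : Sym z E) (x : V z E) : B x 0 = 0 := (hS.bHom x).map_zero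

theorem Sym.B_nondeg (hS : Sym z E) {x : V z E} (h : ∀ y, B x y = 0) : x = 0 := by
  rw [← π_lift x, hS.π_eq_zero (lift_mem x)]
  refine hS.nondeg _ (lift_mem x) fun b hb => cb_eq_zero.1 ?_
  rw [← hS.B_π (lift_mem x) hb, π_lift]
  exact h _

theorem Sym.eq_of_B (hS : Sym z E) {x y : V z E} (h : ∀ w, B w x = B w y) : x = y := by
  have h1 : x + y = 0 := hS.B_nondeg fun w => by
    rw [hS.B_add_left, hS.B_symm x, hS.B_symm y, h w, CharTwo.add_self_eq_zero]
  rw [eq_neg_of_add_eq_zero_left h1, hS.neg_eq]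

theorem sb_eq_zero {a : G} : sb a = 0 ↔ a * a = 1 := by
  unfold sb
  by_cases h : a * a = 1 <;> simp [h]

theorem Sym.sb_cases (hS : Sym z E) {a : G} (ha : a ∈ E) :
    (sb a = 0 ∧ a * a = 1) ∨ (sb a = 1 ∧ a * a = z) := by
  unfold sb
  by_cases h : a * a = 1
  · exact Or.inl ⟨if_pos h, h⟩
  · exact Or.inr ⟨if_neg h, (hS.sq a ha).resolve_left h⟩

theorem Sym.sb_mul (hS : Sym z E) {a b : G} (ha : a ∈ E) (hb : b ∈ E) :
    sb (a * b) = sb a + sb b + cb a b := by
  have val : ∀ w ∈ E, (w * w = 1 → sb w = 0) ∧ (w * w = z → sb w = 1) := fun w hw =>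
    ⟨fun h => sb_eq_zero.2 h, fun h => if_neg (by rw [h]; exact hS.z_ne)⟩
  obtain ⟨hw0, hw1⟩ := val _ (mul_mem ha hb)
  have hexp : a * b * (a * b) = a * (b * a) * b := by group
  rcases cb_cases hS ha hb with ⟨h3, e3⟩ | ⟨h3, e3⟩
  · have e : a * b * (a * b) = a * a * (b * b) := by
      rw [hexp, ← e3]; group
    rcases hS.sb_cases ha with ⟨h1, e1⟩ | ⟨h1, e1⟩ <;>
      rcases hS.sb_cases hb with ⟨h2, e2⟩ | ⟨h2, e2⟩ <;> rw [h1, h2, h3] <;> rw [e1, e2] at e
    · rw [hw0 (by rw [e, mul_one])]; rfl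
    · rw [hw1 (by rw [e, one_mul])]; rfl
    · rw [hw1 (by rw [e, mul_one])]; rfl
    · rw [hw0 (by rw [e, hS.z_sq])]; rfl
  · have hba : b * a = a * b * z := by
      rw [e3, mul_assoc, hS.z_sq, mul_one]
    have e : a * b * (a * b) = a * a * (b * b) * z := by
      rw [hexp, hba]
      calc a * (a * b * z) * b = a * a * b * (z * b) := by group
        _ = _ := by rw [← hS.z_comm b hb]; group
    rcases hS.sb_cases ha with ⟨h1, e1⟩ | ⟨h1, e1⟩ <;>
      rcases hS.sb_cases hb with ⟨h2, e2⟩ | ⟨h2, e2⟩ <;> rw [h1, h2, h3] <;> rw [e1, e2] at e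
    · rw [hw1 (by rw [e, one_mul, one_mul])]; rfl
    · rw [hw0 (by rw [e, one_mul, hS.z_sq])]; rfl
    · rw [hw0 (by rw [e, mul_one, hS.z_sq])]; rfl
    · rw [hw1 (by rw [e, hS.z_sq, one_mul])]; rfl

theorem Sym.Q_π (hS : Sym z E) {a : G} (ha : a ∈ E) : Q (π z E a) = sb a := by
  show sb (lift (π z E a)) = sb a
  rcases hS.π_eq (lift_mem (π z E a)) ha (π_lift _) with h | h
  · rw [h]
  · rw [h, hS.sb_mul ha hS.z_mem, cb_symm, hS.cb_z ha, add_zero,
      sb_eq_zero.2 hS.z_sq, add_zero]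

theorem Sym.Q_add (hS : Sym z E) (x y : V z E) : Q (x + y) = Q x + Q y + B x y := by
  have h := hS.Q_π (mul_mem (lift_mem x) (lift_mem y))
  rw [π_mul z (lift_mem x) (lift_mem y), π_lift, π_lift] at h
  rw [h]
  exact hS.sb_mul (lift_mem x) (lift_mem y)

theorem Sym.act_π (hS : Sym z E) {g : G} (hg : g ∈ normalizer (E : Set G)) {a : G} (ha : a ∈ E) :
    act z E g (π z E a) = π z E (g * a * g⁻¹) := by
  have hm : ∀ y ∈ E, g * y * g⁻¹ ∈ E := fun y hy => (mem_normalizer_iff.1 hg y).1 hy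
  have key : ∀ a ∈ E, π z E (g * lift (π z E a) * g⁻¹) = π z E (g * a * g⁻¹) := by
    intro a ha
    rcases hS.π_eq (lift_mem (π z E a)) ha (π_lift _) with h | h
    · rw [h]
    · rw [h, show g * (a * z) * g⁻¹ = g * a * g⁻¹ * (g * z * g⁻¹) by group, hS.conj_z hg,
        π_mul z (hm a ha) hS.z_mem, hS.π_z, add_zero]
  have hh : ∀ x y : V z E, π z E (g * lift (x + y) * g⁻¹) =
      π z E (g * lift x * g⁻¹) + π z E (g * lift y * g⁻¹) := by
    intro x y
    have h := key _ (mul_mem (lift_mem x) (lift_mem y))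
    rw [π_mul z (lift_mem x) (lift_mem y), π_lift, π_lift] at h
    rw [h, ← π_mul z (hm _ (lift_mem x)) (hm _ (lift_mem y))]
    congr 1
    group
  rw [act_apply hh]
  exact key a ha

theorem Sym.act_mul (hS : Sym z E) {g h : G} (hg : g ∈ normalizer (E : Set G))
    (hh : h ∈ normalizer (E : Set G)) : act z E (g * h) = act z E g * act z E h := by
  refine end_ext fun x => ?_
  rw [← π_lift x]
  show act z E (g * h) (π z E (lift x)) = act z E g (act z E h (π z E (lift x)))
  rw [hS.act_π (mul_mem hg hh) (lift_mem x), hS.act_π hh (lift_mem x),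
    hS.act_π hg ((mem_normalizer_iff.1 hh _).1 (lift_mem x))]
  congr 1
  group

theorem Sym.act_one (hS : Sym z E) : act z E 1 = 1 := by
  refine end_ext fun x => ?_
  show act z E 1 x = x
  have h := hS.act_π (one_mem (normalizer (E : Set G))) (lift_mem x)
  rwa [π_lift, one_mul, inv_one, mul_one, π_lift] at h

theorem Sym.act_inv (hS : Sym z E) {g : G} (hg : g ∈ normalizer (E : Set G)) :
    act z E g⁻¹ * act z E g = 1 := by
  rw [← hS.act_mul (inv_mem hg) hg, inv_mul_cancel, hS.act_one]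

theorem Sym.B_act (hS : Sym z E) {g : G} (hg : g ∈ normalizer (E : Set G)) (x y : V z E) :
    B (act z E g x) (act z E g y) = B x y := by
  rw [← π_lift x, ← π_lift y, hS.act_π hg (lift_mem x), hS.act_π hg (lift_mem y),
    hS.B_π ((mem_normalizer_iff.1 hg _).1 (lift_mem x)) ((mem_normalizer_iff.1 hg _).1 (lift_mem y)),
    hS.B_π (lift_mem x) (lift_mem y)]
  have e : ∀ a b : G, g * a * g⁻¹ * (g * b * g⁻¹) = g * (a * b) * g⁻¹ := fun a b => by group
  unfold cb
  by_cases h : lift x * lift y = lift y * lift x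
  · rw [if_pos h, if_pos (by rw [e, e, h])]
  · rw [if_neg h, if_neg (by rw [e, e, mul_left_inj, mul_right_inj]; exact h)]

theorem Sym.Q_act (hS : Sym z E) {g : G} (hg : g ∈ normalizer (E : Set G)) (x : V z E) :
    Q (act z E g x) = Q x := by
  rw [← π_lift x, hS.act_π hg (lift_mem x),
    hS.Q_π ((mem_normalizer_iff.1 hg _).1 (lift_mem x)), hS.Q_π (lift_mem x)]
  have e : g * lift x * g⁻¹ * (g * lift x * g⁻¹) = g * (lift x * lift x) * g⁻¹ := by group
  unfold sb
  by_cases h : lift x * lift x = 1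
  · rw [if_pos h, if_pos (by rw [e, h]; group)]
  · rw [if_neg h, if_neg (by rw [e, conj_eq_one_iff]; exact h)]

theorem Sym.B_act_adj (hS : Sym z E) {g : G} (hg : g ∈ normalizer (E : Set G)) (x y : V z E) :
    B (act z E g x) y = B x (act z E g⁻¹ y) := by
  rw [← hS.B_act (inv_mem hg) (act z E g x) y]
  congr 1
  exact DFunLike.congr_fun (hS.act_inv hg) x

end sym

end CfsgLib.ExtraExtend
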