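import Cfsg.Agent.Char.ExtraExtend.Rep

/-!
# Eigenprojections of matrices of finite order
-/

set_option autoImplicit false
set_option linter.unusedSectionVars false
set_option linter.unusedVariables false

namespace CfsgLib.ExtraExtend

variable {N : ℕ}

theorem pow_mul_eproj {X : Mat N} {M : ℕ} (hM : 0 < M) (hX : X ^ M = 1) {w : ℂ} (hw : w ^ M = 1)
    (j : ℕ) : X ^ j * eproj X M w = w ^ j • eproj X M w := by
  have hw0 : w ≠ 0 := fun h0 => by rw [h0, zero_pow hM.ne'] at hw; exact zero_ne_one hw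
  induction j with
  | zero => rw [pow_zero, pow_zero, one_mul, one_smul]
  | succ j ih =>
    have h1 : X * eproj X M w = w • eproj X M w := by
      conv_rhs => rw [← smul_eproj hM hX hw]
      rw [smul_mul_assoc, smul_smul, mul_inv_cancel₀ hw0, one_smul]
    rw [pow_succ, mul_assoc, h1, mul_smul_comm, ih, smul_smul, pow_succ']

theorem sum_eproj {X : Mat N} {M : ℕ} (hM : 0 < M) {ω : ℂ} (hω : IsPrimitiveRoot ω M) :
    ∑ i ∈ Finset.range M, eproj X M (ω ^ i) = 1 := by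
  simp only [eproj, ← Finset.smul_sum]
  rw [Finset.sum_comm, Finset.sum_eq_single 0]
  · simp only [pow_zero, one_smul, Finset.sum_const, Finset.card_range]
    rw [← Nat.cast_smul_eq_nsmul ℂ, smul_smul, inv_mul_cancel₀ (Nat.cast_ne_zero.2 hM.ne'),
      one_smul]
  · intro j hj hj0
    rw [← Finset.sum_smul]
    have h1 : ∑ i ∈ Finset.range M, ((ω ^ i)⁻¹) ^ j = 0 := by
      simp only [← inv_pow, ← pow_mul, mul_comm _ j]
      simp only [pow_mul]
      have hne : (ω⁻¹) ^ j ≠ 1 := by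
        rw [inv_pow, ne_eq, inv_eq_one]
        exact hω.pow_ne_one_of_pos_of_lt hj0 (Finset.mem_range.1 hj)
      have h2 := geom_sum_mul ((ω⁻¹) ^ j) M
      rw [← pow_mul, mul_comm j M, pow_mul, inv_pow ω M, hω.pow_eq_one, inv_one, one_pow,
        sub_self] at h2
      exact (mul_eq_zero.1 h2).resolve_right (sub_ne_zero.2 hne)
    rw [h1, zero_smul]
  · exact fun h => absurd (Finset.mem_range.2 hM) h

theorem trace_pow_eq_sum {X : Mat N} {M : ℕ} (hM : 0 < M) {ω : ℂ} (hω : IsPrimitiveRoot ω M)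
    (hX : X ^ M = 1) (j : ℕ) :
    Matrix.trace (X ^ j) = ∑ i ∈ Finset.range M, (ω ^ i) ^ j * Matrix.trace (eproj X M (ω ^ i)) := by
  conv_lhs => rw [← mul_one (X ^ j), ← sum_eproj (X := X) hM hω, Finset.mul_sum]
  rw [Matrix.trace_sum]
  refine Finset.sum_congr rfl fun i _ => ?_
  rw [pow_mul_eproj hM hX (by rw [← pow_mul, mul_comm, pow_mul, hω.pow_eq_one, one_pow]),
    Matrix.trace_smul, smul_eq_mul]

theorem exists_odd_mult {X : Mat N} {q : ℕ} (hq : 0 < q) (hX : X ^ q = 1)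
    (htr : Matrix.trace X * Matrix.trace (X ^ (q - 1)) = 1) :
    ∃ w : ℂ, w ^ q = 1 ∧ ∃ m : ℕ, Odd m ∧
      ∀ c : ℂ, (c • eproj X q w + (1 - eproj X q w)).det = c ^ m := by
  haveI : NeZero q := ⟨hq.ne'⟩
  set ω := Complex.exp (2 * Real.pi * Complex.I / q) with hωdef
  have hω : IsPrimitiveRoot ω q := Complex.isPrimitiveRoot_exp q hq.ne'
  have hpow : ∀ i : ℕ, (ω ^ i) ^ q = 1 := fun i => by
    rw [← pow_mul, mul_comm, pow_mul, hω.pow_eq_one, one_pow]
  have hint : IsIntegral ℤ ω := IsIntegral.of_pow hq (by rw [hω.pow_eq_one]; exact isIntegral_one)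
  choose m hm hdet using fun i : ℕ => exists_rank (eproj_idem hq hX (hpow i))
  by_cases hodd : ∃ i, Odd (m i)
  · obtain ⟨i, hi⟩ := hodd
    exact ⟨ω ^ i, hpow i, m i, hi, hdet i⟩
  exfalso
  push Not at hodd
  have key : ∀ j : ℕ, ∃ A : ℂ, IsIntegral ℤ A ∧ Matrix.trace (X ^ j) = 2 * A := fun j => by
    refine ⟨∑ i ∈ Finset.range q, (ω ^ i) ^ j * ((m i / 2 : ℕ) : ℂ),
      IsIntegral.sum _ fun i _ => ((hint.pow i).pow j).mul (isIntegral_algebraMap (R := ℤ) (x := (↑(m i / 2) : ℤ))), ?_⟩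
    rw [trace_pow_eq_sum hq hω hX j, Finset.mul_sum]
    refine Finset.sum_congr rfl fun i _ => ?_
    obtain ⟨r, hr⟩ := Nat.not_odd_iff_even.1 (hodd i)
    rw [hm i, show m i / 2 = r by omega, hr, Nat.cast_add]
    ring
  obtain ⟨A, hA, hA'⟩ := key 1
  obtain ⟨B, hB, hB'⟩ := key (q - 1)
  rw [pow_one] at hA'
  rw [hA', hB'] at htr
  have hq' : IsIntegral ℤ ((1 / 4 : ℚ) : ℂ) := by
    have e : A * B = ((1 / 4 : ℚ) : ℂ) := by push_cast; linear_combination htr / 4
    rw [← e]; exact hA.mul hB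
  have h4 : IsIntegral ℤ (1 / 4 : ℚ) :=
    (isIntegral_algebraMap_iff (algebraMap ℚ ℂ).injective).1 (by simpa using hq')
  obtain ⟨n, hn⟩ := IsIntegrallyClosed.isIntegral_iff.1 h4
  have h5 : ((4 * n : ℤ) : ℚ) = ((1 : ℤ) : ℚ) := by
    have : (algebraMap ℤ ℚ) n = (n : ℚ) := rfl
    rw [this] at hn
    push_cast
    linarith
  have := Int.cast_injective h5
  omega

theorem eproj_conj {S X Y : Mat N} (h : S * X = Y * S) (M : ℕ) (w : ℂ) :
    S * eproj X M w = eproj Y M w * S := by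
  rw [eproj, eproj, mul_smul_comm, smul_mul_assoc, Finset.mul_sum, Finset.sum_mul]
  congr 1
  refine Finset.sum_congr rfl fun j _ => ?_
  rw [mul_smul_comm, smul_mul_assoc]
  congr 1
  exact (show SemiconjBy S X Y from h).pow_right j

theorem eproj_pow {X : Mat N} {q i j : ℕ} (hq : 0 < q) (hX : X ^ q = 1) {w : ℂ} (hw : w ^ q = 1)
    (hij : i * j % q = 1 % q) : eproj (X ^ i) q w = eproj X q (w ^ j) := by
  rw [eproj, eproj]
  congr 1
  have hwi : (w⁻¹) ^ q = 1 := by rw [inv_pow, hw, inv_one]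
  have e1 : ∀ n, n * i % q * j % q = n % q := fun n => by
    rw [Nat.mod_mul_mod, mul_assoc, Nat.mul_mod, hij, ← Nat.mul_mod, mul_one]
  have e2 : ∀ n, n * j % q * i % q = n % q := fun n => by
    rw [Nat.mod_mul_mod, mul_assoc, mul_comm j i, Nat.mul_mod, hij, ← Nat.mul_mod, mul_one]
  refine Finset.sum_bij' (fun n _ => n * i % q) (fun n _ => n * j % q)
    (fun n _ => Finset.mem_range.2 (Nat.mod_lt _ hq)) (fun n _ => Finset.mem_range.2 (Nat.mod_lt _ hq))
    (fun n hn => by rw [e1, Nat.mod_eq_of_lt (Finset.mem_range.1 hn)])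
    (fun n hn => by rw [e2, Nat.mod_eq_of_lt (Finset.mem_range.1 hn)]) fun n hn => ?_
  rw [← pow_eq_pow_mod (n * i) hX, ← pow_mul, mul_comm i n, ← inv_pow, ← pow_mul]
  congr 1
  rw [pow_eq_pow_mod (j * (n * i % q)) hwi, mul_comm j, e1, Nat.mod_eq_of_lt (Finset.mem_range.1 hn)]

theorem map_pow' (s : ℂ →+* ℂ) (X : Mat N) (n : ℕ) : (X ^ n).map s = (X.map s) ^ n :=
  map_pow s.mapMatrix X n

theorem map_smul' (s : ℂ →+* ℂ) (c : ℂ) (X : Mat N) : (c • X).map s = s c • X.map s := by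
  ext a b; simp

theorem map_eproj (s : ℂ →+* ℂ) (X : Mat N) (M : ℕ) (w : ℂ) :
    (eproj X M w).map s = eproj (X.map s) M (s w) := by
  rw [eproj, eproj, map_smul', map_inv₀, map_natCast]
  congr 1
  rw [show (∑ j ∈ Finset.range M, (w⁻¹) ^ j • X ^ j).map s =
    ∑ j ∈ Finset.range M, ((w⁻¹) ^ j • X ^ j).map s from map_sum s.mapMatrix _ _]
  refine Finset.sum_congr rfl fun j _ => ?_
  rw [map_smul', map_pow', map_pow, map_inv₀]

theorem scalar_eq_one {S X Y : Mat N} {c : ℂ} {q : ℕ} (hS : IsUnit S) (h : S * X = c • (Y * S))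
    (hX : X ^ q = 1) (hY : Y ^ q = 1) (hdX : X.det = 1) (hdY : Y.det = 1) (hN : 0 < N)
    (hcop : Nat.Coprime N q) : c = 1 := by
  have hpow : ∀ n : ℕ, S * X ^ n = c ^ n • (Y ^ n * S) := by
    intro n
    induction n with
    | zero => simp
    | succ n ih =>
      rw [pow_succ, ← mul_assoc, ih, smul_mul_assoc, mul_assoc, h, mul_smul_comm, smul_smul,
        ← mul_assoc, ← pow_succ, ← pow_succ]
  have hcq : c ^ q = 1 := by
    have h1 := hpow q
    rw [hX, hY, mul_one, one_mul] at h1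
    have h2 : (c ^ q - 1) • S = 0 := by rw [sub_smul, one_smul, ← h1, sub_self]
    haveI : Nonempty (Fin N) := Fin.pos_iff_nonempty.1 hN
    exact sub_eq_zero.1 ((smul_eq_zero.1 h2).resolve_right hS.ne_zero)
  have hdS : S.det ≠ 0 := ((Matrix.isUnit_iff_isUnit_det _).1 hS).ne_zero
  have hcN : c ^ N = 1 := by
    have h1 := congrArg Matrix.det h
    rw [Matrix.det_mul, hdX, mul_one, Matrix.det_smul, Matrix.det_mul, hdY, one_mul,
      Fintype.card_fin] at h1
    exact (mul_eq_right₀ hdS).1 h1.symm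
  have := pow_gcd_eq_one.2 ⟨hcN, hcq⟩
  rwa [hcop, pow_one] at this

end CfsgLib.ExtraExtend
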