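import Cfsg.Agent.Char.ExtraExtend.Lift
import Cfsg.Agent.Char.ExtraExtend.Spectral
import Cfsg.Agent.Char.GaloisTwist

/-!
# The case of a field with nontrivial involution

An operator of odd prime order commuting with `K` gives an eigenspace of odd dimension; the mixed
determinant on it and on the whole space normalises the intertwiners, and a Galois automorphism
makes the normalisation invariant under the elements moving the eigenvalue.
-/

set_option autoImplicit false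
set_option linter.unusedSectionVars false
set_option linter.unusedVariables false
set_option linter.style.haveILetI false

namespace CfsgLib.ExtraExtend

open Subgroup

universe u

variable {G : Type u} [Group G] [Finite G] {z : G} {E K P : Subgroup G} {N : ℕ}

theorem Sym.isPGroup (hS : Sym z E) : IsPGroup 2 ↥E := fun a => ⟨2, Subtype.ext (by
  rw [Subgroup.coe_pow, show 2 ^ 2 = 2 + 2 from rfl, pow_add, pow_two, Subgroup.coe_one]
  rcases hS.sq _ a.2 with e | e <;> rw [e]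
  · rw [one_mul]
  · exact hS.z_sq)⟩

theorem Sym.coprime_deg (hS : Sym z E) {σ : G → Mat N} (hσ : ERep z E N σ) {m : ℕ} (hm : Odd m) :
    Nat.Coprime N m := by
  haveI : Fact (Nat.Prime 2) := ⟨Nat.prime_two⟩
  obtain ⟨k, hk⟩ := IsPGroup.iff_card.1 hS.isPGroup
  have hd : N ∣ 2 ^ k := ⟨2 * N, by rw [← hk, ← hσ.card]; ring⟩
  obtain ⟨j, -, rfl⟩ := (Nat.dvd_prime_pow Nat.prime_two).1 hd
  exact (Nat.coprime_two_left.2 hm).pow_left j

theorem Sym.exists_trace_ne (hS : Sym z E) {σ : G → Mat N} (hσ : ERep z E N σ) {R : Mat N}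
    (hR : R ≠ 0) : ∃ b ∈ E, Matrix.trace (σ b * R) ≠ 0 := by
  by_contra hcon
  push Not at hcon
  refine hR ?_
  have hall : ∀ Y : Mat N, Matrix.trace (Y * R) = 0 := by
    intro Y
    have hY : Y ∈ Submodule.span ℂ (σ '' (E : Set G)) := by rw [hS.span_top hσ]; trivial
    induction hY using Submodule.span_induction with
    | mem x hx => obtain ⟨a, ha, rfl⟩ := hx; exact hcon a ha
    | zero => rw [zero_mul, Matrix.trace_zero]
    | add x y _ _ hx hy => rw [add_mul, Matrix.trace_add, hx, hy, add_zero]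
    | smul c x _ hx => rw [smul_mul_assoc, Matrix.trace_smul, hx, smul_zero]
  ext i j
  have h := hall (Matrix.single j i 1)
  rw [Matrix.trace, Finset.sum_eq_single j] at h
  · rwa [Matrix.diag_apply, Matrix.single_mul_apply_same, one_mul] at h
  · intro b _ hb
    rw [Matrix.diag_apply, Matrix.single_mul_apply_of_ne _ _ _ _ _ hb]
  · intro hk; exact absurd (Finset.mem_univ j) hk

theorem iterate_isLift {a : AddMonoid.End (V z E)} {α : G → G} (hα : IsLift z E K a α)
    (hK : K ≤ normalizer (E : Set G)) : ∀ n : ℕ, IsLift z E K (a ^ n) (α^[n])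
  | 0 => ⟨fun b hb => hb, fun b _ c _ => rfl, fun b _ => rfl, rfl, fun k _ b _ => rfl⟩
  | n + 1 => by
    have ih := iterate_isLift hα hK n
    refine ⟨fun b hb => ?_, fun b hb c hc => ?_, fun b hb => ?_, ?_, fun k hk b hb => ?_⟩
    · rw [Function.iterate_succ_apply']; exact hα.mem _ (ih.mem b hb)
    · simp only [Function.iterate_succ_apply', ih.mul b hb c hc,
        hα.mul _ (ih.mem b hb) _ (ih.mem c hc)]
    · rw [Function.iterate_succ_apply', hα.proj _ (ih.mem b hb), ih.proj b hb, pow_succ', mul_app]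
    · rw [Function.iterate_succ_apply', ih.map_z, hα.map_z]
    · simp only [Function.iterate_succ_apply', ih.equiv k hk b hb, hα.equiv k hk _ (ih.mem b hb)]

theorem Hyp.iterate_eq_self (h : Hyp z E K P) {a : AddMonoid.End (V z E)} {α : G → G}
    (hα : IsLift z E K a α) {q : ℕ} (haq : a ^ q = 1) : ∀ b ∈ E, (α^[q]) b = b :=
  h.lift_unique (iterate_isLift hα h.kN q)
    (β := id) ⟨fun b hb => hb, fun b _ c _ => rfl, fun b _ => by rw [haq]; rfl, rfl,
      fun k _ b _ => rfl⟩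

theorem inter_pow {σ : G → Mat N} {α : G → G} {τ : Mat N} (hmem : ∀ b ∈ E, α b ∈ E)
    (hτ : ∀ b ∈ E, τ * σ b = σ (α b) * τ) : ∀ n : ℕ, ∀ b ∈ E, τ ^ n * σ b = σ (α^[n] b) * τ ^ n
  | 0, b, _ => by simp
  | n + 1, b, hb => by
    have hm : ∀ k : ℕ, (α^[k]) b ∈ E := fun k => by
      induction k with
      | zero => exact hb
      | succ k ih => rw [Function.iterate_succ_apply']; exact hmem _ ih
    rw [pow_succ', mul_assoc, inter_pow hmem hτ n b hb, ← mul_assoc, hτ _ (hm n), mul_assoc,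
      Function.iterate_succ_apply']

/-- The lift, as a matrix of order `q` and determinant `1`. -/
theorem Hyp.exists_tau (h : Hyp z E K P) {σ : G → Mat N} (hσ : ERep z E N σ)
    {a : AddMonoid.End (V z E)} {α : G → G} (hα : IsLift z E K a α) {q : ℕ} (hq : q.Prime)
    (hq2 : q ≠ 2) (haq : a ^ q = 1) :
    ∃ τ : Mat N, IsUnit τ ∧ τ ^ q = 1 ∧ τ.det = 1 ∧ ∀ b ∈ E, τ * σ b = σ (α b) * τ := by
  have hS := h.sym
  haveI : Nonempty (Fin N) := Fin.pos_iff_nonempty.1 hσ.pos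
  obtain ⟨τ₀, hu, hI⟩ := hS.exists_inter hσ (hσ.comp α hα.mem hα.mul hα.map_z)
  obtain ⟨c, hc⟩ := hS.scalar_of_comm hσ (X := τ₀ ^ q) fun b hb => by
    rw [inter_pow hα.mem hI q b hb, h.iterate_eq_self hα haq b hb]
  have hc0 : c ≠ 0 := by
    rintro rfl
    rw [zero_smul] at hc
    exact (hu.pow q).ne_zero hc
  obtain ⟨r, hr⟩ := IsAlgClosed.exists_pow_nat_eq c⁻¹ hq.pos
  set τ₁ := r • τ₀ with hτ₁
  have h1 : τ₁ ^ q = 1 := by
    rw [hτ₁, smul_pow, hc, hr, smul_smul, inv_mul_cancel₀ hc0, one_smul]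
  have hd : τ₁.det ^ q = 1 := by rw [← Matrix.det_pow, h1, Matrix.det_one]
  set δ := τ₁.det with hδ
  have hδ0 : δ ≠ 0 := fun h0 => by rw [h0, zero_pow hq.pos.ne'] at hd; exact zero_ne_one hd
  have hco : Int.gcd (N : ℤ) (q : ℤ) = 1 := hS.coprime_deg hσ (hq.odd_of_ne_two hq2)
  set A := Int.gcdA (N : ℤ) (q : ℤ)
  have hbez : (N : ℤ) * A + (q : ℤ) * Int.gcdB (N : ℤ) (q : ℤ) = 1 := by
    rw [← Int.gcd_eq_gcd_ab, hco, Nat.cast_one]
  refine ⟨δ ^ (-A) • τ₁, ?_, ?_, ?_, ?_⟩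
  · refine IsUnit.of_pow_eq_one (n := q) ?_ hq.pos.ne'
    rw [smul_pow, h1, ← zpow_natCast, ← zpow_mul, mul_comm, zpow_mul, zpow_natCast, hd, one_zpow,
      one_smul]
  · rw [smul_pow, h1, ← zpow_natCast, ← zpow_mul, mul_comm, zpow_mul, zpow_natCast, hd, one_zpow,
      one_smul]
  · rw [Matrix.det_smul, Fintype.card_fin, ← hδ, ← zpow_natCast, ← zpow_mul, ← zpow_add_one₀ hδ0,
      show -A * (N : ℤ) + 1 = (q : ℤ) * Int.gcdB (N : ℤ) (q : ℤ) by linarith, zpow_mul, zpow_natCast,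
      hd, one_zpow]
  · intro b hb
    rw [hτ₁, smul_smul, smul_mul_assoc, mul_smul_comm, hI b hb]

theorem Hyp.trace_tau (h : Hyp z E K P) {σ : G → Mat N} (hσ : ERep z E N σ)
    {a : AddMonoid.End (V z E)} {α : G → G} (hα : IsLift z E K a α) {q : ℕ} (hq : 0 < q)
    (hfp : ∀ x : V z E, a x = x → x = 0) {τ : Mat N}
    (hτq : τ ^ q = 1) (hτ : ∀ b ∈ E, τ * σ b = σ (α b) * τ) :
    Matrix.trace τ * Matrix.trace (τ ^ (q - 1)) = 1 := by
  classical
  have hS := h.sym
  haveI : Fintype E := Fintype.ofFinite _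
  have h1 := hS.avg hσ τ
  have e : ∀ b : E, σ b * τ * σ (b : G)⁻¹ * τ ^ (q - 1) = σ ((b : G) * α (b : G)⁻¹) := by
    intro b
    rw [mul_assoc (σ b), hτ _ (inv_mem b.2), ← mul_assoc, mul_assoc, ← pow_succ',
      Nat.sub_add_cancel hq, hτq, mul_one, ← hσ.mul _ b.2 _ (hα.mem _ (inv_mem b.2))]
  have h2 := congrArg (fun Y => Matrix.trace (Y * τ ^ (q - 1))) h1
  simp only [Finset.sum_mul, smul_mul_assoc, one_mul, Matrix.trace_smul, Matrix.trace_sum, e,
    smul_eq_mul] at h2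
  have hα1 : α 1 = 1 := by
    have := hα.mul 1 (one_mem E) 1 (one_mem E)
    rwa [one_mul, eq_comm, mul_eq_left] at this
  rw [Finset.sum_eq_add (⟨1, one_mem _⟩ : E) ⟨z, hS.z_mem⟩] at h2
  · simp only [inv_one, hα1, mul_one, hσ.one, hS.inv_z, hα.map_z, hS.z_sq, trace_one'] at h2
    have hN : (N : ℂ) ≠ 0 := Nat.cast_ne_zero.2 hσ.pos.ne'
    refine mul_left_cancel₀ (mul_ne_zero two_ne_zero hN) ?_
    linear_combination -h2
  · exact fun he => hS.z_ne (congrArg Subtype.val he).symm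
  · intro b _ hb
    have hm := mul_mem b.2 (hα.mem _ (inv_mem b.2))
    have hπ : π z E ((b : G) * α (b : G)⁻¹) ≠ 0 := by
      intro h0
      rw [π_mul z b.2 (hα.mem _ (inv_mem b.2)), hα.proj _ (inv_mem b.2), π_inv z b.2, map_neg,
        hS.neg_eq] at h0
      have h3 : a (π z E (b : G)) = π z E (b : G) := by
        rw [eq_neg_of_add_eq_zero_right h0, hS.neg_eq]
      rcases (hS.π_eq_zero b.2).1 (hfp _ h3) with e1 | e1
      · exact hb.1 (Subtype.ext e1)
      · exact hb.2 (Subtype.ext e1)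
    exact hS.trace_eq_zero hσ hm (fun e1 => hπ ((hS.π_eq_zero hm).2 (Or.inl e1)))
      fun e1 => hπ ((hS.π_eq_zero hm).2 (Or.inr e1))
  · exact fun hk => absurd (Finset.mem_univ _) hk
  · exact fun hk => absurd (Finset.mem_univ _) hk

/-- The case where the ring is a field with nontrivial involution. -/
theorem Hyp.ext_of_field (h : Hyp z E K P) {σ : G → Mat N} (hσ : ERep z E N σ)
    (hfield : ∀ T ∈ cR z E K, T ≠ 0 → ∃ U ∈ cR z E K, T * U = 1) {b : AddMonoid.End (V z E)}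
    (hb : b ∈ cR z E K) (hne : adj z E K b ≠ b) : Ext z E P := by
  classical
  have hS := h.sym
  have hN0 := hσ.pos
  haveI : Nonempty (Fin N) := Fin.pos_iff_nonempty.1 hN0
  obtain ⟨a, ham, q, hq, hq2, haq, ha1, hisom, hfp⟩ := h.exists_unitary hfield hb hne
  haveI := Fact.mk hq
  haveI : NeZero q := ⟨hq.ne_zero⟩
  obtain ⟨α, hα⟩ := h.exists_lift_end ham hisom
  obtain ⟨τ, hτu, hτq, hτd, hτ⟩ := h.exists_tau hσ hα hq hq2 haq
  obtain ⟨ζ, hζ, m, hm, hdet⟩ := exists_odd_mult hq.pos hτq (h.trace_tau hσ hα hq.pos hfp hτq hτ)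
  obtain ⟨u, v, huv⟩ : ∃ u v : ℤ, (N : ℤ) * u + (m : ℤ) * v = 1 :=
    ⟨Int.gcdA (N : ℤ) (m : ℤ), Int.gcdB (N : ℤ) (m : ℤ), by
      rw [← Int.gcd_eq_gcd_ab, show Int.gcd (N : ℤ) (m : ℤ) = 1 from hS.coprime_deg hσ hm,
        Nat.cast_one]⟩
  -- the powers by which `P` acts on `a`
  have hroot : ∀ T ∈ cR z E K, T ^ q = 1 → ∃ i < q, a ^ i = T := by
    intro T hT hTq
    letI : CommRing ↥(cR z E K) :=
      { (inferInstance : Ring ↥(cR z E K)) with
        mul_comm := fun x y => Subtype.ext (h.comm x.2 y.2) }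
    haveI : Nontrivial ↥(cR z E K) := ⟨⟨⟨a, ham⟩, 1, fun e => ha1 (congrArg Subtype.val e)⟩⟩
    haveI : NoZeroDivisors ↥(cR z E K) := ⟨fun {x y} hxy => by
      rcases eq_or_ne (x : AddMonoid.End (V z E)) 0 with h0 | h0
      · exact Or.inl (Subtype.ext h0)
      · obtain ⟨w, hw, hxw⟩ := hfield _ x.2 h0
        right
        refine Subtype.ext ?_
        have h2 : (x : AddMonoid.End (V z E)) * (y : AddMonoid.End (V z E)) = 0 :=
          congrArg Subtype.val hxy
        calc (y : AddMonoid.End (V z E)) = w * (x * y) := by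
              rw [← mul_assoc, h.comm hw x.2, hxw, one_mul]
          _ = 0 := by rw [h2, mul_zero]⟩
    haveI : IsDomain ↥(cR z E K) := NoZeroDivisors.to_isDomain _
    have ha' : IsPrimitiveRoot (⟨a, ham⟩ : ↥(cR z E K)) q :=
      IsPrimitiveRoot.iff_orderOf.2 (orderOf_eq_prime (Subtype.ext haq)
        fun e => ha1 (congrArg Subtype.val e))
    obtain ⟨i, hi, hie⟩ := ha'.eq_pow_of_pow_eq_one (ξ := (⟨T, hT⟩ : ↥(cR z E K))) (Subtype.ext hTq)
    exact ⟨i, hi, congrArg Subtype.val hie⟩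
  let Cj : G → AddMonoid.End (V z E) → AddMonoid.End (V z E) :=
    fun p T => act z E p * T * act z E p⁻¹
  have hcjpow : ∀ p ∈ P, ∀ (T : AddMonoid.End (V z E)) (n : ℕ), Cj p (T ^ n) = Cj p T ^ n := by
    intro p hp T n
    induction n with
    | zero =>
      show act z E p * T ^ 0 * act z E p⁻¹ = _
      rw [pow_zero, pow_zero, mul_one, ← hS.act_mul (h.pN hp) (inv_mem (h.pN hp)), mul_inv_cancel,
        hS.act_one]
    | succ n ih =>
      rw [pow_succ (Cj p T), ← ih]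
      simp only [Cj, pow_succ, mul_assoc]
      rw [← mul_assoc (act z E p⁻¹) (act z E p), hS.act_inv (h.pN hp), one_mul]
  have hex : ∀ p : ↥P, ∃ i < q, a ^ i = Cj p a := fun p =>
    hroot _ (h.conj_mem (h.pN p.2) (h.pK p.2) ham) (by
      rw [← hcjpow p p.2, haq]
      show act z E (p : G) * 1 * act z E (p : G)⁻¹ = 1
      rw [mul_one, ← hS.act_mul (h.pN p.2) (inv_mem (h.pN p.2)), mul_inv_cancel, hS.act_one])
  have haN : ∀ n, a ^ n = a ^ (n % q) := fun n => pow_eq_pow_mod n haq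
  have huniq : ∀ i j : ℕ, a ^ i = a ^ j → (i : ZMod q) = (j : ZMod q) := by
    intro i j hij
    have ha' : orderOf a = q := orderOf_eq_prime haq ha1
    rw [haN i, haN j] at hij
    rw [ZMod.natCast_eq_natCast_iff']
    refine pow_injOn_Iio_orderOf (x := a) ?_ ?_ hij
    · rw [ha']; exact Set.mem_Iio.2 (Nat.mod_lt _ hq.pos)
    · rw [ha']; exact Set.mem_Iio.2 (Nat.mod_lt _ hq.pos)
  choose ix hix hie using hex
  let f₀ : ↥P →* ZMod q :=
    { toFun := fun p => (ix p : ZMod q)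
      map_one' := by
        rw [← Nat.cast_one]
        refine huniq _ _ ?_
        rw [hie, pow_one]
        show act z E (1 : G) * a * act z E (1 : G)⁻¹ = a
        rw [inv_one, hS.act_one, one_mul, mul_one]
      map_mul' := fun p p' => by
        rw [← Nat.cast_mul]
        refine huniq _ _ ?_
        rw [hie, pow_mul, hie p, ← hcjpow p p.2, hie p']
        simp only [Cj, Subgroup.coe_mul]
        rw [hS.act_mul (h.pN p.2) (h.pN p'.2), _root_.mul_inv_rev,
          hS.act_mul (inv_mem (h.pN p'.2)) (inv_mem (h.pN p.2))]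
        simp only [mul_assoc] }
  let f : ↥P →* (ZMod q)ˣ := f₀.toHomUnits
  let C : Subgroup G := f.ker.map P.subtype
  have hCP : C ≤ P := Subgroup.map_subtype_le _
  have hC1 : ∀ c ∈ C, Cj c a = a := by
    rintro _ ⟨c, hc, rfl⟩
    have h1 : (ix c : ZMod q) = ((1 : ℕ) : ZMod q) := by
      rw [Nat.cast_one]; exact congrArg Units.val (hc : f c = 1)
    rw [ZMod.natCast_eq_natCast_iff', Nat.mod_eq_of_lt (hix c), Nat.mod_eq_of_lt hq.one_lt] at h1
    have h2 := hie c
    rw [h1, pow_one] at h2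
    exact h2.symm
  obtain ⟨⟨_, x, rfl⟩, hgenx⟩ := IsCyclic.exists_generator (α := ↥f.range)
  have hgen : ∀ p ∈ P, ∃ i : ℕ, ∃ c ∈ C, p = c * (x : G) ^ i := by
    intro p hp
    obtain ⟨i, hi⟩ := (mem_powers_iff_mem_zpowers).2 (hgenx ⟨f ⟨p, hp⟩, ⟨_, rfl⟩⟩)
    have hi' : f x ^ i = f ⟨p, hp⟩ := congrArg Subtype.val hi
    refine ⟨i, p * ((x : G) ^ i)⁻¹, ⟨⟨p, hp⟩ * (x ^ i)⁻¹, ?_, ?_⟩,
      (inv_mul_cancel_right _ _).symm⟩
    · show f _ = 1
      rw [map_mul, map_inv, map_pow, hi', mul_inv_cancel]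
    · simp
  have hxC : ∀ c ∈ C, (x : G) * c * (x : G)⁻¹ ∈ C := by
    rintro _ ⟨c, hc, rfl⟩
    exact ⟨x * c * x⁻¹, by
      show f _ = 1
      rw [map_mul, map_mul, map_inv, (hc : f c = 1), mul_one, mul_inv_cancel], by simp⟩
  -- intertwiners move `τ` to its powers
  have hmove : ∀ p ∈ P, ∀ i : ℕ, Cj p a = a ^ i → ∀ S : Mat N, IsUnit S →
      Inter E σ (fun y => σ (p * y * p⁻¹)) S → S * τ = τ ^ i * S := by
    intro p hp i hi S hSu hSI
    have hpN := h.pN hp
    have hpK := h.pK hp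
    have hm : ∀ y ∈ E, p * y * p⁻¹ ∈ E := fun y hy => (mem_normalizer_iff.1 hpN y).1 hy
    have hm' : ∀ y ∈ E, p⁻¹ * y * p ∈ E := fun y hy => by
      simpa using (mem_normalizer_iff.1 (inv_mem hpN) y).1 hy
    have hγ : IsLift z E K (a ^ i) (fun y => p * α (p⁻¹ * y * p) * p⁻¹) := by
      refine ⟨fun y hy => hm _ (hα.mem _ (hm' y hy)), fun y hy w hw => ?_, fun y hy => ?_, ?_,
        fun k hk y hy => ?_⟩
      · show p * α (p⁻¹ * (y * w) * p) * p⁻¹ = _
        rw [show p⁻¹ * (y * w) * p = (p⁻¹ * y * p) * (p⁻¹ * w * p) by group,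
          hα.mul _ (hm' y hy) _ (hm' w hw)]
        group
      · show π z E (p * α (p⁻¹ * y * p) * p⁻¹) = (a ^ i) (π z E y)
        have h2 := hS.act_π (inv_mem hpN) hy
        rw [inv_inv] at h2
        rw [← hi, ← hS.act_π hpN (hα.mem _ (hm' y hy)), hα.proj _ (hm' y hy), ← h2]
        rfl
      · show p * α (p⁻¹ * z * p) * p⁻¹ = z
        have h2 := hS.conj_z (inv_mem hpN)
        rw [inv_inv] at h2
        rw [h2, hα.map_z, hS.conj_z hpN]
      · show p * α (p⁻¹ * (k * y * k⁻¹) * p) * p⁻¹ = k * (p * α (p⁻¹ * y * p) * p⁻¹) * k⁻¹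
        have hk' : p⁻¹ * k * p ∈ K := by
          simpa using (mem_normalizer_iff.1 (inv_mem hpK) k).1 hk
        rw [show p⁻¹ * (k * y * k⁻¹) * p = (p⁻¹ * k * p) * (p⁻¹ * y * p) * (p⁻¹ * k * p)⁻¹ by group,
          hα.equiv _ hk' _ (hm' y hy)]
        group
    have hlift := h.lift_unique hγ (iterate_isLift hα h.kN i)
    obtain ⟨c, hc⟩ := hS.inter_unique hσ (S := τ ^ i * S) (T := S * τ)
      (σ' := fun y => σ (p * α y * p⁻¹)) ((hτu.pow i).mul hSu)
      (fun y hy => by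
        rw [mul_assoc, hSI y hy, ← mul_assoc, inter_pow hα.mem hτ i _ (hm y hy),
          ← hlift _ (hm y hy), mul_assoc]
        congr 3
        rw [show p⁻¹ * (p * y * p⁻¹) * p = y by group])
      (fun y hy => by
        rw [mul_assoc, hτ y hy, ← mul_assoc, hSI _ (hα.mem y hy), mul_assoc])
    have hc1 : c = 1 := scalar_eq_one hSu hc hτq
      (by rw [← pow_mul, mul_comm, pow_mul, hτq, one_pow]) hτd
      (by rw [Matrix.det_pow, hτd, one_pow]) hN0 (hS.coprime_deg hσ (hq.odd_of_ne_two hq2))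
    rw [hc, hc1, one_smul]
  -- normalisation
  set eP := eproj τ q ζ with heP
  have hid : eP * eP = eP := eproj_idem hq.pos hτq hζ
  let φ : Mat N → ℂ := fun S => S.det ^ u * (S * eP + (1 - eP)).det ^ v
  have hcomm : ∀ c ∈ C, ∀ S : Mat N, IsUnit S → Inter E σ (fun y => σ (c * y * c⁻¹)) S →
      S * eP = eP * S := fun c hc S hSu hSI => eproj_conj (by
    have := hmove c (hCP hc) 1 (by rw [hC1 c hc, pow_one]) S hSu hSI
    rwa [pow_one] at this) q ζ
  have hfac : ∀ S T : Mat N, T * eP = eP * T →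
      S * T * eP + (1 - eP) = (S * eP + (1 - eP)) * (T * eP + (1 - eP)) := by
    intro S T hT
    have h1 : eP * (T * eP) = T * eP := by rw [hT, ← mul_assoc, hid]
    have h2 : eP * (1 - eP) = 0 := by rw [mul_sub, mul_one, hid, sub_self]
    have h3 : (1 - eP) * (T * eP) = 0 := by rw [sub_mul, one_mul, h1, sub_self]
    have h4 : (1 - eP) * (1 - eP) = 1 - eP := by rw [sub_mul, one_mul, h2, sub_zero]
    rw [add_mul, mul_add, mul_add, mul_assoc S eP, h1, mul_assoc S eP, h2, mul_zero, add_zero, h3,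
      h4, zero_add, mul_assoc]
  have hu2 : ∀ S : Mat N, IsUnit S → S * eP = eP * S → (S * eP + (1 - eP)).det ≠ 0 := by
    intro S hSu hc
    obtain ⟨Su, rfl⟩ := hSu
    have hc' : (↑Su⁻¹ : Mat N) * eP = eP * ↑Su⁻¹ := by
      calc (↑Su⁻¹ : Mat N) * eP = ↑Su⁻¹ * (eP * ↑Su) * ↑Su⁻¹ := by
            simp only [mul_assoc, Units.mul_inv, mul_one]
        _ = eP * ↑Su⁻¹ := by rw [← hc, Units.inv_mul_cancel_left]
    have h1 := hfac (↑Su) (↑Su⁻¹) hc'
    rw [Units.mul_inv, one_mul, add_sub_cancel] at h1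
    have h2 := congrArg Matrix.det h1
    rw [Matrix.det_one, Matrix.det_mul] at h2
    exact fun h0 => by rw [h0, zero_mul] at h2; exact one_ne_zero h2
  have hdne : ∀ S : Mat N, IsUnit S → S.det ≠ 0 := fun S hSu =>
    ((Matrix.isUnit_iff_isUnit_det _).1 hSu).ne_zero
  obtain ⟨ρ, hρ, hc, hρs⟩ := hS.linearize hσ C (fun p hp => h.pN (hCP hp)) φ
    (by simp [φ])
    (fun p hp S _ c hc0 => by
      show (c • S).det ^ u * (c • S * eP + (1 - eP)).det ^ v = c * φ S
      have e : c • S * eP + (1 - eP) = (S * eP + (1 - eP)) * (c • eP + (1 - eP)) := by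
        rw [add_mul, mul_add, mul_add, mul_smul_comm, mul_smul_comm, mul_assoc S eP eP, hid,
          mul_assoc S eP, show eP * (1 - eP) = 0 by rw [mul_sub, mul_one, hid, sub_self], mul_zero,
          sub_mul, one_mul, hid, sub_self, smul_zero, zero_add, add_zero,
          show (1 - eP) * (1 - eP) = 1 - eP by
            rw [sub_mul, one_mul, mul_sub, mul_one, hid, sub_self, sub_zero], smul_mul_assoc]
      rw [e, Matrix.det_mul, hdet, Matrix.det_smul, Fintype.card_fin, mul_zpow, mul_zpow]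
      have hcc : c ^ ((N : ℤ) * u) * c ^ ((m : ℤ) * v) = c := by
        rw [← zpow_add₀ hc0, huv, zpow_one]
      rw [zpow_mul, zpow_natCast, zpow_mul, zpow_natCast] at hcc
      show _ = c * (S.det ^ u * (S * eP + (1 - eP)).det ^ v)
      calc _ = ((c ^ N) ^ u * (c ^ m) ^ v) * (S.det ^ u * (S * eP + (1 - eP)).det ^ v) := by ring
        _ = _ := by rw [hcc])
    (fun p hp S hSu hSI => mul_ne_zero (zpow_ne_zero _ (hdne S hSu))
      (zpow_ne_zero _ (hu2 S hSu (hcomm p hp S hSu hSI))))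
    (fun p hp r hr S T hSu hTu hSI hTI => by
      show (S * T).det ^ u * (S * T * eP + (1 - eP)).det ^ v = _
      rw [hfac S T (hcomm r hr T hTu hTI), Matrix.det_mul, Matrix.det_mul, mul_zpow, mul_zpow]
      simp only [φ]
      ring)
  obtain ⟨S, hSu, hSI⟩ := hS.exists_conjInter hσ (h.pN x.2)
  refine hS.extend_cyclic hσ h.pN hCP hρ hc x.2 hxC hgen hSu hSI fun c hcC => ?_
  -- the conjugate eigenvalue
  set i₀ := ix x with hi₀
  have hi0 : (i₀ : ZMod q) ≠ 0 := (f x).ne_zero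
  set j₀ := ((i₀ : ZMod q)⁻¹).val with hj₀
  have hij : i₀ * j₀ % q = 1 % q := by
    rw [← ZMod.natCast_eq_natCast_iff', Nat.cast_mul, hj₀, ZMod.natCast_zmod_val,
      mul_inv_cancel₀ hi0, Nat.cast_one]
  have hj0 : (j₀ : ZMod q) ≠ 0 := by
    rw [hj₀, ZMod.natCast_zmod_val]; exact inv_ne_zero hi0
  have hSτ : S * τ = τ ^ i₀ * S := hmove x x.2 i₀ (hie x).symm S hSu hSI
  set eQ := eproj τ q (ζ ^ j₀) with heQ
  have hSP : S * eP = eQ * S := by
    rw [heP, eproj_conj hSτ, eproj_pow hq.pos hτq hζ hij]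
  -- the Galois automorphism
  set n2 := 4 * Nat.card ↥P with hn2
  obtain ⟨k2, hk2⟩ := IsPGroup.iff_card.1 h.isP
  have hn2' : n2 = 2 ^ (2 + k2) := by rw [hn2, hk2, pow_add]; norm_num
  have hcop : Nat.Coprime q n2 := by
    rw [hn2']; exact ((Nat.coprime_primes hq Nat.prime_two).2 hq2).pow_right _
  obtain ⟨s, hs1, hs2⟩ := Nat.chineseRemainder hcop j₀ 1
  have hscop : s.Coprime (q * n2) := by
    refine Nat.Coprime.mul_right ?_ ?_
    · rw [Nat.coprime_comm, hq.coprime_iff_not_dvd, ← ZMod.natCast_eq_zero_iff]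
      rwa [(ZMod.natCast_eq_natCast_iff s j₀ q).2 hs1]
    · have := hs2.gcd_eq
      rw [Nat.gcd_one_left] at this
      exact this
  obtain ⟨g, hg⟩ := CfsgLib.Char.exists_ringEquiv_pow (Nat.mul_pos hq.pos (by
    rw [hn2']; positivity : 0 < n2)) hscop
  set g' : ℂ →+* ℂ := g.toRingHom with hg'
  have hgq : ∀ w : ℂ, w ^ q = 1 → g' w = w ^ j₀ := fun w hw => by
    show g w = _
    rw [hg w (by rw [pow_mul, hw, one_pow]), pow_eq_pow_mod s hw, hs1, ← pow_eq_pow_mod j₀ hw]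
  have hg2 : ∀ w : ℂ, w ^ n2 = 1 → g' w = w := fun w hw => by
    show g w = _
    rw [hg w (by rw [mul_comm, pow_mul, hw, one_pow]), pow_eq_pow_mod s hw, hs2,
      ← pow_eq_pow_mod 1 hw, pow_one]
  have hσg : ERep z E N (fun y => (σ y).map g') := by
    refine ⟨?_, fun y hy w hw => ?_, ?_, hσ.card⟩
    · show g'.mapMatrix (σ 1) = 1
      rw [hσ.one, map_one]
    · show g'.mapMatrix (σ (y * w)) = g'.mapMatrix (σ y) * g'.mapMatrix (σ w)
      rw [hσ.mul y hy w hw, map_mul]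
    · show g'.mapMatrix (σ z) = -1
      rw [hσ.map_z, map_neg, map_one]
  obtain ⟨U, hUu, hUI⟩ := hS.exists_inter hσg hσ
  have hUI' : ∀ y ∈ E, U * (σ y).map g' = σ y * U := hUI
  have hcoq := hS.coprime_deg hσ (hq.odd_of_ne_two hq2)
  have hUτ : U * τ.map g' = τ * U := by
    obtain ⟨cc, hcc⟩ := hS.inter_unique hσg (S := τ * U) (T := U * τ.map g')
      (σ' := fun y => σ (α y)) (hτu.mul hUu)
      (fun y hy => by rw [mul_assoc, hUI' y hy, ← mul_assoc, hτ y hy, mul_assoc])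
      (fun y hy => by
        have e : τ.map g' * (σ y).map g' = (σ (α y)).map g' * τ.map g' := by
          rw [← Matrix.map_mul, ← Matrix.map_mul, hτ y hy]
        rw [mul_assoc, e, ← mul_assoc, hUI' _ (hα.mem y hy), mul_assoc])
    have hc1 : cc = 1 := scalar_eq_one hUu hcc
      (by rw [← map_pow', hτq]; exact map_one g'.mapMatrix) hτq
      (by rw [show (τ.map g').det = g' τ.det from (RingHom.map_det g' τ).symm, hτd, map_one])
      hτd hN0 hcoq
    rw [hcc, hc1, one_smul]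
  have hUρ : ∀ d ∈ C, U * (ρ d).map g' = ρ d * U := by
    intro d hd
    have hdI : ∀ y ∈ E, ρ d * σ y = σ (d * y * d⁻¹) * ρ d := hc d hd
    have hdm : ∀ y ∈ E, d * y * d⁻¹ ∈ E := fun y hy =>
      (mem_normalizer_iff.1 (h.pN (hCP hd)) y).1 hy
    obtain ⟨cc, hcc⟩ := hS.inter_unique hσg (S := ρ d * U) (T := U * (ρ d).map g')
      (σ' := fun y => σ (d * y * d⁻¹)) ((hρs d hd).1.mul hUu)
      (fun y hy => by rw [mul_assoc, hUI' y hy, ← mul_assoc, hdI y hy, mul_assoc])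
      (fun y hy => by
        have e : (ρ d).map g' * (σ y).map g' = (σ (d * y * d⁻¹)).map g' * (ρ d).map g' := by
          rw [← Matrix.map_mul, ← Matrix.map_mul, hdI y hy]
        rw [mul_assoc, e, ← mul_assoc, hUI' _ (hdm y hy), mul_assoc])
    obtain ⟨y, hy, hyne⟩ := hS.exists_trace_ne hσ (R := ρ d) (hρs d hd).1.ne_zero
    -- the trace is a sum of roots of unity of two power order
    set X := σ y * ρ d with hX
    have hXpow : ∀ k : ℕ, ∃ w ∈ E, X ^ k = σ w * ρ (d ^ k) := by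
      intro k
      induction k with
      | zero => exact ⟨1, one_mem E, by rw [pow_zero, pow_zero, hσ.one, hρ.one, one_mul]⟩
      | succ k ih =>
        obtain ⟨w, hw, he⟩ := ih
        have hmm : d ^ k * y * (d ^ k)⁻¹ ∈ E :=
          (mem_normalizer_iff.1 (h.pN (hCP (pow_mem hd k))) y).1 hy
        refine ⟨w * (d ^ k * y * (d ^ k)⁻¹), mul_mem hw hmm, ?_⟩
        rw [pow_succ, he, hX, mul_assoc, ← mul_assoc (ρ (d ^ k)), hc _ (pow_mem hd k) y hy,
          mul_assoc, ← hρ.mul _ (pow_mem hd k) _ hd, ← mul_assoc, ← hσ.mul w hw _ hmm, pow_succ]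
    have hX1 : X ^ n2 = 1 := by
      obtain ⟨w, hw, he⟩ := hXpow (Nat.card ↥P)
      have hdP : d ^ Nat.card ↥P = 1 := by
        exact orderOf_dvd_iff_pow_eq_one.1 (Subgroup.orderOf_dvd_natCard _ (hCP hd))
      rw [hdP, hρ.one, mul_one] at he
      rw [hn2, mul_comm, pow_mul, he]
      have h2 : σ w ^ 2 = 1 ∨ σ w ^ 2 = -1 := by
        rw [pow_two, ← hσ.mul w hw w hw]
        rcases hS.sq w hw with e1 | e1
        · left; rw [e1, hσ.one]
        · right; rw [e1, hσ.map_z]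
      rw [show 4 = 2 * 2 from rfl, pow_mul, pow_two (σ w ^ 2)]
      rcases h2 with e1 | e1 <;> rw [e1]
      · rw [one_mul]
      · rw [neg_mul_neg, one_mul]
    have hn2p : 0 < n2 := by rw [hn2']; positivity
    have hω := Complex.isPrimitiveRoot_exp n2 hn2p.ne'
    have hfix : g' (Matrix.trace X) = Matrix.trace X := by
      rw [← pow_one X, trace_pow_eq_sum hn2p hω hX1 1, map_sum]
      refine Finset.sum_congr rfl fun i _ => ?_
      have hwi : (Complex.exp (2 * Real.pi * Complex.I / n2) ^ i) ^ n2 = 1 := by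
        rw [← pow_mul, mul_comm i, pow_mul, hω.pow_eq_one, one_pow]
      obtain ⟨r, hr, -⟩ := exists_rank (eproj_idem hn2p hX1 hwi)
      rw [hr, map_mul, map_pow g', hg2 _ hwi, map_natCast]
    have hc1 : cc = 1 := by
      obtain ⟨Uu, rfl⟩ := hUu
      have e1 : (↑Uu : Mat N) * X.map g' = cc • (X * ↑Uu) := by
        rw [hX, Matrix.map_mul, ← mul_assoc, hUI' y hy, mul_assoc, hcc, mul_smul_comm, ← mul_assoc]
      have e2 := congrArg (fun Y => Matrix.trace ((↑Uu⁻¹ : Mat N) * Y)) e1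
      simp only [Units.inv_mul_cancel_left, mul_smul_comm, Matrix.trace_smul, smul_eq_mul] at e2
      rw [Matrix.trace_mul_comm, mul_assoc, Units.mul_inv, mul_one,
        show Matrix.trace (X.map g') = g' (Matrix.trace X) from (map_sum g' _ _).symm, hfix] at e2
      exact (mul_eq_right₀ hyne).1 e2.symm
    rw [hcc, hc1, one_smul]
  have hfix2 : ∀ d ∈ C, (ρ d).det ^ u * (ρ d * eQ + (1 - eQ)).det ^ v = 1 := by
    intro d hd
    have hdet_eq : ∀ A₁ A₂ : Mat N, U * A₁ = A₂ * U → A₁.det = A₂.det := fun A₁ A₂ he => by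
      have := congrArg Matrix.det he
      rw [Matrix.det_mul, Matrix.det_mul, mul_comm A₂.det] at this
      exact mul_left_cancel₀ (hdne U hUu) this
    have hUP : U * eP.map g' = eQ * U := by
      rw [heP, map_eproj, hgq ζ hζ, eproj_conj hUτ]
    have e : U * (ρ d * eP + (1 - eP)).map g' = (ρ d * eQ + (1 - eQ)) * U := by
      show U * g'.mapMatrix (ρ d * eP + (1 - eP)) = _
      rw [map_add, map_sub, map_mul, map_one]
      simp only [RingHom.mapMatrix_apply]
      rw [mul_add, mul_sub, mul_one, ← mul_assoc, hUρ d hd, mul_assoc, hUP, ← mul_assoc, add_mul,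
        sub_mul, one_mul]
    have h1 := congrArg g' (hρs d hd).2.1
    simp only [φ] at h1
    rw [map_mul, map_zpow₀, map_zpow₀, RingHom.map_det, RingHom.map_det, map_one,
      RingHom.mapMatrix_apply, RingHom.mapMatrix_apply, hdet_eq _ _ (hUρ d hd), hdet_eq _ _ e] at h1
    exact h1
  obtain ⟨Su, rfl⟩ := hSu
  have hxc := hxC c hcC
  set T : Mat N := (↑Su⁻¹ : Mat N) * ρ ((x : G) * c * (x : G)⁻¹) * ↑Su with hT
  have hTI : Inter E σ (fun y => σ (c * y * c⁻¹)) T := by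
    intro y hy
    have hxa := (mem_normalizer_iff.1 (h.pN x.2) y).1 hy
    have hma := (mem_normalizer_iff.1 (h.pN (hCP hcC)) y).1 hy
    have e1 : ↑Su * σ (c * y * c⁻¹) = σ ((x : G) * (c * y * c⁻¹) * (x : G)⁻¹) * (↑Su : Mat N) :=
      hSI _ hma
    have e2 := hc _ hxc _ hxa
    rw [show (x : G) * c * (x : G)⁻¹ * ((x : G) * y * (x : G)⁻¹) * ((x : G) * c * (x : G)⁻¹)⁻¹ =
      (x : G) * (c * y * c⁻¹) * (x : G)⁻¹ by group] at e2
    have e3 : ↑Su * σ y = σ ((x : G) * y * (x : G)⁻¹) * (↑Su : Mat N) := hSI y hy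
    calc T * σ y = (↑Su⁻¹ : Mat N) * (ρ ((x : G) * c * (x : G)⁻¹) * σ ((x : G) * y * (x : G)⁻¹)) *
          ↑Su := by rw [hT]; simp only [mul_assoc, e3]
      _ = (↑Su⁻¹ : Mat N) * (σ ((x : G) * (c * y * c⁻¹) * (x : G)⁻¹) * ↑Su) *
            ((↑Su⁻¹ : Mat N) * ρ ((x : G) * c * (x : G)⁻¹) * ↑Su) := by
          rw [e2]; simp only [mul_assoc, Units.mul_inv_cancel_left]
      _ = σ (c * y * c⁻¹) * T := by rw [← e1, Units.inv_mul_cancel_left]
  have hTu : IsUnit T := ((Units.isUnit _).mul (hρs _ hxc).1).mul (Units.isUnit _)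
  have hST : (↑Su : Mat N) * T = ρ ((x : G) * c * (x : G)⁻¹) * ↑Su := by
    rw [hT, mul_assoc, Units.mul_inv_cancel_left]
  have hT1 : φ T = 1 := by
    have e : (↑Su : Mat N) * (T * eP + (1 - eP)) =
        (ρ ((x : G) * c * (x : G)⁻¹) * eQ + (1 - eQ)) * ↑Su := by
      rw [mul_add, mul_sub, mul_one, ← mul_assoc, hST, mul_assoc, hSP, ← mul_assoc, add_mul,
        sub_mul, one_mul]
    have hdeq : ∀ A₁ A₂ : Mat N, (↑Su : Mat N) * A₁ = A₂ * ↑Su → A₁.det = A₂.det :=
      fun A₁ A₂ he => by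
        have := congrArg Matrix.det he
        rw [Matrix.det_mul, Matrix.det_mul, mul_comm A₂.det] at this
        exact mul_left_cancel₀ (hdne _ (Units.isUnit _)) this
    show T.det ^ u * (T * eP + (1 - eP)).det ^ v = 1
    rw [hdeq _ _ hST, hdeq _ _ e]
    exact hfix2 _ hxc
  rw [← (hρs c hcC).2.2 T hTu hTI hT1, hST]

end CfsgLib.ExtraExtend
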