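import Cfsg.Agent.Char.ExtraExtend.Main
import Cfsg.Agent.Char.ExtendInv
import Cfsg.Agent.KGroup.TISquares
import Cfsg.Prelude.Def_Transfer

/-!
# The faithful character of an extraspecial 2-group extends over a semidirect complement
-/

set_option autoImplicit false
set_option linter.unusedSectionVars false
set_option linter.unusedVariables false
set_option linter.style.haveILetI false

namespace CfsgLib.ExtraExtend

open Subgroup
open scoped commutatorElement

universe u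

variable {G : Type u} [Group G] [Finite G] {z : G} {E : Subgroup G}

theorem exists_sym (hE : Cfsg.IsExtraspecial 2 ↥E) : ∃ z : G, Sym z E := by
  classical
  obtain ⟨⟨hp, hfr, hcom⟩, hc2⟩ := hE
  obtain ⟨x, hx, hx1⟩ : ∃ x ∈ center ↥E, x ≠ 1 := by
    by_contra hcon
    push Not at hcon
    rw [Subgroup.eq_bot_iff_forall _ |>.2 hcon, Subgroup.card_bot] at hc2
    omega
  have hmem : ∀ y ∈ center ↥E, y = 1 ∨ y = x := by
    haveI : Fintype ↥(center ↥E) := Fintype.ofFinite _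
    intro y hy
    by_contra hcon
    push Not at hcon
    have : 2 < Fintype.card ↥(center ↥E) := Fintype.two_lt_card_iff.2
      ⟨1, ⟨x, hx⟩, ⟨y, hy⟩, fun h => hx1 (congrArg Subtype.val h).symm,
        fun h => hcon.1 (congrArg Subtype.val h).symm, fun h => hcon.2 (congrArg Subtype.val h).symm⟩
    rw [← Nat.card_eq_fintype_card, hc2] at this
    omega
  have hval : ∀ y ∈ center ↥E, (y : G) = 1 ∨ (y : G) = (x : G) := fun y hy =>
    (hmem y hy).imp (fun h => by rw [h]; rfl) (fun h => by rw [h])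
  refine ⟨x, ⟨x.2, fun h => hx1 (Subtype.ext h), ?_, fun a ha => ?_, fun a ha b hb => ?_,
    fun a ha => ?_, fun a ha h => ?_⟩⟩
  · rcases hval (x * x) (mul_mem hx hx) with h | h
    · exact h
    · exact absurd (mul_eq_left.1 h) fun h0 => hx1 (Subtype.ext h0)
  · exact congrArg Subtype.val (Subgroup.mem_center_iff.1 hx ⟨a, ha⟩)
  · have h1 : ⁅(⟨b, hb⟩ : ↥E)⁻¹, (⟨a, ha⟩ : ↥E)⁻¹⁆ ∈ center ↥E :=
      hcom ▸ commutator_mem_commutator (mem_top _) (mem_top _)
    rcases hval _ h1 with h | h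
    · left
      simp only [commutatorElement_def, Subgroup.coe_mul, Subgroup.coe_inv, inv_inv] at h
      rw [show a * b = b * a * (b⁻¹ * a⁻¹ * b * a)⁻¹ by group, h, inv_one, mul_one]
    · right
      simp only [commutatorElement_def, Subgroup.coe_mul, Subgroup.coe_inv, inv_inv] at h
      have hxi : (x : G)⁻¹ = x := by
        refine inv_eq_of_mul_eq_one_right ?_
        rcases hval (x * x) (mul_mem hx hx) with h3 | h3
        · exact h3
        · exact absurd (mul_eq_left.1 h3) fun h0 => hx1 (Subtype.ext h0)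
      rw [show a * b = b * a * (b⁻¹ * a⁻¹ * b * a)⁻¹ by group, h, hxi]
  · have h1 : (⟨a, ha⟩ : ↥E) ^ 2 ∈ center ↥E := hfr ▸ CfsgLib.TISquares.sq_mem_frattini hp _
    have h2 := hval _ h1
    rwa [Subgroup.coe_pow, pow_two] at h2
  · exact hval ⟨a, ha⟩ (Subgroup.mem_center_iff.2 fun g =>
      Subtype.ext (h g g.2).symm)

/-- Values of the matrices of `E`. -/
theorem Sym.trace_eq (hS : Sym z E) {N N' : ℕ} {σ : G → Mat N} {σ' : G → Mat N'}
    (h : ERep z E N σ) (h' : ERep z E N' σ') {a : G} (ha : a ∈ E) :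
    Matrix.trace (σ a) = Matrix.trace (σ' a) := by
  have hN : N = N' := by
    have h1 := h.card.trans h'.card.symm
    exact Nat.pow_left_injective two_ne_zero (Nat.eq_of_mul_eq_mul_left two_pos h1)
  by_cases h1 : a = 1
  · rw [h1, h.one, h'.one, trace_one', trace_one', hN]
  by_cases hz : a = z
  · rw [hz, h.map_z, h'.map_z, Matrix.trace_neg, Matrix.trace_neg, trace_one', trace_one', hN]
  rw [hS.trace_eq_zero h ha h1 hz, hS.trace_eq_zero h' ha h1 hz]

/-- Fixed point freeness of `K` modulo the centre. -/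
theorem Sym.fpf_of_commutator (hS : Sym z E) (K : Subgroup G) (hodd : Odd (Nat.card K))
    (hKN : K ≤ normalizer (E : Set G)) (hEK : E ≤ ⁅E, K⁆) {a : G} (ha : a ∈ E)
    (h : ∀ k ∈ K, π z E (k * a * k⁻¹) = π z E a) : π z E a = 0 := by
  classical
  have hka : ∀ k ∈ K, k * a * k⁻¹ ∈ E := fun k hk => (mem_normalizer_iff.1 (hKN hk) a).1 ha
  have hcase : ∀ k ∈ K, k * a * k⁻¹ = a ∨ k * a * k⁻¹ = a * z := fun k hk =>
    hS.π_eq (hka k hk) ha (h k hk)
  have hfix : ∀ k ∈ K, k * a * k⁻¹ = a := by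
    intro k hk
    have key : ∀ n : ℕ, k * a * k⁻¹ = a * z → k ^ n * a * (k ^ n)⁻¹ = a * z ^ n := by
      intro n hz
      induction n with
      | zero => simp
      | succ n ih =>
        have h1 : k * z * k⁻¹ = z := hS.conj_z (hKN hk)
        have h2 : ∀ m : ℕ, k * z ^ m * k⁻¹ = z ^ m := fun m => by rw [← conj_pow, h1]
        calc k ^ (n + 1) * a * (k ^ (n + 1))⁻¹ = k * (k ^ n * a * (k ^ n)⁻¹) * k⁻¹ := by
              rw [pow_succ']; group
          _ = (k * a * k⁻¹) * (k * z ^ n * k⁻¹) := by rw [ih]; group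
          _ = a * z ^ (n + 1) := by rw [hz, h2, mul_assoc, ← pow_succ']
    refine (hcase k hk).resolve_right fun hz => ?_
    obtain ⟨r, hr⟩ := hodd
    have h3 := key (Nat.card K) hz
    have hk1 : k ^ Nat.card K = 1 :=
      orderOf_dvd_iff_pow_eq_one.1 (Subgroup.orderOf_dvd_natCard _ hk)
    rw [hk1, hr, pow_succ, pow_mul, pow_two, hS.z_sq, one_pow, one_mul, one_mul, inv_one,
      mul_one] at h3
    exact hS.mul_z_ne a h3.symm
  -- `a` commutes with `[E, K] = E`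
  refine (hS.π_eq_zero ha).2 (hS.nondeg a ha fun b hb => ?_)
  have hle : ⁅E, K⁆ ≤ centralizer ({a} : Set G) := by
    rw [commutator_le]
    intro e he k hk
    rw [Subgroup.mem_centralizer_singleton_iff]
    have hka' : k * a = a * k := mul_inv_eq_iff_eq_mul.1 (hfix k hk)
    have hk' : k * e⁻¹ * k⁻¹ ∈ E := (mem_normalizer_iff.1 (hKN hk) _).1 (inv_mem he)
    have hm : e * (k * e⁻¹ * k⁻¹) ∈ E := mul_mem he hk'
    have hbit : cb (k * e⁻¹ * k⁻¹) a = cb e⁻¹ a := by
      conv_lhs => rw [← hfix k hk]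
      rw [← hS.B_π hk' (hka k hk), ← hS.act_π (hKN hk) (inv_mem he), ← hS.act_π (hKN hk) ha,
        hS.B_act (hKN hk), hS.B_π (inv_mem he) ha]
    have h0 : cb (e * (k * e⁻¹ * k⁻¹)) a = 0 := by
      rw [hS.cb_mul he hk' ha, hbit, ← hS.cb_mul he (inv_mem he) ha, mul_inv_cancel]
      exact cb_eq_zero.2 (by rw [one_mul, mul_one])
    have h4 := cb_eq_zero.1 h0
    rw [show ⁅e, k⁆ = e * (k * e⁻¹ * k⁻¹) by rw [commutatorElement_def]; group]
    exact h4
  exact (Subgroup.mem_centralizer_singleton_iff.1 (hle (hEK hb))).symm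

theorem card_sup_eq [E.Normal] (R : Subgroup G) (hd : E ⊓ R = ⊥) :
    Nat.card ↥(E ⊔ R) = Nat.card E * Nat.card R := by
  rw [← Nat.card_prod]
  symm
  refine Nat.card_eq_of_bijective
    (fun p : ↥E × ↥R => (⟨(p.1 : G) * p.2,
      mul_mem (le_sup_left (a := E) p.1.2) (le_sup_right (b := R) p.2.2)⟩ : ↥(E ⊔ R))) ⟨?_, ?_⟩
  · rintro ⟨a, r⟩ ⟨a', r'⟩ h
    have h1 : (a : G) * r = a' * r' := congrArg Subtype.val h
    have h2 : (a' : G)⁻¹ * a = r' * (r : G)⁻¹ := by
      rw [inv_mul_eq_iff_eq_mul, ← mul_assoc, ← h1, mul_inv_cancel_right]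
    have h3 : (a' : G)⁻¹ * a = 1 := by
      have : (a' : G)⁻¹ * a ∈ E ⊓ R :=
        Subgroup.mem_inf.2 ⟨mul_mem (inv_mem a'.2) a.2, h2 ▸ mul_mem r'.2 (inv_mem r.2)⟩
      rwa [hd] at this
    rw [h2, mul_inv_eq_one] at h3
    have h4 : a = a' := by
      refine Subtype.ext ?_
      rw [h3] at h1
      exact mul_right_cancel h1
    exact Prod.ext h4 (Subtype.ext h3.symm)
  · rintro ⟨g, hg⟩
    obtain ⟨a, ha, r, hr, rfl⟩ := Subgroup.mem_sup_of_normal_left.1 hg
    exact ⟨(⟨a, ha⟩, ⟨r, hr⟩), rfl⟩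

/-- A pair of compatible representations gives a representation of the product. -/
theorem exists_rep_sup [E.Normal] (R : Subgroup G) (hd : E ⊓ R = ⊥) {N : ℕ} {σ ρ : G → Mat N}
    (hσ : ERep z E N σ) (hρ : PRep R N ρ) (hc : Compat E R σ ρ) :
    ∃ τ : Representation ℂ ↥(E ⊔ R) (Fin N → ℂ),
      ∀ a : ↥(E ⊔ R), (a : G) ∈ E → τ.character a = Matrix.trace (σ a) := by
  classical
  have hdec : ∀ g : ↥(E ⊔ R), ∃ p : G × G, p.1 ∈ E ∧ p.2 ∈ R ∧ (g : G) = p.1 * p.2 := fun g => by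
    obtain ⟨a, ha, r, hr, he⟩ := Subgroup.mem_sup_of_normal_left.1 g.2
    exact ⟨(a, r), ha, hr, he.symm⟩
  choose p hp1 hp2 hpe using hdec
  have hu : ∀ a ∈ E, ∀ r ∈ R, ∀ a' ∈ E, ∀ r' ∈ R, a * r = a' * r' → a = a' ∧ r = r' := by
    intro a ha r hr a' ha' r' hr' h1
    have h2 : a'⁻¹ * a = r' * r⁻¹ := by
      rw [inv_mul_eq_iff_eq_mul, ← mul_assoc, ← h1, mul_inv_cancel_right]
    have h3 : a'⁻¹ * a = 1 := by
      have : a'⁻¹ * a ∈ E ⊓ R :=
        Subgroup.mem_inf.2 ⟨mul_mem (inv_mem ha') ha, h2 ▸ mul_mem hr' (inv_mem hr)⟩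
      rwa [hd] at this
    have h4 : a = a' := (inv_mul_eq_one.1 h3).symm
    exact ⟨h4, by rw [h4] at h1; exact mul_left_cancel h1⟩
  let F : ↥(E ⊔ R) →* Mat N :=
    { toFun := fun g => σ (p g).1 * ρ (p g).2
      map_one' := by
        obtain ⟨e1, e2⟩ := hu _ (hp1 1) _ (hp2 1) 1 (one_mem _) 1 (one_mem _)
          (by rw [← hpe 1, one_mul]; rfl)
        rw [e1, e2, hσ.one, hρ.one, one_mul]
      map_mul' := fun g g' => by
        have hm : (p g).2 * (p g').1 * (p g).2⁻¹ ∈ E :=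
          Subgroup.Normal.conj_mem inferInstance _ (hp1 g') _
        obtain ⟨e1, e2⟩ := hu _ (hp1 (g * g')) _ (hp2 (g * g'))
          ((p g).1 * ((p g).2 * (p g').1 * (p g).2⁻¹)) (mul_mem (hp1 g) hm)
          ((p g).2 * (p g').2) (mul_mem (hp2 g) (hp2 g'))
          (by rw [← hpe (g * g'), Subgroup.coe_mul, hpe g, hpe g']; group)
        rw [e1, e2, hσ.mul _ (hp1 g) _ hm, hρ.mul _ (hp2 g) _ (hp2 g'), mul_assoc (σ (p g).1),
          ← mul_assoc (σ ((p g).2 * (p g').1 * (p g).2⁻¹)), ← hc _ (hp2 g) _ (hp1 g'),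
          mul_assoc (ρ (p g).2), ← mul_assoc (σ (p g).1)] }
  refine ⟨(Matrix.toLinAlgEquiv' (R := ℂ) (n := Fin N)).toMonoidHom.comp F, fun a ha => ?_⟩
  obtain ⟨e1, e2⟩ := hu _ (hp1 a) _ (hp2 a) (a : G) ha 1 (one_mem _) (by rw [← hpe a, mul_one])
  show LinearMap.trace ℂ _ (Matrix.toLinAlgEquiv' (F a)) = _
  rw [show F a = σ (a : G) by
    show σ (p a).1 * ρ (p a).2 = _
    rw [e1, e2, hρ.one, mul_one]]
  exact Matrix.trace_toLin'_eq _

/-- The extension theorem. -/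
theorem exists_extension (E H : Subgroup G) [hEn : E.Normal] (hE : Cfsg.IsExtraspecial 2 ↥E)
    (hEH : E ⊓ H = ⊥) (hEHtop : E ⊔ H = ⊤) (K : Subgroup G) (hKH : K ≤ H)
    (hKn : ∀ h ∈ H, ∀ k ∈ K, h * k * h⁻¹ ∈ K) (hKodd : Odd (Nat.card ↥K)) (hEK : ⁅E, K⁆ = E)
    (θ : ↥E → ℂ) (hθirr : Cfsg.IsIrrCharacter ↥E θ) (hθ : ∀ e : ↥E, θ e = θ 1 → e = 1) :
    ∃ χ : G → ℂ, Cfsg.IsIrrCharacter G χ ∧ ∀ e : ↥E, χ e = θ e := by
  classical
  obtain ⟨z, hS⟩ := exists_sym hE
  obtain ⟨n, ρθ, hρθ, rfl⟩ := id hθirr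
  haveI := hρθ
  have hNall : ∀ L : Subgroup G, L ≤ normalizer (E : Set G) := fun L => by
    rw [Subgroup.normalizer_eq_top (H := E)]; exact le_top
  have hσθ : ERep z E n (repMat E ρθ) := hS.erep_of_rep ρθ fun h =>
    hS.z_ne (congrArg Subtype.val (hθ _ h))
  have hθval : ∀ e : ↥E, ρθ.character e = Matrix.trace (repMat E ρθ (e : G)) := fun e => by
    rw [repMat, dif_pos e.2, Representation.character, LinearMap.trace_eq_matrix_trace ℂ
      (Pi.basisFun ℂ (Fin n)), LinearMap.toMatrix_eq_toMatrix']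
  have hinv : ∀ (g : G) (e : ↥E),
      ρθ.character ⟨g * e * g⁻¹, hEn.conj_mem (e : G) e.2 g⟩ = ρθ.character e := by
    intro g e
    have hgN : g ∈ normalizer (E : Set G) := hNall ⊤ (mem_top g)
    rw [hθval, hθval]
    refine (hS.trace_eq (hσθ.comp (fun a => g * a * g⁻¹)
      (fun a ha => (mem_normalizer_iff.1 hgN a).1 ha) (fun a _ b _ => by group)
      (hS.conj_z hgN)) hσθ e.2)
  have hsyl : ∀ p : ℕ, p.Prime → ∃ (P : Subgroup G) (hNP : E ≤ P) (η : P → ℂ), ¬ p ∣ P.index ∧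
      Cfsg.IsCharacter P η ∧ ∀ e : ↥E, η ⟨(e : G), hNP e.2⟩ = ρθ.character e := by
    intro p hp
    haveI := Fact.mk hp
    let S : Sylow p ↥H := default
    let R : Subgroup G := (S : Subgroup ↥H).map H.subtype
    have hRH : R ≤ H := Subgroup.map_subtype_le _
    have hd : E ⊓ R = ⊥ := le_bot_iff.1 (hEH ▸ inf_le_inf_left E hRH)
    have hRp : IsPGroup p ↥R := S.2.map _
    have hcardH := card_sup_eq H hEH
    rw [hEHtop, Subgroup.card_top] at hcardH
    have hcardR := card_sup_eq R hd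
    have hRc : Nat.card R = Nat.card (S : Subgroup ↥H) :=
      Subgroup.card_map_of_injective H.subtype_injective
    have hind : ¬ p ∣ (E ⊔ R).index := by
      have h1 := (E ⊔ R).card_mul_index
      rw [hcardR, hcardH, ← (S : Subgroup ↥H).card_mul_index, ← hRc, ← mul_assoc] at h1
      rw [Nat.eq_of_mul_eq_mul_left (Nat.mul_pos Nat.card_pos Nat.card_pos) h1]
      exact S.not_dvd_index
    refine ⟨E ⊔ R, le_sup_left, ?_⟩
    by_cases hp2 : p = 2
    · subst hp2
      have hyp : Hyp z E K R := by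
        refine ⟨hS, hNall K, hNall R, fun r hr => ?_, hKodd,
          fun a ha h => hS.fpf_of_commutator K hKodd (hNall K) hEK.ge ha h, hRp⟩
        rw [mem_normalizer_iff]
        refine fun k => ⟨fun hk => hKn r (hRH hr) k hk, fun hk => ?_⟩
        simpa [mul_assoc] using hKn r⁻¹ (inv_mem (hRH hr)) _ hk
      obtain ⟨N, σ, ρ, hσ, hρ, hc⟩ := hyp.ext
      obtain ⟨τ, hτ⟩ := exists_rep_sup R hd hσ hρ hc
      refine ⟨τ.character, hind, CfsgLib.Char.isCharacter_character τ, fun e => ?_⟩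
      rw [hτ _ e.2, hθval]
      exact hS.trace_eq hσ hσθ e.2
    · -- coprime extension
      set P : Subgroup G := E ⊔ R
      let N' : Subgroup ↥P := E.subgroupOf P
      haveI : N'.Normal := Subgroup.normal_subgroupOf
      let ι : ↥N' ≃* ↥E := Subgroup.subgroupOfEquivOfLe (le_sup_left : E ≤ P)
      have hirr : Cfsg.IsIrrCharacter ↥N' (fun x => ρθ.character (ι x)) :=
        CfsgLib.Char.IsIrrCharacter.comp_surjective hθirr ι.toMonoidHom ι.surjective
      have hinv' : ∀ (g : ↥P) (x : ↥N'),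
          ρθ.character (ι ⟨g * x * g⁻¹, (inferInstance : N'.Normal).conj_mem (x : ↥P) x.2 g⟩) =
            ρθ.character (ι x) := fun g x => hinv (g : G) (ι x)
      have hcop : Nat.Coprime (Nat.card ↥N') N'.index := by
        have h1 := N'.card_mul_index
        rw [Nat.card_congr ι.toEquiv] at h1 ⊢
        rw [Nat.eq_of_mul_eq_mul_left Nat.card_pos (h1.trans hcardR)]
        obtain ⟨a, ha⟩ := IsPGroup.iff_card.1 (show IsPGroup 2 ↥E from hS.isPGroup)
        obtain ⟨b, hb⟩ := IsPGroup.iff_card.1 hRp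
        rw [ha, hb]
        exact ((Nat.coprime_primes Nat.prime_two hp).2 (Ne.symm hp2)).pow _ _
      obtain ⟨η, hη, hηe⟩ := CfsgLib.Char.exists_extension_of_coprime hirr hinv' hcop
      refine ⟨η, hind, CfsgLib.Char.IsIrrCharacter.isCharacter hη, fun e => ?_⟩
      have := hηe ⟨⟨(e : G), le_sup_left (b := R) e.2⟩, Subgroup.mem_subgroupOf.2 e.2⟩
      exact this
  exact CfsgLib.Char.exists_extension_of_sylow hθirr hinv hsyl

end CfsgLib.ExtraExtend
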