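import Cfsg.Agent.Char.ExtraExtend.Ring

/-!
# Extension through a pair of complementary Lagrangians

When an idempotent `e` of the class sum ring has adjoint `1 + e`, the preimage of its range is
abelian; its `K`-invariant complement `A` to `⟨z⟩` fixes a unique line, which normalises the
intertwiners of the stabiliser of `e`.
-/

set_option autoImplicit false
set_option linter.unusedSectionVars false
set_option linter.unusedVariables false
set_option linter.style.haveILetI false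

namespace CfsgLib.ExtraExtend

open Subgroup

universe u

variable {G : Type u} [Group G] [Finite G] {z : G} {E K P : Subgroup G}

/-- A complement to `⟨z⟩` in a Lagrangian preimage. -/
structure LagData (z : G) (E A : Subgroup G) (e : AddMonoid.End (V z E)) : Prop where
  adjC : ∀ x y : V z E, B (e x) y = B x (y + e y)
  le : ∀ a ∈ A, a ∈ E ∧ e (π z E a) = π z E a
  not_z : z ∉ A
  cover : ∀ a ∈ E, e (π z E a) = π z E a → a ∈ A ∨ a * z ∈ A

theorem Hyp.exists_lag (h : Hyp z E K P) {e : AddMonoid.End (V z E)} (hem : e ∈ cR z E K)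
    (hee : e * e = e) (hadj : ∀ x y : V z E, B (e x) y = B x (y + e y)) :
    ∃ A : Subgroup G, LagData z E A e ∧ ∀ m ∈ normalizer (E : Set G),
      m ∈ normalizer (K : Set G) → act z E m * e = e * act z E m → ∀ a ∈ A, m * a * m⁻¹ ∈ A := by
  classical
  have hS := h.sym
  let U : Subgroup G :=
    { carrier := {a | a ∈ E ∧ e (π z E a) = π z E a}
      one_mem' := ⟨one_mem E, by rw [π_one, map_zero]⟩
      mul_mem' := fun {a b} ha hb =>
        ⟨mul_mem ha.1 hb.1, by rw [π_mul z ha.1 hb.1, map_add, ha.2, hb.2]⟩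
      inv_mem' := fun {a} ha => ⟨inv_mem ha.1, by rw [π_inv z ha.1, map_neg, ha.2]⟩ }
  have hUcomm : ∀ a ∈ U, ∀ b ∈ U, a * b = b * a := fun a ha b hb => by
    refine cb_eq_zero.1 ?_
    rw [← hS.B_π ha.1 hb.1, ← ha.2, hadj, hb.2, hS.add_self, hS.B_zero_right]
  letI : CommGroup ↥U :=
    { (inferInstance : Group ↥U) with mul_comm := fun a b => Subtype.ext (hUcomm a a.2 b b.2) }
  have hzU : z ∈ U := ⟨hS.z_mem, by rw [hS.π_z, map_zero]⟩
  have hconjU : ∀ m ∈ normalizer (E : Set G), act z E m * e = e * act z E m →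
      ∀ a ∈ U, m * a * m⁻¹ ∈ U := fun m hm hc a ha => by
    refine ⟨(mem_normalizer_iff.1 hm a).1 ha.1, ?_⟩
    rw [← hS.act_π hm ha.1, ← mul_app, ← hc, mul_app, ha.2]
  have hKU : ∀ k : ↥K, ∀ a ∈ U, (k : G) * a * (k : G)⁻¹ ∈ U := fun k =>
    hconjU k (h.kN k.2) (h.act_comm k.2 hem)
  let cj : ↥K → ↥U →* ↥U := fun k => MonoidHom.mk' (fun a => ⟨k * a * (k : G)⁻¹, hKU k a a.2⟩)
    fun a b => Subtype.ext (by simp [mul_assoc])
  haveI : Fintype ↥K := Fintype.ofFinite _
  let f : ↥U →* ↥U := ∏ k : ↥K, cj k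
  have hf : ∀ a, f a = ∏ k : ↥K, cj k a := fun a => MonoidHom.finsetProd_apply _ _ _
  have hfz : ∀ a : ↥U, (f a : G) = 1 ∨ (f a : G) = z := by
    intro a
    refine (hS.π_eq_zero (f a).2.1).1 ?_
    let p : Additive ↥U →+ V z E := AddMonoidHom.mk' (fun b => π z E (b.toMul : G))
      fun b c => π_mul z b.toMul.2.1 c.toMul.2.1
    have h1 : π z E (f a : G) = ∑ k : ↥K, π z E ((cj k a : ↥U) : G) := by
      rw [hf]
      exact map_sum p (fun k => Additive.ofMul (cj k a)) Finset.univ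
    rw [h1]
    have h2 : ∀ k : ↥K, π z E ((cj k a : ↥U) : G) = act z E k (π z E a) := fun k =>
      (hS.act_π (h.kN k.2) a.2.1).symm
    simp only [h2]
    rw [← Finset.sum_subtype (kfin K) (fun x => mem_kfin) (fun x => act z E x (π z E a)), ← sum_app,
      h.sum_act, zero_app]
  have hfzz : (f ⟨z, hzU⟩ : G) = z := by
    rw [hf, Finset.prod_congr rfl fun (k : ↥K) _ =>
      show cj k ⟨z, hzU⟩ = ⟨z, hzU⟩ from Subtype.ext (hS.conj_z (h.kN k.2)), Finset.prod_const,
      Finset.card_univ, ← Nat.card_eq_fintype_card, Subgroup.coe_pow]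
    obtain ⟨r, hr⟩ := h.odd
    show z ^ Nat.card ↥K = z
    rw [hr, pow_succ, pow_mul, pow_two, hS.z_sq, one_pow, one_mul]
  refine ⟨f.ker.map U.subtype, ⟨hadj, ?_, ?_, ?_⟩, ?_⟩
  · rintro _ ⟨a, -, rfl⟩
    exact a.2
  · rintro ⟨a, ha, hae⟩
    have e1 : a = ⟨z, hzU⟩ := Subtype.ext hae
    rw [e1] at ha
    refine hS.z_ne ?_
    rw [← hfzz, (ha : f ⟨z, hzU⟩ = 1), Subgroup.coe_one]
  · intro a ha hea
    rcases hfz ⟨a, ha, hea⟩ with e1 | e1
    · exact Or.inl ⟨⟨a, ha, hea⟩, Subtype.ext e1, rfl⟩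
    · refine Or.inr ⟨⟨a, ha, hea⟩ * ⟨z, hzU⟩, Subtype.ext ?_, rfl⟩
      rw [map_mul, Subgroup.coe_mul, e1, hfzz, hS.z_sq, Subgroup.coe_one]
  · rintro m hm hmK hc _ ⟨a, ha, rfl⟩
    let c : ↥U →* ↥U := MonoidHom.mk' (fun b => ⟨m * b * m⁻¹, hconjU m hm hc b b.2⟩)
      fun b b' => Subtype.ext (by simp [mul_assoc])
    refine ⟨c a, ?_, rfl⟩
    have e1 : f (c a) = c (f a) := by
      rw [hf, hf, map_prod]
      let σ : ↥K ≃ ↥K :=
        { toFun := fun k => ⟨m⁻¹ * k * m, by
            simpa using (mem_normalizer_iff.1 (inv_mem hmK) (k : G)).1 k.2⟩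
          invFun := fun k => ⟨m * k * m⁻¹, (mem_normalizer_iff.1 hmK _).1 k.2⟩
          left_inv := fun k => Subtype.ext (by simp [mul_assoc])
          right_inv := fun k => Subtype.ext (by simp [mul_assoc]) }
      refine Fintype.prod_equiv σ _ _ fun k => Subtype.ext ?_
      simp only [c, cj, σ, MonoidHom.mk'_apply, Equiv.coe_fn_mk]
      group
    show f (c a) = 1
    rw [e1, (ha : f a = 1), map_one]

section rankOne

variable {N : ℕ} {A : Subgroup G} {σ : G → Mat N} {e : AddMonoid.End (V z E)}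

/-- The projection onto the fixed space of `A`. -/
noncomputable def qA (A : Subgroup G) (σ : G → Mat N) : Mat N :=
  (Nat.card A : ℂ)⁻¹ • ∑ a ∈ kfin A, σ a

theorem LagData.mul_qA (hA : LagData z E A e) (hσ : ERep z E N σ) {b : G} (hb : b ∈ A) :
    σ b * qA A σ = qA A σ := by
  rw [qA, mul_smul_comm, Finset.mul_sum]
  congr 1
  refine Finset.sum_bij' (fun j _ => b * j) (fun j _ => b⁻¹ * j)
    (fun j hj => mem_kfin.2 (mul_mem hb (mem_kfin.1 hj)))
    (fun j hj => mem_kfin.2 (mul_mem (inv_mem hb) (mem_kfin.1 hj)))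
    (fun j _ => inv_mul_cancel_left b j) (fun j _ => mul_inv_cancel_left b j) fun j hj => ?_
  exact (hσ.mul b (hA.le b hb).1 j (hA.le j (mem_kfin.1 hj)).1).symm

theorem LagData.qA_mul (hA : LagData z E A e) (hσ : ERep z E N σ) {b : G} (hb : b ∈ A) :
    qA A σ * σ b = qA A σ := by
  rw [qA, smul_mul_assoc, Finset.sum_mul]
  congr 1
  refine Finset.sum_bij' (fun j _ => j * b) (fun j _ => j * b⁻¹)
    (fun j hj => mem_kfin.2 (mul_mem (mem_kfin.1 hj) hb))
    (fun j hj => mem_kfin.2 (mul_mem (mem_kfin.1 hj) (inv_mem hb)))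
    (fun j _ => mul_inv_cancel_right j b) (fun j _ => inv_mul_cancel_right j b) fun j hj => ?_
  exact (hσ.mul j (hA.le j (mem_kfin.1 hj)).1 b (hA.le b hb).1).symm

theorem LagData.qA_sq (hA : LagData z E A e) (hσ : ERep z E N σ) :
    qA A σ * qA A σ = qA A σ := by
  conv_lhs => arg 1; rw [qA]
  rw [smul_mul_assoc, Finset.sum_mul, Finset.sum_congr rfl fun b hb =>
    hA.mul_qA hσ (mem_kfin.1 hb), Finset.sum_const, card_kfin, ← Nat.cast_smul_eq_nsmul ℂ,
    smul_smul, inv_mul_cancel₀ (Nat.cast_ne_zero.2 Nat.card_pos.ne'), one_smul]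

theorem LagData.sandwich_eq_zero (hA : LagData z E A e) (hS : Sym z E) (hσ : ERep z E N σ)
    (hee : e * e = e) {a : G} (ha : a ∈ E) (hne : e (π z E a) ≠ π z E a) :
    qA A σ * σ a * qA A σ = 0 := by
  obtain ⟨b, hb, hab⟩ : ∃ b ∈ A, a * b ≠ b * a := by
    by_contra hcon
    push Not at hcon
    refine hne (hS.eq_of_B fun y => ?_)
    have h0 : B (π z E a) (e y) = 0 := by
      obtain ⟨b, hbE, hb⟩ : ∃ b, b ∈ E ∧ π z E b = e y := exists_lift z E (e y)
      have heb : e (π z E b) = π z E b := by rw [hb, ← mul_app, hee]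
      rw [← hb, hS.B_π ha hbE, cb_eq_zero]
      rcases hA.cover b hbE heb with h1 | h1
      · exact hcon b h1
      · have h2 := hcon _ h1
        rw [← mul_assoc, mul_assoc b z a, ← hS.z_comm a ha, ← mul_assoc] at h2
        exact mul_right_cancel h2
    rw [hS.B_symm, hS.B_symm y (π z E a), hA.adjC, hS.B_add_right, h0, add_zero]
  have hbE := (hA.le b hb).1
  have hanti : σ a * σ b = -(σ b * σ a) := by
    rw [← hσ.mul a ha b hbE, (hS.comm a ha b hbE).resolve_left hab,
      hσ.mul _ (mul_mem hbE ha) _ hS.z_mem, hσ.mul b hbE a ha, hσ.map_z, mul_neg, mul_one]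
  have h2 : qA A σ * σ a * qA A σ = -(qA A σ * σ a * qA A σ) := by
    calc qA A σ * σ a * qA A σ = qA A σ * σ a * (σ b * qA A σ) := by rw [hA.mul_qA hσ hb]
      _ = qA A σ * (σ a * σ b) * qA A σ := by simp only [mul_assoc]
      _ = -(qA A σ * σ b * σ a * qA A σ) := by rw [hanti]; simp only [mul_neg, neg_mul, mul_assoc]
      _ = _ := by rw [hA.qA_mul hσ hb]
  have h3 : (2 : ℂ) • (qA A σ * σ a * qA A σ) = 0 := by
    rw [two_smul]; nth_rewrite 2 [h2]; exact add_neg_cancel _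
  exact (smul_eq_zero.1 h3).resolve_left two_ne_zero

theorem LagData.sandwich_mem (hA : LagData z E A e) (hS : Sym z E) (hσ : ERep z E N σ) {a : G}
    (ha : a ∈ E) (he : e (π z E a) = π z E a) (X : Mat N) :
    qA A σ * σ a * X * σ a⁻¹ * qA A σ = qA A σ * X * qA A σ := by
  rcases hA.cover a ha he with h1 | h1
  · rw [hA.qA_mul hσ h1, mul_assoc (qA A σ * X), hA.mul_qA hσ (inv_mem h1)]
  · have e1 : σ a = -σ (a * z) := by
      rw [hσ.mul a ha z hS.z_mem, hσ.map_z, mul_neg, mul_one, neg_neg]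
    have e2 : σ a⁻¹ = -σ (a * z)⁻¹ := by
      rw [_root_.mul_inv_rev, hS.inv_z, hσ.mul z hS.z_mem _ (inv_mem ha), hσ.map_z, neg_mul,
        one_mul, neg_neg]
    rw [e1, e2]
    simp only [mul_neg, neg_mul, neg_neg]
    rw [hA.qA_mul hσ h1, mul_assoc (qA A σ * X), hA.mul_qA hσ (inv_mem h1)]

theorem LagData.trace_qA (hA : LagData z E A e) (hS : Sym z E) (hσ : ERep z E N σ) :
    Matrix.trace (qA A σ) = (Nat.card A : ℂ)⁻¹ * N := by
  classical
  rw [qA, Matrix.trace_smul, smul_eq_mul, Matrix.trace_sum, Finset.sum_eq_single (1 : G)]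
  · rw [hσ.one, trace_one']
  · intro b hb hb1
    exact hS.trace_eq_zero hσ (hA.le b (mem_kfin.1 hb)).1 hb1
      fun h => hA.not_z (h ▸ mem_kfin.1 hb)
  · exact fun h => absurd (mem_kfin.2 (one_mem A)) h

theorem LagData.card_u (hA : LagData z E A e) (hS : Sym z E)
    [DecidablePred fun a : G => e (π z E a) = π z E a] :
    ((kfin E).filter fun a => e (π z E a) = π z E a).card = 2 * Nat.card A := by
  classical
  have : (kfin E).filter (fun a => e (π z E a) = π z E a) = kfin A ∪ (kfin A).image (· * z) := by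
    ext a
    simp only [Finset.mem_filter, mem_kfin, Finset.mem_union, Finset.mem_image]
    constructor
    · rintro ⟨ha, he⟩
      rcases hA.cover a ha he with h | h
      · exact Or.inl h
      · exact Or.inr ⟨_, h, by rw [mul_assoc, hS.z_sq, mul_one]⟩
    · rintro (h | ⟨b, hb, rfl⟩)
      · exact hA.le a h
      · refine ⟨mul_mem (hA.le b hb).1 hS.z_mem, ?_⟩
        rw [π_mul z (hA.le b hb).1 hS.z_mem, hS.π_z, add_zero, (hA.le b hb).2]
  rw [this, Finset.card_union_of_disjoint, Finset.card_image_of_injective _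
    (fun a b hab => mul_right_cancel hab), card_kfin, two_mul]
  rw [Finset.disjoint_left]
  intro a ha hmem
  obtain ⟨b, hb, rfl⟩ := Finset.mem_image.1 hmem
  refine hA.not_z ?_
  have := mul_mem (inv_mem (mem_kfin.1 hb)) (mem_kfin.1 ha)
  rwa [inv_mul_cancel_left] at this

theorem LagData.card_eq (hA : LagData z E A e) (hS : Sym z E) (hσ : ERep z E N σ)
    (hee : e * e = e) :
    Matrix.trace (qA A σ) = 1 ∧
      ∀ X : Mat N, qA A σ * X * qA A σ = Matrix.trace (X * qA A σ) • qA A σ := by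
  classical
  haveI : Fintype E := Fintype.ofFinite _
  set q := qA A σ with hq
  have hqid : q * q = q := hA.qA_sq hσ
  have main : ∀ X : Mat N,
      ((2 * Nat.card A : ℕ) : ℂ) • (q * X * q) = (2 * N * Matrix.trace (X * q) : ℂ) • q := by
    intro X
    have h1 := congrArg (fun Y => q * Y * q) (hS.avg hσ (X * q))
    simp only [Finset.mul_sum, Finset.sum_mul, mul_smul_comm, smul_mul_assoc, mul_one,
      hqid] at h1
    rw [← h1, ← Finset.sum_subtype (kfin E) (fun x => mem_kfin)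
      (fun a => q * (σ a * (X * q) * σ a⁻¹) * q),
      ← Finset.sum_filter_add_sum_filter_not (kfin E) (fun a => e (π z E a) = π z E a)]
    rw [Finset.sum_congr rfl (s₂ := (kfin E).filter fun a => e (π z E a) = π z E a)
        (g := fun _ => q * X * q) fun a ha => ?_,
      Finset.sum_eq_zero (s := (kfin E).filter fun a => ¬ e (π z E a) = π z E a) fun a ha => ?_,
      Finset.sum_const, hA.card_u hS, add_zero, Nat.cast_smul_eq_nsmul]
    · obtain ⟨haE, hne⟩ := Finset.mem_filter.1 ha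
      have h2 : q * σ a⁻¹ * q = 0 := by
        refine hA.sandwich_eq_zero hS hσ hee (inv_mem (mem_kfin.1 haE)) ?_
        rw [π_inv z (mem_kfin.1 haE), map_neg]
        exact fun h => hne (neg_injective h)
      calc q * (σ a * (X * q) * σ a⁻¹) * q = q * σ a * X * (q * σ a⁻¹ * q) := by
            simp only [mul_assoc]
        _ = 0 := by rw [h2, mul_zero]
    · obtain ⟨haE, he⟩ := Finset.mem_filter.1 ha
      calc q * (σ a * (X * q) * σ a⁻¹) * q = q * σ a * (X * q) * σ a⁻¹ * q := by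
            simp only [mul_assoc]
        _ = q * (X * q) * q := hA.sandwich_mem hS hσ (mem_kfin.1 haE) he _
        _ = q * X * q := by rw [← mul_assoc q X q, mul_assoc (q * X), hA.qA_sq hσ]
  have hAc : (Nat.card A : ℂ) ≠ 0 := Nat.cast_ne_zero.2 Nat.card_pos.ne'
  have hN : (N : ℂ) ≠ 0 := Nat.cast_ne_zero.2 hσ.pos.ne'
  have ht : Matrix.trace q = (Nat.card A : ℂ)⁻¹ * N := hA.trace_qA hS hσ
  have h1 := congrArg Matrix.trace (main 1)
  simp only [mul_one, one_mul, hqid, Matrix.trace_smul, ht, smul_eq_mul] at h1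
  have hcard : (Nat.card A : ℂ) * Nat.card A = (N : ℂ) * N := by
    field_simp at h1
    push_cast at h1
    linear_combination (1 / 2 : ℂ) * h1
  have hAN : Nat.card A = N := Nat.mul_self_inj.1 (by exact_mod_cast hcard)
  have h1' : Matrix.trace q = 1 := by rw [ht, hAN, inv_mul_cancel₀ hN]
  refine ⟨h1', fun X => ?_⟩
  have h2 := main X
  rw [hAN] at h2
  push_cast at h2
  rw [mul_smul (2 * (N : ℂ))] at h2
  exact smul_right_injective (Mat N) (mul_ne_zero two_ne_zero hN) h2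

end rankOne

/-- The case of a pair of complementary Lagrangian idempotents. -/
theorem Hyp.ext_of_lagrangian (h : Hyp z E K P) {N : ℕ} {σ : G → Mat N} (hσ : ERep z E N σ)
    {e : AddMonoid.End (V z E)} (hem : e ∈ cR z E K) (hee : e * e = e)
    (hadj : ∀ x y : V z E, B (e x) y = B x (y + e y))
    (hconj : ∀ p ∈ P, act z E p * e = e * act z E p ∨ act z E p * e = (1 + e) * act z E p) :
    Ext z E P := by
  classical
  have hS := h.sym
  haveI : Nonempty (Fin N) := Fin.pos_iff_nonempty.1 hσ.pos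
  let M : Subgroup G :=
    { carrier := {p | p ∈ P ∧ act z E p * e = e * act z E p}
      one_mem' := ⟨one_mem P, by rw [hS.act_one, one_mul, mul_one]⟩
      mul_mem' := fun {a b} ha hb => ⟨mul_mem ha.1 hb.1, by
        rw [hS.act_mul (h.pN ha.1) (h.pN hb.1), mul_assoc, hb.2, ← mul_assoc, ha.2, mul_assoc]⟩
      inv_mem' := fun {a} ha => ⟨inv_mem ha.1, by
        have h1 := hS.act_inv (h.pN ha.1)
        have h2 : act z E a * act z E a⁻¹ = 1 := by
          rw [← hS.act_mul (h.pN ha.1) (inv_mem (h.pN ha.1)), mul_inv_cancel, hS.act_one]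
        calc act z E a⁻¹ * e = act z E a⁻¹ * e * (act z E a * act z E a⁻¹) := by rw [h2, mul_one]
          _ = act z E a⁻¹ * (e * act z E a) * act z E a⁻¹ := by simp only [mul_assoc]
          _ = e * act z E a⁻¹ := by rw [← ha.2, ← mul_assoc, h1, one_mul]⟩ }
  obtain ⟨A, hA, hAinv⟩ := h.exists_lag hem hee hadj
  set q := qA A σ with hq
  obtain ⟨hq1, hq2⟩ := hA.card_eq hS hσ hee
  rw [← hq] at hq1 hq2
  have hq0 : q ≠ 0 := fun h0 => by rw [h0, Matrix.trace_zero] at hq1; exact zero_ne_one hq1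
  have hcomm : ∀ m ∈ M, ∀ S : Mat N, Inter E σ (fun a => σ (m * a * m⁻¹)) S → S * q = q * S := by
    intro m hm S hSI
    rw [hq, qA, mul_smul_comm, smul_mul_assoc, Finset.mul_sum, Finset.sum_mul]
    congr 1
    have hmE := h.pN hm.1
    refine Finset.sum_bij' (fun j _ => m * j * m⁻¹) (fun j _ => m⁻¹ * j * m)
      (fun j hj => mem_kfin.2 (hAinv m hmE (h.pK hm.1) hm.2 j (mem_kfin.1 hj)))
      (fun j hj => mem_kfin.2 ?_) (fun j _ => by group) (fun j _ => by group) fun j hj => ?_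
    · have hm' := inv_mem hm
      simpa using hAinv m⁻¹ (h.pN hm'.1) (h.pK hm'.1) hm'.2 j (mem_kfin.1 hj)
    · exact hSI j (hA.le j (mem_kfin.1 hj)).1
  let φ : Mat N → ℂ := fun S => Matrix.trace (S * q)
  have hphiQ : ∀ m ∈ M, ∀ S : Mat N, Inter E σ (fun a => σ (m * a * m⁻¹)) S →
      S * q = φ S • q := by
    intro m hm S hSI
    have h1 := hq2 S
    rwa [← hcomm m hm S hSI, mul_assoc, hA.qA_sq hσ] at h1
  obtain ⟨ρ, hρ, hc, hρs⟩ := hS.linearize hσ M (fun p hp => h.pN hp.1) φ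
    (by simp only [φ, one_mul, hq1])
    (fun m _ S _ c _ => by simp only [φ, smul_mul_assoc, Matrix.trace_smul, smul_eq_mul])
    (fun m hm S hSu hSI h0 => hq0 (by
      have h1 := hphiQ m hm S hSI
      rw [h0, zero_smul] at h1
      exact hSu.mul_right_eq_zero.1 h1))
    (fun m hm n hn S T hSu hTu hSI hTI => by
      show Matrix.trace (S * T * q) = _
      rw [mul_assoc, hphiQ n hn T hTI, mul_smul_comm, Matrix.trace_smul, smul_eq_mul, mul_comm])
  by_cases hall : ∀ p ∈ P, p ∈ M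
  · exact ⟨N, σ, ρ, hσ, ⟨hρ.one, fun a ha b hb => hρ.mul a (hall a ha) b (hall b hb)⟩,
      fun p hp => hc p (hall p hp)⟩
  push Not at hall
  obtain ⟨x, hxP, hxM⟩ := hall
  have hxN := h.pN hxP
  have hswap : act z E x * e = (1 + e) * act z E x :=
    (hconj x hxP).resolve_left fun h1 => hxM ⟨hxP, h1⟩
  have hswap' : act z E x * (1 + e) = e * act z E x := by
    rw [mul_add, mul_one, hswap, add_mul, one_mul, ← add_assoc, hS.end_add_self, zero_add]
  have h2 : act z E x * act z E x⁻¹ = 1 := by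
    rw [← hS.act_mul hxN (inv_mem hxN), mul_inv_cancel, hS.act_one]
  have hswapinv : act z E x⁻¹ * e = (1 + e) * act z E x⁻¹ := by
    calc act z E x⁻¹ * e = act z E x⁻¹ * e * (act z E x * act z E x⁻¹) := by rw [h2, mul_one]
      _ = act z E x⁻¹ * (e * act z E x) * act z E x⁻¹ := by simp only [mul_assoc]
      _ = (1 + e) * act z E x⁻¹ := by
        rw [← hswap', ← mul_assoc (act z E x⁻¹), hS.act_inv hxN, one_mul]
  have hMP : M ≤ P := fun p hp => hp.1
  have hswapinv' : act z E x⁻¹ * (1 + e) = e * act z E x⁻¹ := by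
    rw [mul_add, mul_one, hswapinv, add_mul, one_mul, ← add_assoc, hS.end_add_self, zero_add]
  have hxx : ∀ p ∈ P, p ∉ M → x⁻¹ * p ∈ M := by
    intro p hp hpM
    refine ⟨mul_mem (inv_mem hxP) hp, ?_⟩
    have hps := (hconj p hp).resolve_left fun h1 => hpM ⟨hp, h1⟩
    rw [hS.act_mul (inv_mem hxN) (h.pN hp), mul_assoc, hps, ← mul_assoc, hswapinv', mul_assoc]
  have hconjM : ∀ m ∈ M, x * m * x⁻¹ ∈ M := by
    intro m hm
    refine ⟨mul_mem (mul_mem hxP hm.1) (inv_mem hxP), ?_⟩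
    rw [hS.act_mul (mul_mem hxN (h.pN hm.1)) (inv_mem hxN), hS.act_mul hxN (h.pN hm.1)]
    calc act z E x * act z E m * act z E x⁻¹ * e
        = act z E x * (act z E m * (act z E x⁻¹ * e)) := by simp only [mul_assoc]
      _ = act z E x * (1 + e) * (act z E m * act z E x⁻¹) := by
          rw [hswapinv, ← mul_assoc (act z E m), mul_add, mul_one, hm.2, add_mul (act z E m)]
          simp only [mul_add, add_mul, mul_one, one_mul, mul_assoc]
      _ = e * (act z E x * act z E m * act z E x⁻¹) := by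
          rw [hswap']; simp only [mul_assoc]
  have hgen : ∀ p ∈ P, ∃ i : ℕ, ∃ c ∈ M, p = c * x ^ i := by
    intro p hp
    by_cases hpM : p ∈ M
    · exact ⟨0, p, hpM, by rw [pow_zero, mul_one]⟩
    · refine ⟨1, p * x⁻¹, ?_, by rw [pow_one, inv_mul_cancel_right]⟩
      rw [show p * x⁻¹ = x * (x⁻¹ * p) * x⁻¹ by group]
      exact hconjM _ (hxx p hp hpM)
  obtain ⟨S, hSu, hSI⟩ := hS.exists_conjInter hσ hxN
  refine hS.extend_cyclic hσ h.pN hMP hρ hc hxP hconjM hgen hSu hSI fun m hm => ?_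
  -- the image Lagrangian
  let A₂ : Subgroup G := A.map (MulAut.conj x).toMonoidHom
  have hA₂mem : ∀ b, b ∈ A₂ ↔ ∃ a ∈ A, x * a * x⁻¹ = b := fun b => Subgroup.mem_map
  have hA₂ : LagData z E A₂ (1 + e) := by
    refine ⟨fun u w => ?_, fun b hb => ?_, fun hz => ?_, fun b hbE hb => ?_⟩
    · rw [add_app, one_app, add_app, one_app, hS.B_add_left, hA.adjC, ← hS.B_add_right]
    · obtain ⟨a, ha, rfl⟩ := (hA₂mem b).1 hb
      refine ⟨(mem_normalizer_iff.1 hxN a).1 (hA.le a ha).1, ?_⟩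
      rw [← hS.act_π hxN (hA.le a ha).1, ← mul_app, ← hswap, mul_app, (hA.le a ha).2]
    · obtain ⟨a, ha, hae⟩ := (hA₂mem z).1 hz
      refine hA.not_z ?_
      have := hS.conj_z (inv_mem hxN)
      rw [inv_inv] at this
      rwa [show z = a by rw [← this, ← hae]; group]
    · have haE : x⁻¹ * b * x ∈ E := by simpa using (mem_normalizer_iff.1 (inv_mem hxN) b).1 hbE
      have he' : e (π z E (x⁻¹ * b * x)) = π z E (x⁻¹ * b * x) := by
        have h3 := hS.act_π (inv_mem hxN) hbE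
        rw [inv_inv] at h3
        rw [← h3, ← mul_app]
        calc (e * act z E x⁻¹) (π z E b) = (act z E x⁻¹ * (1 + e)) (π z E b) := by
              rw [mul_add, mul_one, hswapinv, add_mul, one_mul, ← add_assoc, hS.end_add_self,
                zero_add]
          _ = _ := by rw [mul_app, hb]
      rcases hA.cover _ haE he' with h3 | h3
      · exact Or.inl ((hA₂mem b).2 ⟨_, h3, by group⟩)
      · refine Or.inr ((hA₂mem _).2 ⟨_, h3, ?_⟩)
        rw [show x * (x⁻¹ * b * x * z) * x⁻¹ = b * (x * z * x⁻¹) by group, hS.conj_z hxN]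
  have hee2 : (1 + e) * (1 + e) = 1 + e := by
    rw [add_mul, one_mul, mul_add, mul_one, hee, hS.end_add_self, add_zero]
  set q₂ := qA A₂ σ with hq₂
  obtain ⟨hr1, hr2⟩ := hA₂.card_eq hS hσ hee2
  rw [← hq₂] at hr1 hr2
  have hSq : S * q = q₂ * S := by
    have hc2 : Nat.card A₂ = Nat.card A :=
      Nat.card_congr (A.equivMapOfInjective _ (MulAut.conj x).injective).symm.toEquiv
    rw [hq, hq₂, qA, qA, hc2, mul_smul_comm, smul_mul_assoc, Finset.mul_sum, Finset.sum_mul]
    congr 1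
    refine Finset.sum_bij' (fun j _ => x * j * x⁻¹) (fun j _ => x⁻¹ * j * x)
      (fun j hj => mem_kfin.2 ((hA₂mem _).2 ⟨j, mem_kfin.1 hj, rfl⟩))
      (fun j hj => ?_) (fun j _ => by group) (fun j _ => by group) fun j hj => ?_
    · obtain ⟨a, ha, rfl⟩ := (hA₂mem j).1 (mem_kfin.1 hj)
      rw [show x⁻¹ * (x * a * x⁻¹) * x = a by group]
      exact mem_kfin.2 ha
    · exact hSI j (hA.le j (mem_kfin.1 hj)).1
  have hqq : q * q₂ ≠ 0 := by
    intro h0
    have h1 : Matrix.trace (q * q₂) = 0 := by rw [h0, Matrix.trace_zero]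
    rw [hq, hq₂, qA, qA, smul_mul_smul_comm, Matrix.trace_smul, Finset.sum_mul_sum,
      Matrix.trace_sum, smul_eq_mul] at h1
    have h2 : ∑ a ∈ kfin A, Matrix.trace (∑ b ∈ kfin A₂, σ a * σ b) = (N : ℂ) := by
      have key : ∀ a ∈ A, ∀ b ∈ A₂, a * b = 1 ∨ a * b = z → a = 1 ∧ b = 1 := by
        intro a ha b hb hab
        have h3 : π z E a = π z E b := by
          have h4 := (hS.π_eq_zero (mul_mem (hA.le a ha).1 (hA₂.le b hb).1)).2 hab
          rw [π_mul z (hA.le a ha).1 (hA₂.le b hb).1] at h4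
          rw [eq_neg_of_add_eq_zero_left h4, hS.neg_eq]
        have h5 : π z E a = 0 := by
          rw [← (hA.le a ha).2, h3, ← (hA₂.le b hb).2, ← mul_app, mul_add, mul_one, hee,
            hS.end_add_self, zero_app]
        have ha1 : a = 1 := ((hS.π_eq_zero (hA.le a ha).1).1 h5).resolve_right
          fun h6 => hA.not_z (h6 ▸ ha)
        refine ⟨ha1, ?_⟩
        rw [ha1, one_mul] at hab
        exact hab.resolve_right fun h6 => hA₂.not_z (h6 ▸ hb)
      simp only [Matrix.trace_sum]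
      rw [Finset.sum_eq_single (1 : G), Finset.sum_eq_single (1 : G)]
      · rw [hσ.one, one_mul, trace_one']
      · intro b hb hb1
        rw [← hσ.mul 1 (one_mem E) b (hA₂.le b (mem_kfin.1 hb)).1]
        refine hS.trace_eq_zero hσ (mul_mem (one_mem E) (hA₂.le b (mem_kfin.1 hb)).1) ?_ ?_
        · exact fun h6 => hb1 (key 1 (one_mem A) b (mem_kfin.1 hb) (Or.inl h6)).2
        · exact fun h6 => hb1 (key 1 (one_mem A) b (mem_kfin.1 hb) (Or.inr h6)).2
      · exact fun h6 => absurd (mem_kfin.2 (one_mem A₂)) h6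
      · intro a ha ha1
        refine Finset.sum_eq_zero fun b hb => ?_
        rw [← hσ.mul a (hA.le a (mem_kfin.1 ha)).1 b (hA₂.le b (mem_kfin.1 hb)).1]
        refine hS.trace_eq_zero hσ
          (mul_mem (hA.le a (mem_kfin.1 ha)).1 (hA₂.le b (mem_kfin.1 hb)).1) ?_ ?_
        · exact fun h6 => ha1 (key a (mem_kfin.1 ha) b (mem_kfin.1 hb) (Or.inl h6)).1
        · exact fun h6 => ha1 (key a (mem_kfin.1 ha) b (mem_kfin.1 hb) (Or.inr h6)).1
      · exact fun h6 => absurd (mem_kfin.2 (one_mem A)) h6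
    rw [h2] at h1
    exact mul_ne_zero (mul_ne_zero (inv_ne_zero (Nat.cast_ne_zero.2 Nat.card_pos.ne'))
      (inv_ne_zero (Nat.cast_ne_zero.2 Nat.card_pos.ne'))) (Nat.cast_ne_zero.2 hσ.pos.ne') h1
  -- the second projection is fixed by the normalised intertwiners
  have hfix : ∀ n ∈ M, ρ n * q₂ = q₂ := by
    intro n hn
    obtain ⟨-, hn1, -⟩ := hρs n hn
    have hcq : q₂ * ρ n = ρ n * q₂ := by
      rw [hq₂, qA, mul_smul_comm, smul_mul_assoc, Finset.mul_sum, Finset.sum_mul]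
      congr 1
      have hnE := h.pN hn.1
      refine (Finset.sum_bij' (fun j _ => n * j * n⁻¹) (fun j _ => n⁻¹ * j * n)
        (fun j hj => ?_) (fun j hj => ?_) (fun j _ => by group) (fun j _ => by group)
        fun j hj => hc n hn j (hA₂.le j (mem_kfin.1 hj)).1).symm
      · obtain ⟨a, ha, rfl⟩ := (hA₂mem j).1 (mem_kfin.1 hj)
        refine mem_kfin.2 ((hA₂mem _).2 ⟨(x⁻¹ * n * x) * a * (x⁻¹ * n * x)⁻¹, ?_, by group⟩)
        have hm' : x⁻¹ * n * x ∈ M := by
          by_cases hnx : n * x ∈ M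
          · exact absurd (by simpa using mul_mem (inv_mem hn) hnx) hxM
          · rw [mul_assoc]; exact hxx _ (mul_mem hn.1 hxP) hnx
        exact hAinv _ (h.pN hm'.1) (h.pK hm'.1) hm'.2 a ha
      · obtain ⟨a, ha, rfl⟩ := (hA₂mem j).1 (mem_kfin.1 hj)
        refine mem_kfin.2 ((hA₂mem _).2 ⟨(x⁻¹ * n⁻¹ * x) * a * (x⁻¹ * n⁻¹ * x)⁻¹, ?_, by group⟩)
        have hn' := inv_mem hn
        have hm' : x⁻¹ * n⁻¹ * x ∈ M := by
          by_cases hnx : n⁻¹ * x ∈ M
          · exact absurd (by simpa using mul_mem hn hnx) hxM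
          · rw [mul_assoc]; exact hxx _ (mul_mem hn'.1 hxP) hnx
        exact hAinv _ (h.pN hm'.1) (h.pK hm'.1) hm'.2 a ha
    have h4 := hr2 (ρ n)
    rw [hcq, mul_assoc, hA₂.qA_sq hσ] at h4
    have h5 : q * (ρ n * q₂) = q * q₂ := by
      rw [← mul_assoc, ← hcomm n hn _ (fun a ha => hc n hn a ha),
        hphiQ n hn _ (fun a ha => hc n hn a ha), hn1, one_smul]
    rw [h4, mul_smul_comm] at h5
    have h6 : Matrix.trace (ρ n * q₂) = 1 := by
      by_contra h7
      refine hqq ?_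
      have h8 : (Matrix.trace (ρ n * q₂) - 1) • (q * q₂) = 0 := by
        rw [sub_smul, one_smul, h5, sub_self]
      exact (smul_eq_zero.1 h8).resolve_left (sub_ne_zero.2 h7)
    rw [h4, h6, one_smul]
  obtain ⟨Su, rfl⟩ := hSu
  have hxm := hconjM m hm
  set T : Mat N := (↑Su⁻¹ : Mat N) * ρ (x * m * x⁻¹) * ↑Su with hT
  have hTI : Inter E σ (fun a => σ (m * a * m⁻¹)) T := by
    intro a ha
    have hxa := (mem_normalizer_iff.1 hxN a).1 ha
    have hma := (mem_normalizer_iff.1 (h.pN hm.1) a).1 ha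
    have e1 : ↑Su * σ (m * a * m⁻¹) = σ (x * (m * a * m⁻¹) * x⁻¹) * (↑Su : Mat N) := hSI _ hma
    have e2 := hc _ hxm _ hxa
    rw [show x * m * x⁻¹ * (x * a * x⁻¹) * (x * m * x⁻¹)⁻¹ = x * (m * a * m⁻¹) * x⁻¹ by group]
      at e2
    have e3 : ↑Su * σ a = σ (x * a * x⁻¹) * (↑Su : Mat N) := hSI a ha
    calc T * σ a = (↑Su⁻¹ : Mat N) * (ρ (x * m * x⁻¹) * σ (x * a * x⁻¹)) * ↑Su := by
          rw [hT]; simp only [mul_assoc, e3]
      _ = (↑Su⁻¹ : Mat N) * (σ (x * (m * a * m⁻¹) * x⁻¹) * ↑Su) *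
            ((↑Su⁻¹ : Mat N) * ρ (x * m * x⁻¹) * ↑Su) := by
          rw [e2]; simp only [mul_assoc, Units.mul_inv_cancel_left]
      _ = σ (m * a * m⁻¹) * T := by rw [← e1, Units.inv_mul_cancel_left]
  have hT1 : φ T = 1 := by
    show Matrix.trace (T * q) = 1
    rw [hT, mul_assoc _ (↑Su : Mat N) q, hSq, ← mul_assoc, mul_assoc _ (ρ (x * m * x⁻¹)) q₂,
      hfix _ hxm, mul_assoc _ q₂, ← hSq, Units.inv_mul_cancel_left, hq1]
  have hTu : IsUnit T := ((Units.isUnit _).mul (hρs _ hxm).1).mul (Units.isUnit _)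
  rw [← (hρs m hm).2.2 T hTu hTI hT1, hT, mul_assoc, Units.mul_inv_cancel_left]

end CfsgLib.ExtraExtend
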