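import Cfsg.Agent.Char.ExtraExtend.Ring

/-!
# An automorphism of odd prime order commuting with `K`

If the class sum ring is a field with nontrivial involution, a unitary element of odd prime order
lifts uniquely to an endomorphism of `E` commuting with `K`.
-/

set_option autoImplicit false
set_option linter.unusedSectionVars false
set_option linter.unusedVariables false
set_option linter.style.haveILetI false

namespace CfsgLib.ExtraExtend

open Subgroup

universe u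

variable {G : Type u} [Group G] [Finite G] {z : G} {E K P : Subgroup G}

theorem Hyp.exists_unitary (h : Hyp z E K P)
    (hfield : ∀ T ∈ cR z E K, T ≠ 0 → ∃ U ∈ cR z E K, T * U = 1) {b : AddMonoid.End (V z E)}
    (hb : b ∈ cR z E K) (hne : adj z E K b ≠ b) :
    ∃ a ∈ cR z E K, ∃ q : ℕ, q.Prime ∧ q ≠ 2 ∧ a ^ q = 1 ∧ a ≠ 1 ∧
      (∀ x y : V z E, B (a x) (a y) = B x y) ∧ ∀ x : V z E, a x = x → x = 0 := by
  have hS := h.sym
  haveI := finite_end hS
  obtain ⟨u, hu, hbu⟩ := hfield b hb fun h0 => hne (by rw [h0, h.adj_zero])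
  set a₀ := adj z E K b * u with ha₀
  have ha₀m : a₀ ∈ cR z E K := mul_mem (h.adj_mem hb) hu
  have hprod : a₀ * adj z E K a₀ = 1 := by
    rw [ha₀, h.adj_mul (h.adj_mem hb) hu, h.adj_adj hb]
    calc adj z E K b * u * (b * adj z E K u) = adj z E K b * (u * b) * adj z E K u := by
          simp only [mul_assoc]
      _ = adj z E K b * adj z E K u := by rw [h.comm hu hb, hbu, mul_one]
      _ = 1 := by rw [← h.adj_mul hb hu, hbu, h.adj_one]
  have hne1 : a₀ ≠ 1 := fun h1 => hne (by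
    calc adj z E K b = adj z E K b * (b * u) := by rw [hbu, mul_one]
      _ = adj z E K b * (u * b) := by rw [h.comm hb hu]
      _ = a₀ * b := by rw [ha₀, mul_assoc]
      _ = b := by rw [h1, one_mul])
  let w : (AddMonoid.End (V z E))ˣ :=
    ⟨a₀, adj z E K a₀, hprod, by rw [h.comm (h.adj_mem ha₀m) ha₀m, hprod]⟩
  have hw1 : w ≠ 1 := fun h1 => hne1 (congrArg Units.val h1)
  have hord : orderOf w ≠ 1 := fun h1 => hw1 (orderOf_eq_one_iff.1 h1)
  obtain ⟨q, hq, r, hr⟩ := Nat.exists_prime_and_dvd hord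
  have hr0 : 0 < r := by
    rcases Nat.eq_zero_or_pos r with h0 | h0
    · rw [h0, mul_zero] at hr; exact absurd hr (orderOf_pos w).ne'
    · exact h0
  set a := a₀ ^ r with ha
  have ham : a ∈ cR z E K := pow_mem ha₀m r
  have haq : a ^ q = 1 := by
    rw [ha, ← pow_mul, mul_comm, ← hr]
    exact congrArg Units.val (pow_orderOf_eq_one w)
  have ha1 : a ≠ 1 := fun h1 => by
    have h2 : w ^ r = 1 := Units.ext (by rw [Units.val_pow_eq_pow_val]; exact h1)
    have h3 := Nat.le_of_dvd hr0 (orderOf_dvd_of_pow_eq_one h2)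
    have := hq.two_le
    nlinarith
  have hisom : ∀ n : ℕ, ∀ x y : V z E, B ((a₀ ^ n) x) ((a₀ ^ n) y) = B x y := by
    intro n
    induction n with
    | zero => intro x y; rw [pow_zero]; rfl
    | succ n ih =>
      intro x y
      rw [pow_succ, mul_app (a₀ ^ n) a₀ x, mul_app (a₀ ^ n) a₀ y, ih, h.isAdj ha₀m, ← mul_app,
        h.comm (h.adj_mem ha₀m) ha₀m, hprod, one_app]
  refine ⟨a, ham, q, hq, ?_, haq, ha1, hisom r, fun x hx => ?_⟩
  · rintro rfl
    refine ha1 ?_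
    have h2 : a + 1 = 0 := h.eq_zero_of_sq (add_mem ham (one_mem _)) (by
      rw [mul_add, add_mul, one_mul, mul_one, ← pow_two, haq, add_assoc, ← add_assoc a a,
        hS.end_add_self, zero_add, hS.end_add_self])
    rw [eq_neg_of_add_eq_zero_left h2, hS.end_neg]
  · obtain ⟨v, hv, hav⟩ := hfield (a + 1) (add_mem ham (one_mem _)) fun h2 => ha1 (by
      rw [eq_neg_of_add_eq_zero_left h2, hS.end_neg])
    rw [h.comm (add_mem ham (one_mem _)) hv] at hav
    have h3 := congrArg (fun T : AddMonoid.End (V z E) => T x) hav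
    simp only [mul_app, add_app, one_app, hx, hS.add_self, map_zero] at h3
    exact h3.symm

/-- `α` is a lift of `a` commuting with `K`. -/
structure IsLift (z : G) (E K : Subgroup G) (a : AddMonoid.End (V z E)) (α : G → G) : Prop where
  mem : ∀ b ∈ E, α b ∈ E
  mul : ∀ b ∈ E, ∀ c ∈ E, α (b * c) = α b * α c
  proj : ∀ b ∈ E, π z E (α b) = a (π z E b)
  map_z : α z = z
  equiv : ∀ k ∈ K, ∀ b ∈ E, α (k * b * k⁻¹) = k * α b * k⁻¹

theorem Hyp.lift_unique (h : Hyp z E K P) {a : AddMonoid.End (V z E)} {α β : G → G}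
    (hα : IsLift z E K a α) (hβ : IsLift z E K a β) : ∀ b ∈ E, α b = β b := by
  classical
  have hS := h.sym
  have hcase : ∀ b ∈ E, α b = β b ∨ α b = β b * z := fun b hb =>
    hS.π_eq (hα.mem b hb) (hβ.mem b hb) (by rw [hα.proj b hb, hβ.proj b hb])
  let d : G → ZMod 2 := fun b => if α b = β b then 0 else 1
  have hdmul : ∀ b ∈ E, ∀ c ∈ E, d (b * c) = d b + d c := by
    intro b hb c hc
    have hzc : z * β c = β c * z := (hS.z_comm _ (hβ.mem c hc)).symm
    simp only [d, hα.mul b hb c hc, hβ.mul b hb c hc]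
    rcases hcase b hb with e1 | e1 <;> rcases hcase c hc with e2 | e2 <;> rw [e1, e2]
    · simp
    · rw [if_pos rfl, ← mul_assoc, if_neg (hS.mul_z_ne _), if_neg (hS.mul_z_ne _), zero_add]
    · rw [if_neg (hS.mul_z_ne _), if_pos rfl, mul_assoc, hzc, ← mul_assoc,
        if_neg (hS.mul_z_ne _), add_zero]
    · rw [if_neg (hS.mul_z_ne _), if_neg (hS.mul_z_ne _), mul_assoc (β b), ← mul_assoc z, hzc,
        mul_assoc, hS.z_sq, mul_one, if_pos rfl]
      rfl
  have hdz : d z = 0 := if_pos (hα.map_z.trans hβ.map_z.symm)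
  have hdπ : ∀ b ∈ E, ∀ c ∈ E, π z E b = π z E c → d b = d c := by
    intro b hb c hc he
    rcases hS.π_eq hb hc he with e1 | e1
    · rw [e1]
    · rw [e1, hdmul c hc z hS.z_mem, hdz, add_zero]
  let l : V z E →+ ZMod 2 := AddMonoidHom.mk' (fun x => d (lift x)) fun x y => by
    rw [← hdmul _ (lift_mem x) _ (lift_mem y)]
    refine hdπ _ (lift_mem _) _ (mul_mem (lift_mem x) (lift_mem y)) ?_
    rw [π_mul z (lift_mem x) (lift_mem y), π_lift, π_lift, π_lift]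
  have hl : l = 0 := by
    refine h.functional_eq_zero l fun k hk x => ?_
    show d (lift (act z E k x)) = d (lift x)
    have hkx : k * lift x * k⁻¹ ∈ E := (mem_normalizer_iff.1 (h.kN hk) _).1 (lift_mem x)
    rw [hdπ _ (lift_mem _) _ hkx (by rw [π_lift, ← hS.act_π (h.kN hk) (lift_mem x), π_lift])]
    simp only [d, hα.equiv k hk _ (lift_mem x), hβ.equiv k hk _ (lift_mem x), mul_left_inj,
      mul_right_inj]
  intro b hb
  by_contra hne
  have h1 : d b = 0 := by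
    rw [hdπ b hb (lift (π z E b)) (lift_mem _) (π_lift _).symm]
    exact DFunLike.congr_fun hl (π z E b)
  simp [d, hne] at h1

theorem Hyp.Q_isometry (h : Hyp z E K P) {a : AddMonoid.End (V z E)} (ha : a ∈ cR z E K)
    (hisom : ∀ x y : V z E, B (a x) (a y) = B x y) (x : V z E) : Q (a x) = Q x := by
  have hS := h.sym
  let l : V z E →+ ZMod 2 := AddMonoidHom.mk' (fun x => Q (a x) + Q x) fun x y => by
    rw [map_add, hS.Q_add, hS.Q_add, hisom]
    have h2 : B x y + B x y = 0 := CharTwo.add_self_eq_zero _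
    linear_combination h2
  have hl : l = 0 := by
    refine h.functional_eq_zero l fun k hk y => ?_
    show Q (a (act z E k y)) + Q (act z E k y) = Q (a y) + Q y
    rw [← mul_app, ← h.act_comm hk ha, mul_app, hS.Q_act (h.kN hk), hS.Q_act (h.kN hk)]
  have := DFunLike.congr_fun hl x
  exact CharTwo.add_eq_zero.1 this

theorem Hyp.exists_lift_end (h : Hyp z E K P) {a : AddMonoid.End (V z E)} (ha : a ∈ cR z E K)
    (hisom : ∀ x y : V z E, B (a x) (a y) = B x y) : ∃ α : G → G, IsLift z E K a α := by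
  classical
  have hS := h.sym
  have hQ := h.Q_isometry ha hisom
  -- the graph
  let Γ : Subgroup (G × G) :=
    { carrier := {w | w.1 ∈ E ∧ w.2 ∈ E ∧ π z E w.2 = a (π z E w.1)}
      one_mem' := ⟨one_mem E, one_mem E, by simp [π_one]⟩
      mul_mem' := fun {v w} hv hw => ⟨mul_mem hv.1 hw.1, mul_mem hv.2.1 hw.2.1, by
        rw [Prod.snd_mul, Prod.fst_mul, π_mul z hv.2.1 hw.2.1, π_mul z hv.1 hw.1, map_add, hv.2.2,
          hw.2.2]⟩
      inv_mem' := fun {v} hv => ⟨inv_mem hv.1, inv_mem hv.2.1, by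
        rw [Prod.snd_inv, Prod.fst_inv, π_inv z hv.2.1, π_inv z hv.1, map_neg, hv.2.2]⟩ }
  let D : Subgroup ↥Γ :=
    { carrier := {w | (w.1.1 = 1 ∧ w.1.2 = 1) ∨ (w.1.1 = z ∧ w.1.2 = z)}
      one_mem' := Or.inl ⟨rfl, rfl⟩
      mul_mem' := fun {v w} hv hw => by
        rcases hv with ⟨v1, v2⟩ | ⟨v1, v2⟩ <;> rcases hw with ⟨w1, w2⟩ | ⟨w1, w2⟩ <;>
          simp [v1, v2, w1, w2, hS.z_sq]
      inv_mem' := fun {v} hv => by
        rcases hv with ⟨v1, v2⟩ | ⟨v1, v2⟩ <;> simp [v1, v2, hS.inv_z] }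
  haveI hDn : D.Normal := by
    refine ⟨fun n hn g => ?_⟩
    rcases hn with ⟨n1, n2⟩ | ⟨n1, n2⟩
    · left; simp [n1, n2]
    · right
      simp only [Subgroup.coe_mul, Subgroup.coe_inv, Prod.fst_mul, Prod.snd_mul, Prod.fst_inv,
        Prod.snd_inv, n1, n2]
      rw [hS.z_comm _ g.2.1, hS.z_comm _ g.2.2.1, mul_inv_cancel_right, mul_inv_cancel_right]
      exact ⟨rfl, rfl⟩
  have hW : ∀ p r : ↥Γ ⧸ D, p * r = r * p := by
    intro p r
    obtain ⟨v, rfl⟩ := QuotientGroup.mk_surjective p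
    obtain ⟨w, rfl⟩ := QuotientGroup.mk_surjective r
    rw [← QuotientGroup.mk_mul, ← QuotientGroup.mk_mul, QuotientGroup.eq]
    obtain ⟨v1, v2, v3⟩ := v.2
    obtain ⟨w1, w2, w3⟩ := w.2
    have hbit : cb w.1.1 v.1.1 = cb w.1.2 v.1.2 := by
      rw [← hS.B_π w1 v1, ← hS.B_π w2 v2, w3, v3, hisom]
    have step : ∀ p q : G, p ∈ E → q ∈ E →
        (p * q)⁻¹ * (q * p) = if cb q p = 0 then 1 else z := by
      intro p q hp hq
      rcases cb_cases hS hq hp with ⟨e0, e1⟩ | ⟨e0, e1⟩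
      · rw [if_pos e0, e1]; group
      · rw [if_neg (by rw [e0]; decide), e1]; group
    show _ ∨ _
    simp only [Subgroup.coe_mul, Subgroup.coe_inv, Prod.fst_mul, Prod.snd_mul, Prod.fst_inv,
      Prod.snd_inv]
    rw [step _ _ v1 w1, step _ _ v2 w2, ← hbit]
    by_cases e : cb w.1.1 v.1.1 = 0
    · left; simp [e]
    · right; simp [e]
  letI : CommGroup (↥Γ ⧸ D) := { (inferInstance : Group (↥Γ ⧸ D)) with mul_comm := hW }
  have hKΓ : ∀ k : ↥K, ∀ w ∈ Γ, ((k : G) * w.1 * (k : G)⁻¹, (k : G) * w.2 * (k : G)⁻¹) ∈ Γ := by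
    intro k w hw
    refine ⟨(mem_normalizer_iff.1 (h.kN k.2) _).1 hw.1, (mem_normalizer_iff.1 (h.kN k.2) _).1 hw.2.1,
      ?_⟩
    rw [← hS.act_π (h.kN k.2) hw.2.1, ← hS.act_π (h.kN k.2) hw.1, hw.2.2, ← mul_app,
      h.act_comm k.2 ha, mul_app]
  let cj : ↥K → ↥Γ →* ↥Γ := fun k => MonoidHom.mk'
    (fun w => ⟨((k : G) * w.1.1 * (k : G)⁻¹, (k : G) * w.1.2 * (k : G)⁻¹), hKΓ k w.1 w.2⟩)
    fun v w => Subtype.ext (Prod.ext (by simp [mul_assoc]) (by simp [mul_assoc]))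
  haveI : Fintype ↥K := Fintype.ofFinite _
  let Φ : ↥Γ →* ↥Γ ⧸ D := ∏ k : ↥K, (QuotientGroup.mk' D).comp (cj k)
  have hΦ : ∀ w, Φ w = ∏ k : ↥K, ((cj k w : ↥Γ) : ↥Γ ⧸ D) := fun w => by
    simp only [Φ, MonoidHom.finsetProd_apply]
    rfl
  have hz1 : ((z : G), (1 : G)) ∈ Γ := ⟨hS.z_mem, one_mem E, by simp [hS.π_z, π_one]⟩
  set ε : ↥Γ ⧸ D := ((⟨_, hz1⟩ : ↥Γ) : ↥Γ ⧸ D) with hε
  have hεne : ε ≠ 1 := fun h1 => by
    rcases (QuotientGroup.eq_one_iff _).1 h1 with ⟨e1, -⟩ | ⟨-, e2⟩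
    · exact hS.z_ne e1
    · exact hS.z_ne e2.symm
  have hεε : ε * ε = 1 := by
    rw [hε, ← QuotientGroup.mk_mul, QuotientGroup.eq_one_iff]
    left
    simp [hS.z_sq]
  have hΦval : ∀ w : ↥Γ, Φ w = 1 ∨ Φ w = ε := by
    intro w
    obtain ⟨u, hu⟩ := QuotientGroup.mk_surjective (Φ w)
    -- project to the first coordinate
    let p : Additive (↥Γ ⧸ D) →+ V z E :=
      AddMonoidHom.mk' (fun x => π z E x.toMul.out.1.1) (fun x y => by
        show π z E ((x + y).toMul.out).1.1 = _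
        have h1 : (((x + y).toMul.out : ↥Γ) : ↥Γ ⧸ D) = ((x.toMul.out * y.toMul.out : ↥Γ) : ↥Γ ⧸ D) := by
          rw [QuotientGroup.mk_mul, QuotientGroup.out_eq', QuotientGroup.out_eq',
            QuotientGroup.out_eq']
          rfl
        obtain ⟨d, hd, he⟩ : ∃ d : ↥Γ, d ∈ D ∧ x.toMul.out * y.toMul.out = (x + y).toMul.out * d :=
          ⟨_, QuotientGroup.eq.1 h1, (mul_inv_cancel_left _ _).symm⟩
        have he1 : x.toMul.out.1.1 * y.toMul.out.1.1 = (x + y).toMul.out.1.1 * d.1.1 :=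
          congrArg (fun t : ↥Γ => t.1.1) he
        rw [← π_mul z x.toMul.out.2.1 y.toMul.out.2.1, he1, π_mul z (x + y).toMul.out.2.1 d.2.1]
        rcases hd with ⟨d1, -⟩ | ⟨d1, -⟩
        · rw [d1, π_one, add_zero]
        · rw [d1, hS.π_z, add_zero])
    have hpu : ∀ v : ↥Γ, p (Additive.ofMul (v : ↥Γ ⧸ D)) = π z E v.1.1 := by
      intro v
      show π z E ((v : ↥Γ ⧸ D).out).1.1 = _
      obtain ⟨d, hd⟩ := QuotientGroup.mk_out_eq_mul D v
      rw [hd, Subgroup.coe_mul, Prod.fst_mul, π_mul z v.2.1 (d : ↥Γ).2.1]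
      rcases d.2 with ⟨d1, -⟩ | ⟨d1, -⟩
      · rw [d1, π_one, add_zero]
      · rw [d1, hS.π_z, add_zero]
    have h0 : π z E u.1.1 = 0 := by
      rw [← hpu u, hu, hΦ, show Additive.ofMul (∏ k : ↥K, ((cj k w : ↥Γ) : ↥Γ ⧸ D)) =
        ∑ k : ↥K, Additive.ofMul ((cj k w : ↥Γ) : ↥Γ ⧸ D) from rfl, map_sum,
        Finset.sum_congr rfl fun k _ => (hpu (cj k w)).trans
          (hS.act_π (h.kN k.2) w.2.1).symm,
        ← Finset.sum_subtype (kfin K) (fun x => mem_kfin) (fun x => act z E x (π z E w.1.1)),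
        ← sum_app, h.sum_act, zero_app]
    have h1 : π z E u.1.2 = 0 := by rw [u.2.2.2, h0, map_zero]
    rw [← hu]
    rcases (hS.π_eq_zero u.2.1).1 h0 with e1 | e1 <;> rcases (hS.π_eq_zero u.2.2.1).1 h1 with e2 | e2
    · left; rw [QuotientGroup.eq_one_iff]; exact Or.inl ⟨e1, e2⟩
    · right; rw [hε, QuotientGroup.eq]; right
      simp [e1, e2, hS.inv_z]
    · right; rw [hε, QuotientGroup.eq]; left
      simp [e1, e2, hS.inv_z, hS.z_sq]
    · left; rw [QuotientGroup.eq_one_iff]; exact Or.inr ⟨e1, e2⟩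
  have hz2 : ((1 : G), (z : G)) ∈ Γ := ⟨one_mem E, hS.z_mem, by simp [hS.π_z, π_one]⟩
  have hΦz : Φ ⟨_, hz2⟩ = ε := by
    rw [hΦ, Finset.prod_congr rfl fun (k : ↥K) _ => show ((cj k ⟨_, hz2⟩ : ↥Γ) : ↥Γ ⧸ D) = ε from ?_,
      Finset.prod_const, Finset.card_univ, ← Nat.card_eq_fintype_card]
    · obtain ⟨r, hr⟩ := h.odd
      rw [hr, pow_succ, pow_mul, pow_two, hεε, one_pow, one_mul]
    · rw [hε, QuotientGroup.eq]
      right
      simp [cj, hS.conj_z (h.kN k.2), hS.inv_z]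
  have hex : ∀ b ∈ E, ∃ c : G, ∃ hc : (b, c) ∈ Γ, Φ ⟨_, hc⟩ = 1 := by
    intro b hb
    have hm : (b, lift (a (π z E b))) ∈ Γ := ⟨hb, lift_mem _, π_lift _⟩
    rcases hΦval ⟨_, hm⟩ with e | e
    · exact ⟨_, hm, e⟩
    · have hm2 := mul_mem hm hz2
      rw [Prod.mk_mul_mk, mul_one] at hm2
      refine ⟨_, hm2, ?_⟩
      rw [show (⟨_, hm2⟩ : ↥Γ) = ⟨_, hm⟩ * ⟨_, hz2⟩ from Subtype.ext (by simp), map_mul, e, hΦz, hεε]
  have huni : ∀ b c c' : G, ∀ hc : (b, c) ∈ Γ, ∀ hc' : (b, c') ∈ Γ,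
      Φ ⟨_, hc⟩ = 1 → Φ ⟨_, hc'⟩ = 1 → c = c' := by
    intro b c c' hc hc' e e'
    rcases hS.π_eq hc.2.1 hc'.2.1 (hc.2.2.trans hc'.2.2.symm) with h1 | h1
    · exact h1
    · exfalso
      refine hεne ?_
      have h1' : c = c' * z := h1
      have h2 : (⟨_, hc⟩ : ↥Γ) = ⟨_, hc'⟩ * ⟨_, hz2⟩ := Subtype.ext (by simp [h1'])
      rw [h2, map_mul, e', one_mul, hΦz] at e
      exact e
  choose f hfm hf1 using hex
  let α : G → G := fun b => if hb : b ∈ E then f b hb else 1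
  have hα : ∀ b (hb : b ∈ E), α b = f b hb := fun b hb => dif_pos hb
  refine ⟨α, fun b hb => ?_, fun b hb c hc => ?_, fun b hb => ?_, ?_, fun k hk b hb => ?_⟩
  · rw [hα b hb]; exact (hfm b hb).2.1
  · rw [hα _ (mul_mem hb hc), hα b hb, hα c hc]
    have hm := mul_mem (hfm b hb) (hfm c hc)
    refine huni _ _ _ (hfm _ (mul_mem hb hc)) hm (hf1 _ _) ?_
    show Φ (⟨_, hfm b hb⟩ * ⟨_, hfm c hc⟩) = 1
    rw [map_mul, hf1, hf1, one_mul]
  · rw [hα b hb]; exact (hfm b hb).2.2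
  · rw [hα z hS.z_mem]
    have hzz : ((z : G), (z : G)) ∈ Γ := ⟨hS.z_mem, hS.z_mem, by simp [hS.π_z]⟩
    refine huni z _ _ (hfm z hS.z_mem) hzz (hf1 _ _) ?_
    rw [hΦ]
    refine Finset.prod_eq_one fun k _ => (QuotientGroup.eq_one_iff _).2 (Or.inr ?_)
    simp [cj, hS.conj_z (h.kN k.2)]
  · have hkb := (mem_normalizer_iff.1 (h.kN hk) b).1 hb
    rw [hα _ hkb, hα b hb]
    have hm := hKΓ ⟨k, hk⟩ _ (hfm b hb)
    refine huni _ _ _ (hfm _ hkb) hm (hf1 _ _) ?_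
    rw [← hf1 b hb, hΦ, hΦ]
    refine Fintype.prod_equiv (Equiv.mulRight (⟨k, hk⟩ : ↥K)) _ _ fun j => ?_
    congr 1
    refine Subtype.ext (Prod.ext ?_ ?_) <;>
      simp only [cj, MonoidHom.mk'_apply, Equiv.coe_mulRight, Subgroup.coe_mul] <;> group

end CfsgLib.ExtraExtend
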