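import Cfsg.Agent.Char.ExtraExtend.Split
import Cfsg.Agent.Char.ExtraExtend.Lagrangian
import Cfsg.Agent.Char.ExtraExtend.FieldCase
import Cfsg.Agent.Char.CenterValues
import Cfsg.Agent.Char.Central

/-!
# Extension to a two-group normalising a fixed point free group of odd order
-/

set_option autoImplicit false
set_option linter.unusedSectionVars false
set_option linter.unusedVariables false
set_option linter.style.haveILetI false

namespace CfsgLib.ExtraExtend

open Subgroup

universe u

variable {G : Type u} [Group G] [Finite G] {z : G} {E K P : Subgroup G}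

open scoped Classical in
/-- The matrices of a representation of `E`, as a function on `G`. -/
noncomputable def repMat (E : Subgroup G) {n : ℕ} (ρ : Representation ℂ ↥E (Fin n → ℂ)) (a : G) :
    Mat n := if h : a ∈ E then LinearMap.toMatrix' (ρ ⟨a, h⟩) else 1

theorem Sym.mem_center (hS : Sym z E) (y : ↥E) :
    y ∈ center ↥E ↔ (y : G) = 1 ∨ (y : G) = z := by
  constructor
  · intro hy
    refine hS.nondeg _ y.2 fun b hb => ?_
    exact (congrArg Subtype.val (Subgroup.mem_center_iff.1 hy ⟨b, hb⟩)).symm
  · intro h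
    rcases h with h | h
    · rw [show y = 1 from Subtype.ext h]; exact one_mem _
    · refine Subgroup.mem_center_iff.2 fun g => Subtype.ext ?_
      simp only [Subgroup.coe_mul, h]
      exact hS.z_comm g g.2

theorem Sym.erep_of_rep (hS : Sym z E) {n : ℕ} (ρ : Representation ℂ ↥E (Fin n → ℂ))
    [hρ : ρ.IsIrreducible] (hne : ρ.character ⟨z, hS.z_mem⟩ ≠ ρ.character 1) :
    ERep z E n (repMat E ρ) := by
  classical
  haveI : Fintype ↥E := Fintype.ofFinite _
  set z' : ↥E := ⟨z, hS.z_mem⟩
  have hzc : ∀ g : ↥E, g * z' = z' * g := fun g => Subtype.ext (hS.z_comm g g.2)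
  obtain ⟨c, hc⟩ : ∃ c : ℂ, ρ z' = c • (1 : Module.End ℂ (Fin n → ℂ)) :=
    ⟨_, CfsgLib.Char.eq_smul_one_of_commute ρ (ρ z') fun g => by rw [← map_mul, ← map_mul, hzc]⟩
  have hn : 0 < n := by
    have := CfsgLib.Char.finrank_pos_of_isIrreducible ρ
    simpa using this
  have hc2 : c * c = 1 := by
    have h1 : ρ z' * ρ z' = 1 := by
      rw [← map_mul, show z' * z' = 1 from Subtype.ext hS.z_sq, map_one]
    rw [hc, smul_mul_smul_comm, mul_one] at h1
    have h2 := congrArg (LinearMap.trace ℂ (Fin n → ℂ)) h1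
    rw [map_smul, LinearMap.trace_one, smul_eq_mul] at h2
    exact (mul_eq_right₀ (by simpa using hn.ne')).1 h2
  have hc1 : c = -1 := by
    rcases mul_self_eq_one_iff.1 hc2 with h | h
    · refine absurd ?_ hne
      simp only [Representation.character, hc, h, one_smul, map_one]
    · exact h
  refine ⟨?_, fun a ha b hb => ?_, ?_, ?_⟩
  · rw [repMat, dif_pos (one_mem E), show (⟨1, one_mem E⟩ : ↥E) = 1 from rfl, map_one,
      LinearMap.toMatrix'_one]
  · rw [repMat, repMat, repMat, dif_pos (mul_mem ha hb), dif_pos ha, dif_pos hb,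
      ← LinearMap.toMatrix'_mul, ← map_mul]
    rfl
  · rw [repMat, dif_pos hS.z_mem, hc, hc1, map_smul, LinearMap.toMatrix'_one, neg_one_smul]
  · obtain ⟨-, hdeg⟩ := CfsgLib.Char.IsIrrCharacter.vanish_of_center_commutator (χ := ρ.character)
      ⟨n, ρ, hρ, rfl⟩ fun g hg => by
        rw [hS.mem_center] at hg
        push Not at hg
        obtain ⟨b, hb, hab⟩ : ∃ b ∈ E, (g : G) * b ≠ b * g := by
          by_contra hcon
          push Not at hcon
          rcases hS.nondeg g g.2 hcon with h | h
          · exact hg.1 h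
          · exact hg.2 h
        have e : (⟨b, hb⟩ : ↥E) * g * (⟨b, hb⟩ : ↥E)⁻¹ * g⁻¹ = z' := Subtype.ext (by
          show b * (g : G) * b⁻¹ * (g : G)⁻¹ = z
          rw [(hS.comm b hb g g.2).resolve_left (Ne.symm hab), mul_assoc (g : G) b z,
            ← mul_assoc, mul_assoc _ z b⁻¹, ← hS.z_comm b⁻¹ (inv_mem hb), ← mul_assoc,
            mul_inv_cancel_right, hS.z_comm _ g.2, mul_inv_cancel_right])
        refine ⟨⟨b, hb⟩, ?_, ?_⟩
        · rw [e]; exact (hS.mem_center z').2 (Or.inr rfl)
        · rw [e]; exact hne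
    rw [ρ.char_one, Module.finrank_pi, Fintype.card_fin] at hdeg
    have hcen : Nat.card (center ↥E) = 2 := by
      rw [show center ↥E = zpowers z' from ?_, Nat.card_zpowers, ← Subgroup.orderOf_coe,
        hS.orderOf_z]
      ext y
      rw [hS.mem_center]
      constructor
      · rintro (h | h)
        · rw [show y = 1 from Subtype.ext h]; exact one_mem _
        · rw [show y = z' from Subtype.ext h]; exact mem_zpowers _
      · intro h
        obtain ⟨j, hj⟩ := Subgroup.mem_zpowers_iff.1 h
        rw [← hj, Subgroup.coe_zpow]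
        exact hS.z_zpow j
    rw [← Subgroup.card_mul_index (center ↥E), hcen]
    have : n ^ 2 = (center ↥E).index := by exact_mod_cast hdeg
    rw [this]

theorem Sym.exists_erep (hS : Sym z E) : ∃ (N : ℕ) (σ : G → Mat N), ERep z E N σ := by
  have hnc : ¬ IsConj (⟨z, hS.z_mem⟩ : ↥E) 1 := by
    rw [isConj_one_left]
    exact fun h => hS.z_ne (congrArg Subtype.val h)
  rw [CfsgLib.Char.isConj_iff_irr_eq] at hnc
  push Not at hnc
  obtain ⟨χ, ⟨n, ρ, hρ, rfl⟩, hne⟩ := hnc
  haveI := hρ
  exact ⟨n, _, hS.erep_of_rep ρ hne⟩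

/-- Conjugation on the ring of class sums. -/
noncomputable def Hyp.cjR (h : Hyp z E K P) (p : ↥P) : ↥(cR z E K) →+* ↥(cR z E K) where
  toFun T := ⟨act z E p * T * act z E (p : G)⁻¹, h.conj_mem (h.pN p.2) (h.pK p.2) T.2⟩
  map_one' := Subtype.ext (by
    show act z E p * 1 * act z E (p : G)⁻¹ = 1
    rw [mul_one, ← h.sym.act_mul (h.pN p.2) (inv_mem (h.pN p.2)), mul_inv_cancel, h.sym.act_one])
  map_mul' T U := Subtype.ext (by
    show act z E p * (↑T * ↑U) * act z E (p : G)⁻¹ =
      act z E p * ↑T * act z E (p : G)⁻¹ * (act z E p * ↑U * act z E (p : G)⁻¹)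
    simp only [mul_assoc]
    rw [← mul_assoc (act z E (p : G)⁻¹) (act z E p), h.sym.act_inv (h.pN p.2), one_mul])
  map_zero' := Subtype.ext (by
    show act z E p * 0 * act z E (p : G)⁻¹ = 0
    rw [mul_zero, zero_mul])
  map_add' T U := Subtype.ext (by
    show act z E p * (↑T + ↑U) * act z E (p : G)⁻¹ = _
    rw [mul_add, add_mul]
    rfl)

/-- The adjoint on the ring of class sums. -/
noncomputable def Hyp.adjR (h : Hyp z E K P) : ↥(cR z E K) →+* ↥(cR z E K) where
  toFun T := ⟨adj z E K T, h.adj_mem T.2⟩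
  map_one' := Subtype.ext h.adj_one
  map_mul' T U := Subtype.ext (h.adj_mul T.2 U.2)
  map_zero' := Subtype.ext h.adj_zero
  map_add' T U := Subtype.ext (h.adj_add T.2 U.2)

theorem Hyp.cjR_mul (h : Hyp z E K P) (p q : ↥P) (T : ↥(cR z E K)) :
    h.cjR (p * q) T = h.cjR p (h.cjR q T) := Subtype.ext (by
  show act z E ((p : G) * q) * ↑T * act z E ((p : G) * q)⁻¹ =
    act z E p * (act z E q * ↑T * act z E (q : G)⁻¹) * act z E (p : G)⁻¹
  rw [h.sym.act_mul (h.pN p.2) (h.pN q.2), _root_.mul_inv_rev,
    h.sym.act_mul (inv_mem (h.pN q.2)) (inv_mem (h.pN p.2))]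
  simp only [mul_assoc])

theorem Hyp.cjR_one (h : Hyp z E K P) (T : ↥(cR z E K)) : h.cjR 1 T = T := Subtype.ext (by
  show act z E (1 : G) * ↑T * act z E (1 : G)⁻¹ = ↑T
  rw [inv_one, h.sym.act_one, one_mul, mul_one])

theorem Hyp.cjR_inv (h : Hyp z E K P) (p : ↥P) (T : ↥(cR z E K)) :
    h.cjR p⁻¹ (h.cjR p T) = T := by rw [← h.cjR_mul, inv_mul_cancel, h.cjR_one]

theorem Hyp.adjR_cjR (h : Hyp z E K P) (p : ↥P) (T : ↥(cR z E K)) :
    h.adjR (h.cjR p T) = h.cjR p (h.adjR T) :=
  Subtype.ext (h.adj_conj (h.pN p.2) (h.pK p.2) T.2)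

theorem Hyp.comm_of_cjR (h : Hyp z E K P) {p : ↥P} {T U : ↥(cR z E K)} (e : h.cjR p T = U) :
    act z E (p : G) * (T : AddMonoid.End (V z E)) =
      (U : AddMonoid.End (V z E)) * act z E (p : G) := by
  rw [← e]
  show _ = act z E (p : G) * ↑T * act z E (p : G)⁻¹ * act z E (p : G)
  rw [mul_assoc _ (act z E (p : G)⁻¹), h.sym.act_inv (h.pN p.2), mul_one]

theorem Hyp.splitAt (h : Hyp z E K P) {g : ↥(cR z E K)} (hgg : g * g = g) (hadj : h.adjR g = g) :
    SplitAt z E (g : AddMonoid.End (V z E)) := by
  refine ⟨congrArg Subtype.val hgg, fun x y => ?_⟩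
  rw [h.isAdj g.2 x y, show adj z E K (g : AddMonoid.End (V z E)) = g from congrArg Subtype.val hadj]

/-- The representation extends to the two-group. -/
theorem Hyp.ext (h : Hyp z E K P) : Ext z E P := by
  classical
  induction hn : Nat.card E using Nat.strong_induction_on generalizing E P with
  | _ k ih =>
  subst hn
  have hS := h.sym
  obtain ⟨N, σ, hσ⟩ := hS.exists_erep
  haveI := finite_end hS
  letI : CommRing ↥(cR z E K) :=
    { (inferInstance : Ring ↥(cR z E K)) with mul_comm := fun x y => Subtype.ext (h.comm x.2 y.2) }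
  have hchar : ∀ x : ↥(cR z E K), x + x = 0 := fun x => Subtype.ext (hS.end_add_self _)
  have hflip : ∀ x y : ↥(cR z E K), x + y = 0 → x = y := fun x y e => by
    have h1 := congrArg (· + y) e
    simp only [add_assoc, hchar, add_zero, zero_add] at h1
    exact h1
  have hidem1 : ∀ x : ↥(cR z E K), x * x = x → (1 + x) * (1 + x) = 1 + x := fun x hx => by
    rw [add_mul, one_mul, mul_add, mul_one, hx, hchar, add_zero]
  by_cases htriv : (1 : ↥(cR z E K)) = 0
  · refine ⟨N, σ, fun _ => 1, hσ, ⟨rfl, fun _ _ _ _ => (one_mul 1).symm⟩, fun p hp a ha => ?_⟩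
    have h0 : π z E a = 0 := by
      have := congrArg (fun T : ↥(cR z E K) => (T : AddMonoid.End (V z E)) (π z E a)) htriv
      exact this
    show 1 * σ a = σ (p * a * p⁻¹) * 1
    rw [one_mul, mul_one]
    rcases (hS.π_eq_zero ha).1 h0 with e | e <;> rw [e]
    · rw [mul_one, mul_inv_cancel]
    · rw [hS.conj_z (h.pN hp)]
  -- a minimal fixed idempotent
  obtain ⟨f₀, ⟨hf0m, hf0a⟩, hf00, hf0f, -, hfmin⟩ := h.exists_minimal
    (fun T => T ∈ cR z E K ∧ adj z E K T = T) (g := 1)
    (fun e => htriv (Subtype.ext e)) (one_mul 1) ⟨one_mem _, h.adj_one⟩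
  set f : ↥(cR z E K) := ⟨f₀, hf0m⟩ with hf
  have hff : f * f = f := Subtype.ext hf0f
  have hfa : h.adjR f = f := Subtype.ext hf0a
  have hfne : f ≠ 0 := fun e => hf00 (congrArg Subtype.val e)
  have hmin : ∀ d : ↥(cR z E K), h.adjR d = d → d * d = d → d * f = d → d = 0 ∨ d = f := by
    intro d hda hdd hdf
    rcases hfmin d.1 ⟨d.2, congrArg Subtype.val hda⟩ (congrArg Subtype.val hdd)
      (congrArg Subtype.val hdf) (congrArg Subtype.val ((mul_comm f d).trans hdf)) with e | e
    · exact Or.inl (Subtype.ext e)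
    · exact Or.inr (Subtype.ext e)
  by_cases hf1 : f = 1
  · -- no proper fixed idempotent
    obtain ⟨e₀, he, -⟩ := h.exists_atom (one_mem _) (fun e => htriv (Subtype.ext e)) (one_mul 1)
    by_cases he1 : e₀ = 1
    · subst he1
      have hfield : ∀ T ∈ cR z E K, T ≠ 0 → ∃ U ∈ cR z E K, T * U = 1 := fun T hT hne => by
        obtain ⟨U, hU, hTU⟩ := h.atom_inv he hT (by rwa [one_mul])
        rw [one_mul] at hTU
        exact ⟨U, hU, hTU⟩
      obtain ⟨b, hb, hne⟩ := h.exists_not_fixed (one_mem _) he.2.1 h.adj_one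
      simp only [one_mul] at hne
      exact h.ext_of_field hσ hfield hb hne
    obtain ⟨hem, he0, hee, hemin⟩ := he
    set e : ↥(cR z E K) := ⟨e₀, hem⟩ with hedef
    have hee' : e * e = e := Subtype.ext hee
    have hene : e ≠ 0 := fun h0 => he0 (congrArg Subtype.val h0)
    have hemin' : ∀ d : ↥(cR z E K), d * d = d → d * e = d → d = 0 ∨ d = e := by
      intro d hdd hde
      rcases hemin d.1 d.2 (congrArg Subtype.val hdd) (congrArg Subtype.val hde) with h1 | h1
      · exact Or.inl (Subtype.ext h1)
      · exact Or.inr (Subtype.ext h1)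
    have haa : h.adjR (h.adjR e) = e := Subtype.ext (h.adj_adj hem)
    have haI : h.adjR e * h.adjR e = h.adjR e := by rw [← map_mul, hee']
    have hfix : ∀ d : ↥(cR z E K), h.adjR d = d → d * d = d → d = 0 ∨ d = 1 := fun d hda hdd => by
      rw [← hf1]; exact hmin d hda hdd (by rw [hf1, mul_one])
    have hprod : e * h.adjR e = 0 := by
      refine (hfix _ ?_ ?_).resolve_right fun h1 => he1 ?_
      · rw [map_mul, haa, mul_comm]
      · rw [mul_mul_mul_comm, hee', haI]
      · have : e = 1 := by rw [← h1]; nth_rewrite 1 [← mul_one e]; rw [← h1, ← mul_assoc, hee']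
        exact congrArg Subtype.val this
    have hsum : h.adjR e = 1 + e := by
      rcases hfix (e + h.adjR e) (by rw [map_add, haa, add_comm])
        (by rw [add_mul, mul_add, mul_add, hee', hprod, mul_comm (h.adjR e) e, hprod, haI,
          add_zero, zero_add]) with h1 | h1
      · have h2 := congrArg (e * ·) h1
        simp only [mul_add, hee', hprod, add_zero, mul_zero] at h2
        exact absurd h2 hene
      · rw [← h1, add_comm e (h.adjR e), add_assoc, hchar, add_zero]
    have hadjB : ∀ x y : V z E, B (e₀ x) y = B x (y + e₀ y) := fun x y => by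
      rw [h.isAdj hem x y, show adj z E K e₀ = 1 + e₀ from congrArg Subtype.val hsum]
      rfl
    refine h.ext_of_lagrangian hσ hem hee hadjB fun p hp => ?_
    set d := h.cjR ⟨p, hp⟩ e with hd
    have hdd : d * d = d := by rw [hd, ← map_mul, hee']
    have hinv : ∀ T, h.cjR ⟨p, hp⟩⁻¹ (h.cjR ⟨p, hp⟩ T) = T := h.cjR_inv _
    rcases hemin' (d * e) (by rw [mul_mul_mul_comm, hdd, hee']) (by rw [mul_assoc, hee'])
      with h1 | h1
    · have hds : d * h.adjR e = d := by rw [hsum, mul_add, mul_one, h1, add_zero]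
      have h3 := congrArg (h.cjR ⟨p, hp⟩⁻¹) hds
      rw [map_mul, hd, hinv] at h3
      rcases hemin' (h.adjR (h.cjR ⟨p, hp⟩⁻¹ e) * e)
        (by rw [mul_mul_mul_comm, ← map_mul, ← map_mul, hee']) (by rw [mul_assoc, hee'])
        with h4 | h4
      · rw [h.adjR_cjR, mul_comm, h3] at h4
        exact absurd h4 hene
      · refine Or.inr ?_
        -- `e` is carried to its adjoint
        have h5 := congrArg (h.cjR ⟨p, hp⟩) h4
        rw [map_mul, h.adjR_cjR, ← h.cjR_mul, mul_inv_cancel, h.cjR_one, mul_comm, ← hd, hds] at h5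
        have h6 : d = h.adjR e := by
          rcases hemin' (h.adjR d) (by rw [← map_mul, hdd])
            (by rw [← haa, ← map_mul, hds]) with h7 | h7
          · exfalso
            have h8 := congrArg h.adjR h7
            rw [hd, h.adjR_cjR, h.adjR_cjR, haa, map_zero] at h8
            have h9 := congrArg (h.cjR ⟨p, hp⟩⁻¹) h8
            rw [hinv, map_zero] at h9
            exact hene h9
          · have h8 := congrArg h.adjR h7
            rwa [hd, h.adjR_cjR, h.adjR_cjR, haa, ← hd] at h8
        exact h.comm_of_cjR (p := ⟨p, hp⟩) (T := e) (U := 1 + e) (by rw [← hd, h6, hsum])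
    · refine Or.inl ?_
      have h3 := congrArg (h.cjR ⟨p, hp⟩⁻¹) h1
      rw [map_mul, hd, hinv] at h3
      have h4 : h.cjR ⟨p, hp⟩⁻¹ e = e := by
        refine (hemin' _ (by rw [← map_mul, hee']) ?_).resolve_left fun h0 => ?_
        · conv_rhs => rw [← h3]
          rw [mul_comm]
        · have h5 := congrArg (h.cjR ⟨p, hp⟩) h0
          rw [← h.cjR_mul, mul_inv_cancel, h.cjR_one, map_zero] at h5
          exact hene h5
      have h6 : d = e := by
        rw [hd]; conv_lhs => rw [← h4]
        rw [← h.cjR_mul, mul_inv_cancel, h.cjR_one]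
      exact h.comm_of_cjR (p := ⟨p, hp⟩) (T := e) (U := e) (by rw [← hd, h6])
  -- conjugates of the minimal fixed idempotent
  haveI : Fintype ↥P := Fintype.ofFinite _
  let c : ↥P → ↥(cR z E K) := fun p => h.cjR p f
  have hcc : ∀ p, c p * c p = c p := fun p => by simp only [c, ← map_mul, hff]
  have hca : ∀ p, h.adjR (c p) = c p := fun p => by simp only [c, h.adjR_cjR, hfa]
  have hcne : ∀ p, c p ≠ 0 := fun p h0 => hfne (by
    have := congrArg (h.cjR p⁻¹) h0
    simp only [c, h.cjR_inv, map_zero] at this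
    exact this)
  have horth : ∀ p q, c p ≠ c q → c p * c q = 0 := by
    intro p q hne
    have hsm : ∀ p q, c p * c q = 0 ∨ c p * c q = c q := by
      intro p q
      have h1 := hmin (h.cjR q⁻¹ (c p * c q))
        (by rw [h.adjR_cjR, map_mul h.adjR, hca, hca])
        (by rw [← map_mul, mul_mul_mul_comm, hcc, hcc])
        (by
          conv_lhs => arg 2; rw [← h.cjR_inv q f]
          rw [← map_mul, mul_assoc, show h.cjR q f = c q from rfl, hcc])
      rcases h1 with h2 | h2
      · left
        have := congrArg (h.cjR q) h2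
        rwa [← h.cjR_mul, mul_inv_cancel, h.cjR_one, map_zero] at this
      · right
        have := congrArg (h.cjR q) h2
        rwa [← h.cjR_mul, mul_inv_cancel, h.cjR_one] at this
    rcases hsm p q with h1 | h1
    · exact h1
    · rcases hsm q p with h2 | h2
      · rwa [mul_comm] at h2
      · exact absurd (by rw [← h2, mul_comm, h1]) hne
  let Aprod : Finset ↥P → ↥(cR z E K) := fun s => ∏ p ∈ s, (1 + c p)
  have hAidem : ∀ s, Aprod s * Aprod s = Aprod s := fun s => by
    simp only [Aprod, ← Finset.prod_mul_distrib]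
    exact Finset.prod_congr rfl fun p _ => hidem1 _ (hcc p)
  have hAadj : ∀ s, h.adjR (Aprod s) = Aprod s := fun s => by
    simp only [Aprod, map_prod, map_add, map_one, hca]
  have hcomK : ∀ g : ↥(cR z E K), ∀ k ∈ K,
      act z E k * (g : AddMonoid.End (V z E)) = ↑g * act z E k := fun g k hk => h.act_comm hk g.2
  have ihsplit : ∀ g : ↥(cR z E K), g * g = g → h.adjR g = g → g ≠ 1 → ∀ M : Subgroup G, M ≤ P →
      (∀ p ∈ M, act z E p * (g : AddMonoid.End (V z E)) = ↑g * act z E p) →
      Ext z (eSub z E (g : AddMonoid.End (V z E))) M := fun g hgg hga hg1 M hMP hgM =>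
    ih _ (SplitAt.card_lt fun e => hg1 (Subtype.ext e))
      ((h.splitAt hgg hga).hyp h (hcomK g) hMP hgM) rfl
  set A := Aprod Finset.univ with hA
  by_cases hA0 : A = 0
  · -- two halves exchanged
    let St : Subgroup ↥P :=
      { carrier := {p | c p = f}
        one_mem' := h.cjR_one f
        mul_mem' := fun {a b} (ha : c a = f) (hb : c b = f) => by
          show c (a * b) = f
          simp only [c] at ha hb ⊢
          rw [h.cjR_mul, hb, ha]
        inv_mem' := fun {a} (ha : c a = f) => by
          show c a⁻¹ = f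
          simp only [c] at ha ⊢
          conv_lhs => rw [← ha, h.cjR_inv] }
    have hSt : St ≠ ⊤ := by
      intro htop
      refine hf1 ?_
      have h1 : A = 1 + f := by
        have hpow : ∀ m : ℕ, (1 + f) ^ (m + 1) = 1 + f := by
          intro m
          induction m with
          | zero => rw [zero_add, pow_one]
          | succ m im => rw [pow_succ, im, hidem1 f hff]
        rw [hA]
        simp only [Aprod]
        rw [Finset.prod_congr rfl fun p _ => show 1 + c p = 1 + f by
          rw [show c p = f from (htop ▸ Subgroup.mem_top p : p ∈ St)], Finset.prod_const,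
          Finset.card_univ]
        obtain ⟨m, hm⟩ : ∃ m, Fintype.card ↥P = m + 1 :=
          ⟨_, (Nat.succ_pred_eq_of_pos Fintype.card_pos).symm⟩
        rw [hm, hpow]
      exact (hflip 1 f (h1.symm.trans hA0)).symm
    haveI : Fact (Nat.Prime 2) := ⟨Nat.prime_two⟩
    obtain ⟨r, hr⟩ := IsPGroup.iff_card.1 h.isP
    obtain ⟨s, hs⟩ := IsPGroup.iff_card.1 (h.isP.to_subgroup St)
    have hsr : s < r := by
      by_contra hle
      push Not at hle
      refine hSt (Subgroup.eq_top_of_le_card _ ?_)
      rw [hr, hs]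
      exact Nat.pow_le_pow_right (by norm_num) hle
    obtain ⟨M, hMc, hStM⟩ := Sylow.exists_subgroup_card_pow_prime_le (m := r - 1) 2
      (by rw [hr]; exact pow_dvd_pow _ (Nat.sub_le _ _)) St hs (by omega)
    have hMi : M.index = 2 := by
      have h1 := M.card_mul_index
      rw [hMc, hr] at h1
      obtain ⟨r', rfl⟩ : ∃ r', r = r' + 1 := ⟨r - 1, by omega⟩
      rw [Nat.add_sub_cancel, pow_succ] at h1
      exact Nat.eq_of_mul_eq_mul_left (by positivity) h1
    haveI : M.Normal := Subgroup.normal_of_index_eq_two hMi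
    obtain ⟨x, hx⟩ : ∃ x, x ∉ M := by
      by_contra hall
      push Not at hall
      rw [(Subgroup.eq_top_iff' M).2 hall, Subgroup.index_top] at hMi
      omega
    set sM := Finset.univ.filter fun p : ↥P => p ∈ M with hsM
    set sX := Finset.univ.filter fun p : ↥P => p ∉ M with hsX
    have hsplit : Aprod sM * Aprod sX = 0 := by
      simp only [Aprod, hsM, hsX]
      rw [Finset.prod_filter_mul_prod_filter_not]
      exact hA0
    have hdiff : ∀ p ∈ sM, ∀ q ∈ sX, c p ≠ c q := by
      intro p hp q hq he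
      have hp' := (Finset.mem_filter.1 hp).2
      have hq' := (Finset.mem_filter.1 hq).2
      have : p⁻¹ * q ∈ St := by
        show c (p⁻¹ * q) = f
        simp only [c] at he ⊢
        rw [h.cjR_mul, ← he, h.cjR_inv]
      have h2 := mul_mem hp' (hStM this)
      rw [mul_inv_cancel_left] at h2
      exact hq' h2
    set g := 1 + Aprod sM with hg
    have hAX : Aprod sX = g := by
      have h1 : ∀ p ∈ sM, c p * Aprod sX = c p := by
        intro p hp
        simp only [Aprod]
        have : ∀ t : Finset ↥P, (∀ q ∈ t, q ∈ sX) → c p * ∏ q ∈ t, (1 + c q) = c p := by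
          intro t
          induction t using Finset.induction_on with
          | empty => intro _; rw [Finset.prod_empty, mul_one]
          | insert q t hq it =>
            intro hall
            rw [Finset.prod_insert hq, ← mul_assoc, mul_add, mul_one,
              horth p q (hdiff p hp q (hall q (Finset.mem_insert_self q t))), add_zero]
            exact it fun r hr => hall r (Finset.mem_insert_of_mem hr)
        exact this sX fun q hq => hq
      have h2 : ∀ t : Finset ↥P, (∀ q ∈ t, q ∈ sM) →
          Aprod t * (1 + Aprod sX) = 1 + Aprod sX := by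
        intro t
        simp only [Aprod]
        induction t using Finset.induction_on with
        | empty => intro _; rw [Finset.prod_empty, one_mul]
        | insert q t hq it =>
          intro hall
          rw [Finset.prod_insert hq, mul_assoc, it fun r hr => hall r (Finset.mem_insert_of_mem hr)]
          have h3 := h1 q (hall q (Finset.mem_insert_self q t))
          simp only [Aprod] at h3
          rw [add_mul, one_mul, mul_add (c q), mul_one, h3, hchar, add_zero]
      have h4 := h2 sM fun q hq => hq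
      rw [mul_add, mul_one, hsplit, add_zero] at h4
      rw [hg, h4, ← add_assoc, hchar, zero_add]
    have hconjA : ∀ (y : ↥P) (s t : Finset ↥P), s.image (y * ·) = t →
        h.cjR y (Aprod s) = Aprod t := by
      intro y s t hst
      simp only [Aprod, ← hst, map_prod, map_add, map_one,
        Finset.prod_image fun a _ b _ (hab : y * a = y * b) => mul_left_cancel hab]
      exact Finset.prod_congr rfl fun p _ => by simp only [c, h.cjR_mul]
    let M' : Subgroup G := M.map P.subtype
    have hM'P : M' ≤ P := Subgroup.map_subtype_le _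
    have hgM : ∀ p ∈ M', act z E p * (g : AddMonoid.End (V z E)) = ↑g * act z E p := by
      rintro _ ⟨m, hm, rfl⟩
      refine h.comm_of_cjR (p := m) ?_
      rw [hg, map_add, map_one, hconjA m sM sM]
      ext p
      simp only [Finset.mem_image, hsM, Finset.mem_filter, Finset.mem_univ, true_and]
      exact ⟨fun ⟨a, ha, e⟩ => e ▸ mul_mem hm ha,
        fun hp => ⟨m⁻¹ * p, mul_mem (inv_mem hm) hp, mul_inv_cancel_left m p⟩⟩
    have hswap : act z E (x : G) * (g : AddMonoid.End (V z E)) =
        (1 + (g : AddMonoid.End (V z E))) * act z E (x : G) := by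
      refine h.comm_of_cjR (p := x) (U := 1 + g) ?_
      rw [hg, map_add, map_one, hconjA x sM sX, hAX]
      ext p
      simp only [Finset.mem_image, hsM, hsX, Finset.mem_filter, Finset.mem_univ, true_and]
      exact ⟨fun ⟨a, ha, e⟩ => e ▸ fun hh => hx ((Subgroup.mul_mem_cancel_right M ha).1 hh),
        fun hp => ⟨x⁻¹ * p, by
          rw [Subgroup.mul_mem_iff_of_index_two hMi, inv_mem_iff]
          exact iff_of_false hx hp, mul_inv_cancel_left x p⟩⟩
    have hgg : g * g = g := hidem1 _ (hAidem _)
    have hga : h.adjR g = g := by rw [hg, map_add, map_one, hAadj]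
    have hg1 : g ≠ 1 := by
      intro e
      have h1 : h.cjR x g = 1 + g := by
        rw [hg, map_add, map_one, hconjA x sM sX, hAX]
        ext p
        simp only [Finset.mem_image, hsM, hsX, Finset.mem_filter, Finset.mem_univ, true_and]
        exact ⟨fun ⟨a, ha, e⟩ => e ▸ fun hh => hx ((Subgroup.mul_mem_cancel_right M ha).1 hh),
          fun hp => ⟨x⁻¹ * p, by
            rw [Subgroup.mul_mem_iff_of_index_two hMi, inv_mem_iff]
            exact iff_of_false hx hp, mul_inv_cancel_left x p⟩⟩
      rw [e, map_one, hchar] at h1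
      exact htriv h1
    refine (h.splitAt hgg hga).ext_of_swap h hM'P hgM x.2 ?_ ?_ ?_ ?_ hswap
      (ihsplit g hgg hga hg1 M' hM'P hgM)
    · rintro _ ⟨m, hm, rfl⟩
      exact ⟨x * m * x⁻¹, Subgroup.Normal.conj_mem inferInstance m hm x, rfl⟩
    · rintro _ ⟨m, hm, rfl⟩
      exact ⟨x⁻¹ * m * x, by
        simpa using Subgroup.Normal.conj_mem inferInstance m hm x⁻¹, rfl⟩
    · exact ⟨x * x, Subgroup.mul_self_mem_of_index_two hMi x, rfl⟩
    · intro p hp
      by_cases hpM : (⟨p, hp⟩ : ↥P) ∈ M
      · exact ⟨0, p, ⟨⟨p, hp⟩, hpM, rfl⟩, by rw [pow_zero, mul_one]⟩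
      · refine ⟨1, p * (x : G)⁻¹, ⟨⟨p, hp⟩ * x⁻¹, ?_, rfl⟩, by rw [pow_one, inv_mul_cancel_right]⟩
        show ⟨p, hp⟩ * x⁻¹ ∈ M
        rw [Subgroup.mul_mem_iff_of_index_two hMi, inv_mem_iff]
        exact iff_of_false hpM hx
  · -- an invariant splitting
    set g := 1 + A with hg
    have hgg : g * g = g := hidem1 _ (hAidem _)
    have hga : h.adjR g = g := by rw [hg, hA, map_add, map_one, hAadj]
    have hgP : ∀ p ∈ P, act z E p * (g : AddMonoid.End (V z E)) = ↑g * act z E p := by
      intro p hp
      refine h.comm_of_cjR (p := ⟨p, hp⟩) ?_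
      rw [hg, hA, map_add, map_one]
      congr 1
      simp only [Aprod, map_prod, map_add, map_one]
      refine Fintype.prod_equiv (Equiv.mulLeft ⟨p, hp⟩) _ _ fun q => ?_
      simp only [c, Equiv.coe_mulLeft, h.cjR_mul]
    have hg1 : g ≠ 1 := fun e => hA0 (by rwa [hg, add_eq_left] at e)
    have hg0 : g ≠ 0 := fun e => by
      have h1 : f * A = 0 := by
        rw [hA]
        simp only [Aprod]
        rw [← Finset.mul_prod_erase Finset.univ _ (Finset.mem_univ (1 : ↥P)), ← mul_assoc,
          mul_add, mul_one, show c 1 = f from h.cjR_one f, hff, hchar, zero_mul]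
      rw [← hflip 1 A e, mul_one] at h1
      exact hfne h1
    have hgg2 : (1 + g) * (1 + g) = 1 + g := hidem1 _ hgg
    have hga2 : h.adjR (1 + g) = 1 + g := by rw [map_add, map_one, hga]
    have hgP2 : ∀ p ∈ P, act z E p * ((1 + g : ↥(cR z E K)) : AddMonoid.End (V z E)) =
        ↑(1 + g) * act z E p := by
      intro p hp
      show act z E p * (1 + (g : AddMonoid.End (V z E))) = (1 + ↑g) * act z E p
      rw [mul_add, mul_one, add_mul, one_mul, hgP p hp]
    exact (h.splitAt hgg hga).ext_of_inv h hgP (ihsplit g hgg hga hg1 P le_rfl hgP)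
      (ihsplit (1 + g) hgg2 hga2 (fun e => hg0 (by rwa [add_eq_left] at e)) P le_rfl hgP2)

end CfsgLib.ExtraExtend
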