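import Mathlib

/-!
# Matrix representations of groups of extraspecial type

`E` is a subgroup whose commutators and squares lie in `⟨z⟩`, with centre `⟨z⟩`.  A representation
of degree `N`, `2 N² = |E|`, sending `z` to `-1` spans all matrices; this gives Schur's lemma and
the intertwiners used to extend it to groups normalising `E`.
-/

set_option autoImplicit false
set_option linter.unusedSectionVars false
set_option linter.unusedVariables false
set_option linter.style.haveILetI false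

namespace CfsgLib.ExtraExtend

open Subgroup Matrix

universe u

/-- Square complex matrices. -/
abbrev Mat (N : ℕ) := Matrix (Fin N) (Fin N) ℂ

variable {G : Type u} [Group G] [Finite G] {z : G} {E : Subgroup G} {N : ℕ}

/-- A subgroup of extraspecial type with central involution `z`. -/
structure Sym (z : G) (E : Subgroup G) : Prop where
  z_mem : z ∈ E
  z_ne : z ≠ 1
  z_sq : z * z = 1
  z_comm : ∀ a ∈ E, a * z = z * a
  comm : ∀ a ∈ E, ∀ b ∈ E, a * b = b * a ∨ a * b = b * a * z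
  sq : ∀ a ∈ E, a * a = 1 ∨ a * a = z
  nondeg : ∀ a ∈ E, (∀ b ∈ E, a * b = b * a) → a = 1 ∨ a = z

/-- The representation of degree `N` with `z` acting as `-1`. -/
structure ERep (z : G) (E : Subgroup G) (N : ℕ) (σ : G → Mat N) : Prop where
  one : σ 1 = 1
  mul : ∀ a ∈ E, ∀ b ∈ E, σ (a * b) = σ a * σ b
  map_z : σ z = -1
  card : 2 * N ^ 2 = Nat.card E

/-- A representation of a subgroup. -/
structure PRep (P : Subgroup G) (N : ℕ) (ρ : G → Mat N) : Prop where
  one : ρ 1 = 1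
  mul : ∀ a ∈ P, ∀ b ∈ P, ρ (a * b) = ρ a * ρ b

/-- The representations of `E` and `P` fit together. -/
def Compat (E P : Subgroup G) (σ ρ : G → Mat N) : Prop :=
  ∀ p ∈ P, ∀ a ∈ E, ρ p * σ a = σ (p * a * p⁻¹) * ρ p

/-- The representation of `E` extends to `P`. -/
def Ext (z : G) (E P : Subgroup G) : Prop :=
  ∃ (N : ℕ) (σ ρ : G → Mat N), ERep z E N σ ∧ PRep P N ρ ∧ Compat E P σ ρ

/-- `S` intertwines `σ` with `σ'`. -/
def Inter (E : Subgroup G) (σ σ' : G → Mat N) (S : Mat N) : Prop :=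
  ∀ a ∈ E, S * σ a = σ' a * S

theorem ERep.pos {σ : G → Mat N} (h : ERep z E N σ) : 0 < N := by
  refine Nat.pos_of_ne_zero fun h0 => ?_
  have h1 := h.card
  have h2 : 0 < Nat.card E := Nat.card_pos
  rw [h0] at h1
  omega

theorem ERep.inv_mul {σ : G → Mat N} (h : ERep z E N σ) {a : G} (ha : a ∈ E) :
    σ a⁻¹ * σ a = 1 := by rw [← h.mul _ (inv_mem ha) _ ha, inv_mul_cancel, h.one]

theorem ERep.mul_inv {σ : G → Mat N} (h : ERep z E N σ) {a : G} (ha : a ∈ E) :
    σ a * σ a⁻¹ = 1 := by rw [← h.mul _ ha _ (inv_mem ha), mul_inv_cancel, h.one]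

theorem PRep.inv_mul {P : Subgroup G} {ρ : G → Mat N} (h : PRep P N ρ) {a : G} (ha : a ∈ P) :
    ρ a⁻¹ * ρ a = 1 := by rw [← h.mul _ (inv_mem ha) _ ha, inv_mul_cancel, h.one]

theorem PRep.mul_inv {P : Subgroup G} {ρ : G → Mat N} (h : PRep P N ρ) {a : G} (ha : a ∈ P) :
    ρ a * ρ a⁻¹ = 1 := by rw [← h.mul _ ha _ (inv_mem ha), mul_inv_cancel, h.one]

theorem PRep.pow {P : Subgroup G} {ρ : G → Mat N} (h : PRep P N ρ) {a : G} (ha : a ∈ P) :
    ∀ n : ℕ, ρ (a ^ n) = ρ a ^ n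
  | 0 => by rw [pow_zero, pow_zero, h.one]
  | n + 1 => by rw [pow_succ, pow_succ, h.mul _ (pow_mem ha n) _ ha, h.pow ha n]

theorem Sym.trace_eq_zero (hS : Sym z E) {σ : G → Mat N} (h : ERep z E N σ) {a : G} (ha : a ∈ E)
    (h1 : a ≠ 1) (hz : a ≠ z) : trace (σ a) = 0 := by
  have hb : ∃ b ∈ E, a * b ≠ b * a := by
    by_contra hcon
    push Not at hcon
    rcases hS.nondeg a ha hcon with h0 | h0
    · exact h1 h0
    · exact hz h0
  obtain ⟨b, hb, hne⟩ := hb
  have hab := (hS.comm a ha b hb).resolve_left hne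
  have hm : σ a * σ b = -(σ b * σ a) := by
    rw [← h.mul a ha b hb, hab, h.mul _ (mul_mem hb ha) _ hS.z_mem, h.mul b hb a ha, h.map_z,
      mul_neg, mul_one]
  have h2 : trace (σ a) = -trace (σ a) :=
    calc trace (σ a) = trace (σ b⁻¹ * (σ a * σ b)) := by
          rw [trace_mul_comm, mul_assoc, h.mul_inv hb, mul_one]
      _ = -trace (σ a) := by
          rw [hm, mul_neg, trace_neg, ← mul_assoc, h.inv_mul hb, one_mul]
  linear_combination (1 / 2 : ℂ) * h2

theorem trace_one' : trace (1 : Mat N) = (N : ℂ) := by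
  rw [trace_one, Fintype.card_fin]

theorem Sym.orderOf_z (hS : Sym z E) : orderOf z = 2 :=
  orderOf_eq_prime (by rw [pow_two, hS.z_sq]) hS.z_ne

theorem Sym.inv_z (hS : Sym z E) : z⁻¹ = z := inv_eq_of_mul_eq_one_right hS.z_sq

/-- The matrices of `E` span everything. -/
theorem Sym.span_top (hS : Sym z E) {σ : G → Mat N} (h : ERep z E N σ) :
    Submodule.span ℂ (σ '' (E : Set G)) = ⊤ := by
  classical
  set z' : ↥E := ⟨z, hS.z_mem⟩
  have hz2 : orderOf z' = 2 := by
    rw [← Subgroup.orderOf_coe]; exact hS.orderOf_z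
  let Z0 : Subgroup ↥E := zpowers z'
  have hZ0 : Nat.card Z0 = 2 := by rw [Nat.card_zpowers, hz2]
  have hmem : ∀ y : ↥E, y ∈ Z0 ↔ (y : G) = 1 ∨ (y : G) = z := by
    intro y
    constructor
    · intro hy
      obtain ⟨j, hj⟩ := Subgroup.mem_zpowers_iff.1 hy
      rcases Int.even_or_odd j with ⟨i, hi⟩ | ⟨i, hi⟩
      · left
        rw [← hj, hi, ← two_mul, _root_.zpow_mul]
        have : z' ^ (2 : ℤ) = 1 := by
          rw [zpow_ofNat, ← hz2, pow_orderOf_eq_one]
        rw [this, _root_.one_zpow, Subgroup.coe_one]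
      · right
        rw [← hj, hi, _root_.zpow_add_one, _root_.zpow_mul]
        have : z' ^ (2 : ℤ) = 1 := by
          rw [zpow_ofNat, ← hz2, pow_orderOf_eq_one]
        rw [this, _root_.one_zpow, one_mul]
    · rintro (hy | hy)
      · rw [show y = 1 from Subtype.ext hy]; exact one_mem _
      · rw [show y = z' from Subtype.ext hy]; exact Subgroup.mem_zpowers z'
  haveI : Fintype (↥E ⧸ Z0) := Fintype.ofFinite _
  have hcard : Fintype.card (↥E ⧸ Z0) = Module.finrank ℂ (Mat N) := by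
    have h1 := Subgroup.card_eq_card_quotient_mul_card_subgroup Z0
    rw [hZ0, Nat.card_eq_fintype_card (α := ↥E ⧸ Z0)] at h1
    have h2 := h.card
    rw [Module.finrank_matrix, Fintype.card_fin, Module.finrank_self, mul_one]
    rw [h1] at h2
    nlinarith
  let v : ↥E ⧸ Z0 → Mat N := fun q => σ ((q.out : ↥E) : G)
  have hpair : ∀ q r : ↥E ⧸ Z0, q ≠ r → trace (σ ((r.out : ↥E) : G)⁻¹ * v q) = 0 := by
    intro q r hne
    rw [← h.mul _ (inv_mem r.out.2) _ q.out.2]
    have hnot : ¬ (r.out⁻¹ * q.out ∈ Z0) := fun hm => hne (by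
      rw [← q.out_eq', ← r.out_eq']
      exact (QuotientGroup.eq.2 hm).symm)
    rw [hmem] at hnot
    push Not at hnot
    exact hS.trace_eq_zero h (mul_mem (inv_mem r.out.2) q.out.2) hnot.1 hnot.2
  have hli : LinearIndependent ℂ v := by
    rw [Fintype.linearIndependent_iff]
    intro g hg r
    have h1 := congrArg (fun Y : Mat N => trace (σ ((r.out : ↥E) : G)⁻¹ * Y)) hg
    simp only [Finset.mul_sum, mul_smul_comm, trace_sum, trace_smul, mul_zero, trace_zero] at h1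
    rw [Finset.sum_eq_single r (fun q _ hq => by rw [hpair q r hq, smul_zero])
      (fun hr => absurd (Finset.mem_univ r) hr), show v r = σ ((r.out : ↥E) : G) from rfl,
      h.inv_mul r.out.2, trace_one', smul_eq_mul] at h1
    exact (mul_eq_zero.1 h1).resolve_right (Nat.cast_ne_zero.2 h.pos.ne')
  haveI : Nonempty (↥E ⧸ Z0) := ⟨QuotientGroup.mk 1⟩
  have hspan := hli.span_eq_top_of_card_eq_finrank hcard
  rw [eq_top_iff, ← hspan]
  refine Submodule.span_mono ?_
  rintro _ ⟨q, rfl⟩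
  exact ⟨_, q.out.2, rfl⟩

/-- Only scalars commute with the matrices of `E`. -/
theorem Sym.scalar_of_comm (hS : Sym z E) {σ : G → Mat N} (h : ERep z E N σ) {X : Mat N}
    (hX : ∀ a ∈ E, X * σ a = σ a * X) : ∃ c : ℂ, X = c • (1 : Mat N) := by
  classical
  have hall : ∀ Y : Mat N, X * Y = Y * X := by
    intro Y
    have hY : Y ∈ Submodule.span ℂ (σ '' (E : Set G)) := by rw [hS.span_top h]; trivial
    induction hY using Submodule.span_induction with
    | mem x hx => obtain ⟨a, ha, rfl⟩ := hx; exact hX a ha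
    | zero => rw [mul_zero, zero_mul]
    | add x y _ _ hx hy => rw [mul_add, add_mul, hx, hy]
    | smul c x _ hx => rw [mul_smul_comm, smul_mul_assoc, hx]
  obtain ⟨c, hc⟩ := mem_range_scalar_iff_commute_single'.2 fun i j => (hall (single i j 1)).symm
  exact ⟨c, by rw [← hc, scalar_apply, smul_one_eq_diagonal]⟩

/-- The averaging identity. -/
theorem Sym.avg (hS : Sym z E) {σ : G → Mat N} (h : ERep z E N σ) [Fintype E] (X : Mat N) :
    ∑ a : E, σ a * X * σ (a : G)⁻¹ = (2 * N * trace X : ℂ) • (1 : Mat N) := by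
  set Y := ∑ a : E, σ a * X * σ (a : G)⁻¹ with hY
  have hcomm : ∀ b ∈ E, Y * σ b = σ b * Y := by
    intro b hb
    have e : σ b * Y * σ b⁻¹ = Y := by
      rw [hY, Finset.mul_sum, Finset.sum_mul]
      refine Fintype.sum_equiv (Equiv.mulLeft (⟨b, hb⟩ : E)) _ _ fun a => ?_
      rw [Equiv.coe_mulLeft, Subgroup.coe_mul, _root_.mul_inv_rev, h.mul b hb a a.2,
        h.mul _ (inv_mem a.2) _ (inv_mem hb)]
      simp only [mul_assoc]
    calc Y * σ b = σ b * Y * σ b⁻¹ * σ b := by rw [e]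
      _ = σ b * Y := by rw [mul_assoc, h.inv_mul hb, mul_one]
  obtain ⟨c, hc⟩ := hS.scalar_of_comm h hcomm
  have ht : trace Y = (2 * N ^ 2 : ℕ) * trace X := by
    rw [hY, trace_sum]
    rw [Finset.sum_congr rfl fun (a : E) _ => show trace (σ a * X * σ (a : G)⁻¹) = trace X by
      rw [trace_mul_comm, ← mul_assoc, h.inv_mul a.2, one_mul]]
    rw [Finset.sum_const, Finset.card_univ, ← Nat.card_eq_fintype_card, ← h.card, nsmul_eq_mul]
  rw [hc] at ht ⊢
  rw [trace_smul, trace_one', smul_eq_mul] at ht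
  push_cast at ht
  congr 1
  have hN : (N : ℂ) ≠ 0 := Nat.cast_ne_zero.2 h.pos.ne'
  refine mul_right_cancel₀ hN ?_
  rw [ht]; ring

/-- Twisting by an endomorphism of `E` fixing `z`. -/
theorem ERep.comp {σ : G → Mat N} (h : ERep z E N σ) (θ : G → G) (hmem : ∀ a ∈ E, θ a ∈ E)
    (hmul : ∀ a ∈ E, ∀ b ∈ E, θ (a * b) = θ a * θ b) (hz : θ z = z) :
    ERep z E N (fun a => σ (θ a)) := by
  have h1 : θ 1 = 1 := by
    have := hmul 1 (one_mem _) 1 (one_mem _)
    rwa [one_mul, eq_comm, mul_eq_left] at this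
  exact ⟨by rw [h1]; exact h.one, fun a ha b hb => by
    rw [hmul a ha b hb, h.mul _ (hmem a ha) _ (hmem b hb)], by rw [hz]; exact h.map_z, h.card⟩

/-- Two representations are equivalent. -/
theorem Sym.exists_inter (hS : Sym z E) {σ σ' : G → Mat N} (h : ERep z E N σ)
    (h' : ERep z E N σ') : ∃ S : Mat N, IsUnit S ∧ Inter E σ σ' S := by
  classical
  haveI : Fintype E := Fintype.ofFinite E
  let T : Mat N → Mat N := fun X => ∑ a : E, σ' a * X * σ (a : G)⁻¹
  have hT : ∀ X, Inter E σ σ' (T X) := by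
    intro X b hb
    have e : σ' b * T X * σ b⁻¹ = T X := by
      simp only [T, Finset.mul_sum, Finset.sum_mul]
      refine Fintype.sum_equiv (Equiv.mulLeft (⟨b, hb⟩ : E)) _ _ fun a => ?_
      rw [Equiv.coe_mulLeft, Subgroup.coe_mul, _root_.mul_inv_rev, h'.mul b hb a a.2,
        h.mul _ (inv_mem a.2) _ (inv_mem hb)]
      simp only [mul_assoc]
    calc T X * σ b = σ' b * T X * σ b⁻¹ * σ b := by rw [e]
      _ = σ' b * T X := by rw [mul_assoc, h.inv_mul hb, mul_one]
  have hne : ∃ X, T X ≠ 0 := by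
    by_contra hcon
    push Not at hcon
    have hsum : ∑ a : E, trace (σ' a) * trace (σ (a : G)⁻¹) = 0 := by
      simp only [trace, diag, Finset.sum_mul_sum]
      rw [Finset.sum_comm]
      refine Finset.sum_eq_zero fun i _ => ?_
      rw [Finset.sum_comm]
      refine Finset.sum_eq_zero fun k _ => ?_
      have h1 := congrFun (congrFun (hcon (single i k 1)) i) k
      rw [Matrix.zero_apply] at h1
      rw [← h1]
      simp only [T, Matrix.sum_apply]
      refine Finset.sum_congr rfl fun a _ => ?_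
      rw [Matrix.mul_apply, Finset.sum_eq_single k]
      · rw [Matrix.mul_single_apply_same, mul_one]
      · intro b _ hb
        rw [Matrix.mul_single_apply_of_ne _ _ _ _ _ hb, zero_mul]
      · intro hk; exact absurd (Finset.mem_univ k) hk
    have hsplit : ∑ a : E, trace (σ' a) * trace (σ (a : G)⁻¹) = 2 * (N : ℂ) * N := by
      rw [Finset.sum_eq_add (⟨1, one_mem _⟩ : E) ⟨z, hS.z_mem⟩]
      · simp only [inv_one, h'.one, h.one, hS.inv_z, h'.map_z, h.map_z, trace_one', trace_neg]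
        ring
      · exact fun he => hS.z_ne (congrArg Subtype.val he).symm
      · intro a _ ha
        rw [hS.trace_eq_zero h' a.2 (fun e => ha.1 (Subtype.ext e)) (fun e => ha.2 (Subtype.ext e)),
          zero_mul]
      · exact fun hk => absurd (Finset.mem_univ _) hk
      · exact fun hk => absurd (Finset.mem_univ _) hk
    rw [hsum] at hsplit
    have hN : (N : ℂ) ≠ 0 := Nat.cast_ne_zero.2 h.pos.ne'
    exact mul_ne_zero (mul_ne_zero two_ne_zero hN) hN hsplit.symm
  obtain ⟨X, hX⟩ := hne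
  obtain ⟨i, j, hij⟩ : ∃ i j, T X i j ≠ 0 := by
    by_contra hcon
    push Not at hcon
    exact hX (Matrix.ext hcon)
  -- a left inverse from the averaging identity
  let Y : Mat N := ((2 * N * T X i j : ℂ))⁻¹ • single j i 1
  let S' : Mat N := ∑ a : E, σ a * Y * σ' (a : G)⁻¹
  have hinv : S' * T X = 1 := by
    have e : S' * T X = ∑ a : E, σ a * (Y * T X) * σ (a : G)⁻¹ := by
      simp only [S', Finset.sum_mul]
      refine Finset.sum_congr rfl fun a _ => ?_
      rw [mul_assoc (σ a * Y), ← hT X _ (inv_mem a.2)]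
      simp only [mul_assoc]
    have htr : trace (Y * T X) = (2 * N * T X i j : ℂ)⁻¹ * T X i j := by
      simp only [Y, smul_mul_assoc, trace_smul, smul_eq_mul]
      congr 1
      rw [trace, Finset.sum_eq_single j]
      · rw [diag_apply, Matrix.single_mul_apply_same, one_mul]
      · intro b _ hb
        rw [diag_apply, Matrix.single_mul_apply_of_ne _ _ _ _ _ hb]
      · intro hk; exact absurd (Finset.mem_univ j) hk
    have hN : (N : ℂ) ≠ 0 := Nat.cast_ne_zero.2 h.pos.ne'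
    rw [e, hS.avg h, htr]
    field_simp
    rw [one_smul]
  exact ⟨T X, IsUnit.of_mul_eq_one_right S' hinv, hT X⟩

/-- Conjugation by an element normalising `E`. -/
theorem Sym.exists_conjInter (hS : Sym z E) {σ : G → Mat N} (h : ERep z E N σ) {p : G}
    (hp : p ∈ normalizer (E : Set G)) :
    ∃ S : Mat N, IsUnit S ∧ Inter E σ (fun a => σ (p * a * p⁻¹)) S := by
  refine hS.exists_inter h (h.comp _ (fun a ha => (mem_normalizer_iff.1 hp a).1 ha)
    (fun a _ b _ => by group) ?_)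
  have hc : p * z * p⁻¹ = 1 ∨ p * z * p⁻¹ = z := by
    refine hS.nondeg _ ((mem_normalizer_iff.1 hp z).1 hS.z_mem) fun b hb => ?_
    have hb' : p⁻¹ * b * p ∈ E := by
      simpa using (mem_normalizer_iff.1 (inv_mem hp) b).1 hb
    calc p * z * p⁻¹ * b = p * (z * (p⁻¹ * b * p)) * p⁻¹ := by group
      _ = p * (p⁻¹ * b * p * z) * p⁻¹ := by rw [hS.z_comm _ hb']
      _ = b * (p * z * p⁻¹) := by group
  refine hc.resolve_left fun h0 => hS.z_ne ?_
  rw [show z = p⁻¹ * (p * z * p⁻¹) * p by group, h0]; group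

/-- Two intertwiners between the same representations differ by a scalar. -/
theorem Sym.inter_unique (hS : Sym z E) {σ σ' : G → Mat N} (h : ERep z E N σ) {S T : Mat N}
    (hSu : IsUnit S) (hSI : Inter E σ σ' S) (hTI : Inter E σ σ' T) :
    ∃ c : ℂ, T = c • S := by
  obtain ⟨U, rfl⟩ := hSu
  obtain ⟨c, hc⟩ := hS.scalar_of_comm h (X := (↑U⁻¹ : Mat N) * T) fun a ha => by
    rw [mul_assoc, hTI a ha, ← mul_assoc, ← mul_assoc]
    congr 1
    rw [Units.inv_mul_eq_iff_eq_mul, ← mul_assoc, hSI a ha, Units.mul_inv_cancel_right]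
  refine ⟨c, ?_⟩
  rw [Units.inv_mul_eq_iff_eq_mul] at hc
  rw [hc, mul_smul_comm, mul_one]

theorem Inter.mul {θ₁ θ₂ : G → G} {σ : G → Mat N} {S T : Mat N} (hmem : ∀ a ∈ E, θ₂ a ∈ E)
    (h1 : Inter E σ (fun a => σ (θ₁ a)) S) (h2 : Inter E σ (fun a => σ (θ₂ a)) T) :
    Inter E σ (fun a => σ (θ₁ (θ₂ a))) (S * T) := fun a ha => by
  rw [mul_assoc, h2 a ha, ← mul_assoc, h1 _ (hmem a ha), mul_assoc]

theorem Inter.smul {σ σ' : G → Mat N} {S : Mat N} (c : ℂ) (h : Inter E σ σ' S) :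
    Inter E σ σ' (c • S) := fun a ha => by rw [smul_mul_assoc, mul_smul_comm, h a ha]

theorem Inter.congr {σ σ' σ'' : G → Mat N} {S : Mat N} (h : Inter E σ σ' S)
    (he : ∀ a ∈ E, σ' a = σ'' a) : Inter E σ σ'' S := fun a ha => by rw [h a ha, he a ha]

/-- A homogeneous multiplicative normalisation gives a representation of `M`. -/
theorem Sym.linearize (hS : Sym z E) {σ : G → Mat N} (h : ERep z E N σ) (M : Subgroup G)
    (hM : M ≤ normalizer (E : Set G)) (φ : Mat N → ℂ) (hφ1 : φ 1 = 1)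
    (hsmul : ∀ m ∈ M, ∀ S : Mat N, Inter E σ (fun a => σ (m * a * m⁻¹)) S →
      ∀ c : ℂ, c ≠ 0 → φ (c • S) = c * φ S)
    (hne : ∀ m ∈ M, ∀ S : Mat N, IsUnit S → Inter E σ (fun a => σ (m * a * m⁻¹)) S → φ S ≠ 0)
    (hmul : ∀ m ∈ M, ∀ n ∈ M, ∀ S T : Mat N, IsUnit S → IsUnit T →
      Inter E σ (fun a => σ (m * a * m⁻¹)) S → Inter E σ (fun a => σ (n * a * n⁻¹)) T →
      φ (S * T) = φ S * φ T) :
    ∃ ρ : G → Mat N, PRep M N ρ ∧ Compat E M σ ρ ∧
      ∀ m ∈ M, IsUnit (ρ m) ∧ φ (ρ m) = 1 ∧ ∀ S : Mat N, IsUnit S →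
        Inter E σ (fun a => σ (m * a * m⁻¹)) S → φ S = 1 → S = ρ m := by
  classical
  have hex : ∀ m : G, m ∈ M → ∃ S : Mat N, IsUnit S ∧
      Inter E σ (fun a => σ (m * a * m⁻¹)) S ∧ φ S = 1 := by
    intro m hm
    obtain ⟨S, hSu, hSI⟩ := hS.exists_conjInter h (hM hm)
    have h0 := hne m hm S hSu hSI
    refine ⟨(φ S)⁻¹ • S, ?_, hSI.smul _, ?_⟩
    · exact (isUnit_smul_iff (Units.mk0 _ (inv_ne_zero h0)) S).2 hSu
    · rw [hsmul m hm S hSI _ (inv_ne_zero h0), inv_mul_cancel₀ h0]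
  choose f hfu hfI hf1 using hex
  have huniq : ∀ (m : G) (hm : m ∈ M) (S : Mat N), IsUnit S →
      Inter E σ (fun a => σ (m * a * m⁻¹)) S → φ S = 1 → S = f m hm := by
    intro m hm S hSu hSI h1
    obtain ⟨c, hc⟩ := hS.inter_unique h (hfu m hm) (hfI m hm) hSI
    rcases eq_or_ne c 0 with rfl | hc0
    · rw [zero_smul] at hc
      exact absurd (hc ▸ hSu) (by
        haveI : Nonempty (Fin N) := Fin.pos_iff_nonempty.1 h.pos
        exact not_isUnit_zero)
    have h2 : φ S = c * 1 := by rw [hc, hsmul m hm _ (hfI m hm) c hc0, hf1]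
    rw [h1, mul_one] at h2
    rw [hc, ← h2, one_smul]
  let ρ : G → Mat N := fun m => if hm : m ∈ M then f m hm else 1
  have hρ : ∀ (m : G) (hm : m ∈ M), ρ m = f m hm := fun m hm => dif_pos hm
  refine ⟨ρ, ⟨?_, ?_⟩, ?_, ?_⟩
  · rw [hρ 1 (one_mem _)]
    refine (huniq 1 (one_mem _) 1 isUnit_one (fun a ha => ?_) hφ1).symm
    simp
  · intro a ha b hb
    rw [hρ _ (mul_mem ha hb), hρ a ha, hρ b hb]
    refine (huniq _ (mul_mem ha hb) _ ((hfu a ha).mul (hfu b hb)) ?_ ?_).symm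
    · refine ((hfI a ha).mul (θ₁ := fun y => a * y * a⁻¹) (θ₂ := fun y => b * y * b⁻¹)
        (fun y hy => (mem_normalizer_iff.1 (hM hb) y).1 hy) (hfI b hb)).congr fun y _ => ?_
      simp only [_root_.mul_inv_rev, mul_assoc]
    · rw [hmul a ha b hb _ _ (hfu a ha) (hfu b hb) (hfI a ha) (hfI b hb), hf1, hf1, one_mul]
  · intro p hp a ha
    rw [hρ p hp]
    exact hfI p hp a ha
  · intro m hm
    rw [hρ m hm]
    exact ⟨hfu m hm, hf1 m hm, huniq m hm⟩

/-- Extension along a cyclic quotient. -/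
theorem Sym.extend_cyclic (hS : Sym z E) {σ ρ : G → Mat N} (h : ERep z E N σ) {P C : Subgroup G}
    (hP : P ≤ normalizer (E : Set G)) (hCP : C ≤ P) (hρ : PRep C N ρ) (hc : Compat E C σ ρ)
    {x : G} (hxP : x ∈ P) (hxC : ∀ c ∈ C, x * c * x⁻¹ ∈ C)
    (hgen : ∀ p ∈ P, ∃ i : ℕ, ∃ c ∈ C, p = c * x ^ i)
    {S : Mat N} (hSu : IsUnit S) (hSI : Inter E σ (fun a => σ (x * a * x⁻¹)) S)
    (hSC : ∀ c ∈ C, S * ρ c = ρ (x * c * x⁻¹) * S) : Ext z E P := by
  classical
  have hex : ∃ d : ℕ, 0 < d ∧ x ^ d ∈ C :=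
    ⟨orderOf x, orderOf_pos x, by rw [pow_orderOf_eq_one]; exact one_mem _⟩
  set d := Nat.find hex with hd
  obtain ⟨hd0, hdC⟩ := Nat.find_spec hex
  have hdvd : ∀ n : ℕ, x ^ n ∈ C → d ∣ n := by
    intro n hn
    by_contra hnd
    have hr : 0 < n % d := Nat.pos_of_ne_zero fun h0 => hnd (Nat.dvd_of_mod_eq_zero h0)
    refine Nat.find_min hex (Nat.mod_lt n hd0) ⟨hr, ?_⟩
    have e : x ^ (n % d) = ((x ^ d) ^ (n / d))⁻¹ * x ^ n := by
      rw [eq_inv_mul_iff_mul_eq, ← pow_mul, ← pow_add, Nat.div_add_mod]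
    rw [e]
    exact mul_mem (inv_mem (pow_mem hdC _)) hn
  -- powers of the intertwiner
  have hxN : ∀ i : ℕ, ∀ a ∈ E, x ^ i * a * (x ^ i)⁻¹ ∈ E := fun i a ha =>
    (mem_normalizer_iff.1 (pow_mem (hP hxP) i) a).1 ha
  have hSn : ∀ i : ℕ, Inter E σ (fun a => σ (x ^ i * a * (x ^ i)⁻¹)) (S ^ i) := by
    intro i
    induction i with
    | zero => intro a ha; simp
    | succ i ih =>
      rw [pow_succ' S]
      refine (hSI.mul (θ₁ := fun y => x * y * x⁻¹) (θ₂ := fun y => x ^ i * y * (x ^ i)⁻¹)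
        (hxN i) ih).congr fun a _ => ?_
      simp only [pow_succ', _root_.mul_inv_rev, mul_assoc]
  obtain ⟨c0, hc0⟩ := hS.inter_unique h (S := ρ (x ^ d)) (T := S ^ d)
    (IsUnit.of_mul_eq_one _ (hρ.mul_inv hdC)) (fun a ha => hc _ hdC a ha) (hSn d)
  have hc0ne : c0 ≠ 0 := by
    rintro rfl
    rw [zero_smul] at hc0
    haveI : Nonempty (Fin N) := Fin.pos_iff_nonempty.1 h.pos
    exact not_isUnit_zero (hc0 ▸ hSu.pow d)
  obtain ⟨t, ht⟩ := IsAlgClosed.exists_pow_nat_eq c0⁻¹ hd0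
  set S' : Mat N := t • S with hS'
  have hS'd : S' ^ d = ρ (x ^ d) := by
    rw [hS', smul_pow, hc0, ht, smul_smul, inv_mul_cancel₀ hc0ne, one_smul]
  have hS'C : ∀ i : ℕ, ∀ c ∈ C, x ^ i * c * (x ^ i)⁻¹ ∈ C ∧
      S' ^ i * ρ c = ρ (x ^ i * c * (x ^ i)⁻¹) * S' ^ i := by
    intro i
    induction i with
    | zero => intro c hc; simpa using hc
    | succ i ih =>
      intro c hc
      obtain ⟨h1, h2⟩ := ih c hc
      have e : x ^ (i + 1) * c * (x ^ (i + 1))⁻¹ = x * (x ^ i * c * (x ^ i)⁻¹) * x⁻¹ := by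
        rw [pow_succ']; group
      rw [e, pow_succ' S']
      refine ⟨hxC _ h1, ?_⟩
      rw [mul_assoc, h2, ← mul_assoc, ← mul_assoc]
      congr 1
      rw [hS', smul_mul_assoc, mul_smul_comm, hSC _ h1]
  let F : G → Mat N := fun p => if hp : p ∈ P then
    ρ (hgen p hp).choose_spec.choose * S' ^ (hgen p hp).choose else 1
  have hFle : ∀ i j : ℕ, i ≤ j → ∀ c ∈ C, ∀ c' ∈ C, c * x ^ i = c' * x ^ j →
      ρ c * S' ^ i = ρ c' * S' ^ j := by
    intro i j hij c hc c' hc' he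
    obtain ⟨k, rfl⟩ := Nat.exists_eq_add_of_le hij
    rw [add_comm i k, pow_add, ← mul_assoc, mul_left_inj] at he
    have hk : x ^ k ∈ C := by
      rw [show x ^ k = c'⁻¹ * c by rw [he, inv_mul_cancel_left]]
      exact mul_mem (inv_mem hc') hc
    obtain ⟨l, rfl⟩ := hdvd k hk
    rw [add_comm i, pow_add, pow_mul S', hS'd, ← hρ.pow hdC, ← pow_mul, ← mul_assoc,
      ← hρ.mul c' hc' _ hk, ← he]
  have hFwell : ∀ i : ℕ, ∀ c ∈ C, c * x ^ i ∈ P → F (c * x ^ i) = ρ c * S' ^ i := by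
    intro i c hc hp
    simp only [F, dif_pos hp]
    obtain ⟨hc', he⟩ := (hgen _ hp).choose_spec.choose_spec
    rcases le_total i (hgen _ hp).choose with hle | hle
    · exact (hFle _ _ hle c hc _ hc' he).symm
    · exact hFle _ _ hle _ hc' c hc he.symm
  refine ⟨N, σ, F, h, ⟨?_, ?_⟩, ?_⟩
  · have := hFwell 0 1 (one_mem _) (by simp)
    simpa [hρ.one] using this
  · intro a ha b hb
    obtain ⟨i, c, hcC, rfl⟩ := hgen a ha
    obtain ⟨j, c', hc'C, rfl⟩ := hgen b hb
    obtain ⟨h1, h2⟩ := hS'C i c' hc'C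
    have e : c * x ^ i * (c' * x ^ j) = (c * (x ^ i * c' * (x ^ i)⁻¹)) * x ^ (i + j) := by
      rw [pow_add]; group
    have hab := mul_mem ha hb
    rw [e] at hab
    rw [e, hFwell (i + j) _ (mul_mem hcC h1) hab, hFwell i c hcC ha, hFwell j c' hc'C hb,
      hρ.mul c hcC _ h1, pow_add, mul_assoc (ρ c) (S' ^ i), ← mul_assoc (S' ^ i), h2]
    simp only [mul_assoc]
  · intro p hp a ha
    obtain ⟨i, c, hcC, rfl⟩ := hgen p hp
    rw [hFwell i c hcC hp, mul_assoc, hS', smul_pow, smul_mul_assoc, (hSn i) a ha,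
      ← mul_smul_comm, ← mul_assoc, hc c hcC _ (hxN i a ha), mul_assoc]
    congr 2
    group

/-- An idempotent matrix has natural trace, and its determinant twist is that power. -/
theorem exists_rank {Q : Mat N} (hQ : Q * Q = Q) :
    ∃ m : ℕ, trace Q = m ∧ ∀ c : ℂ, (c • Q + (1 - Q)).det = c ^ m := by
  set f := Matrix.toLin' Q with hf
  have hidem : IsIdempotentElem f := by
    show f * f = f
    rw [hf, Module.End.mul_eq_comp, ← Matrix.toLin'_mul, hQ]
  have hproj := (LinearMap.isProj_range_iff_isIdempotentElem f).2 hidem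
  refine ⟨Module.finrank ℂ (LinearMap.range f), ?_, fun c => ?_⟩
  · rw [← hproj.trace, hf, Matrix.trace_toLin'_eq]
  · rw [← LinearMap.det_toLin', map_add, map_sub, map_smul, Matrix.toLin'_one, ← hf]
    set e := Submodule.prodEquivOfIsCompl _ _ hproj.isCompl
    have h1 : c • f + (LinearMap.id - f) =
        e.conj ((c • LinearMap.id).prodMap LinearMap.id) := by
      suffices h2 : ∀ g : (Fin N → ℂ) →ₗ[ℂ] Fin N → ℂ, g = e.conj (LinearMap.id.prodMap 0) →
          c • g + (LinearMap.id - g) = e.conj ((c • LinearMap.id).prodMap LinearMap.id) from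
        h2 f hproj.eq_conj_prodMap
      intro g hg
      rw [hg, ← LinearEquiv.conj_id e, ← map_smul, ← map_sub, ← map_add]
      congr 1
      ext x <;> simp
    rw [h1, LinearEquiv.conj_apply, LinearMap.comp_assoc, LinearMap.det_conj,
      LinearMap.det_prodMap, LinearMap.det_smul, LinearMap.det_id, LinearMap.det_id, mul_one,
      mul_one]

/-- The eigenprojections of a matrix of finite order. -/
noncomputable def eproj (X : Mat N) (M : ℕ) (w : ℂ) : Mat N :=
  (M : ℂ)⁻¹ • ∑ j ∈ Finset.range M, (w⁻¹) ^ j • X ^ j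

theorem smul_eproj {X : Mat N} {M : ℕ} (hM : 0 < M) (hX : X ^ M = 1) {w : ℂ} (hw : w ^ M = 1) :
    (w⁻¹ • X) * eproj X M w = eproj X M w := by
  have hw0 : w ≠ 0 := fun h0 => by rw [h0, zero_pow hM.ne'] at hw; exact zero_ne_one hw
  rw [eproj, mul_smul_comm, Finset.mul_sum]
  congr 1
  obtain ⟨k, rfl⟩ : ∃ k, M = k + 1 := ⟨M - 1, by omega⟩
  rw [Finset.sum_range_succ, Finset.sum_range_succ' (fun j => (w⁻¹) ^ j • X ^ j)]
  congr 1
  · refine Finset.sum_congr rfl fun j _ => ?_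
    rw [smul_mul_smul_comm, ← pow_succ', ← pow_succ']
  · rw [smul_mul_smul_comm, ← pow_succ', ← pow_succ', hX, inv_pow, hw, inv_one, pow_zero,
      pow_zero]

theorem eproj_idem {X : Mat N} {M : ℕ} (hM : 0 < M) (hX : X ^ M = 1) {w : ℂ} (hw : w ^ M = 1) :
    eproj X M w * eproj X M w = eproj X M w := by
  have hpow : ∀ j : ℕ, ((w⁻¹) ^ j • X ^ j) * eproj X M w = eproj X M w := by
    intro j
    induction j with
    | zero => simp
    | succ j ih =>
      rw [pow_succ, pow_succ, ← smul_mul_smul_comm, mul_assoc, smul_eproj hM hX hw, ih]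
  conv_lhs => arg 1; rw [eproj]
  rw [smul_mul_assoc, Finset.sum_mul, Finset.sum_congr rfl fun j _ => hpow j, Finset.sum_const,
    Finset.card_range, ← Nat.cast_smul_eq_nsmul ℂ, smul_smul,
    inv_mul_cancel₀ (Nat.cast_ne_zero.2 hM.ne'), one_smul]

theorem trace_eq_sum {X : Mat N} {M : ℕ} (hM : 0 < M) {ω : ℂ} (hω : IsPrimitiveRoot ω M)
    (hX : X ^ M = 1) :
    trace X = ∑ i ∈ Finset.range M, ω ^ i * trace (eproj X M (ω ^ i)) := by
  have key : ∀ j < M, ∑ i ∈ Finset.range M, ω ^ i * ((ω ^ i)⁻¹) ^ j =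
      if j = 1 % M then (M : ℂ) else 0 := by
    intro j hj
    have hω0 : ω ≠ 0 := hω.ne_zero hM.ne'
    have e : ∀ i, ω ^ i * ((ω ^ i)⁻¹) ^ j = (ω * (ω⁻¹) ^ j) ^ i := by
      intro i
      rw [mul_pow, ← inv_pow, ← pow_mul, ← pow_mul, mul_comm i j]
    simp only [e]
    by_cases hj1 : j = 1 % M
    · rw [if_pos hj1]
      have : ω * (ω⁻¹) ^ j = 1 := by
        subst hj1
        rcases Nat.lt_or_ge 1 M with h1 | h1
        · rw [Nat.mod_eq_of_lt h1, pow_one, mul_inv_cancel₀ hω0]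
        · obtain rfl : M = 1 := le_antisymm h1 hM
          rw [Nat.mod_self, pow_zero, mul_one]
          simpa using hω.pow_eq_one
      simp only [this, one_pow, Finset.sum_const, Finset.card_range, nsmul_eq_mul, mul_one]
    · rw [if_neg hj1]
      have hne : ω * (ω⁻¹) ^ j ≠ 1 := by
        intro h1
        apply hj1
        have h2 : ω ^ j = ω ^ 1 := by
          rw [pow_one, inv_pow, mul_inv_eq_one₀ (pow_ne_zero _ hω0)] at *
          exact h1.symm
        rcases Nat.lt_or_ge 1 M with h1' | h1'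
        · rw [Nat.mod_eq_of_lt h1']
          exact hω.pow_inj hj h1' h2
        · obtain rfl : M = 1 := le_antisymm h1' hM
          rw [Nat.mod_self]; omega
      have h1 := geom_sum_mul (ω * (ω⁻¹) ^ j) M
      have hz : (ω⁻¹ ^ j) ^ M = 1 := by
        rw [← pow_mul, mul_comm j M, pow_mul, inv_pow, hω.pow_eq_one, inv_one, one_pow]
      rw [mul_pow, hω.pow_eq_one, hz, mul_one, sub_self] at h1
      exact (mul_eq_zero.1 h1).resolve_right (sub_ne_zero.2 hne)
  simp only [eproj, trace_smul, trace_sum, smul_eq_mul, Finset.mul_sum]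
  rw [Finset.sum_comm, Finset.sum_congr rfl fun j hj => show
    ∑ i ∈ Finset.range M, ω ^ i * ((M : ℂ)⁻¹ * (((ω ^ i)⁻¹) ^ j * trace (X ^ j))) =
      if j = 1 % M then trace (X ^ j) else 0 from ?_]
  · rw [Finset.sum_ite_eq', if_pos (Finset.mem_range.2 (Nat.mod_lt 1 hM)), ← pow_eq_pow_mod 1 hX,
      pow_one]
  · rw [Finset.sum_congr rfl fun i _ => show ω ^ i * ((M : ℂ)⁻¹ * (((ω ^ i)⁻¹) ^ j * trace (X ^ j)))
      = (ω ^ i * ((ω ^ i)⁻¹) ^ j) * ((M : ℂ)⁻¹ * trace (X ^ j)) by ring, ← Finset.sum_mul,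
      key j (Finset.mem_range.1 hj)]
    split_ifs
    · rw [← mul_assoc, mul_inv_cancel₀ (Nat.cast_ne_zero.2 hM.ne'), one_mul]
    · rw [zero_mul]

end CfsgLib.ExtraExtend
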