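import Cfsg.Agent.Char.ExtraExtend.Algebra

/-!
# The ring of class sums of a fixed point free group of odd order

`cR z E K` is generated by the class sums of `K` acting on `V z E`; it is a commutative reduced
ring with an involution (the adjoint), and no idempotent fixed by it has trivial involution on
its corner.
-/

set_option autoImplicit false
set_option linter.unusedSectionVars false
set_option linter.unusedVariables false
set_option linter.style.haveILetI false

namespace CfsgLib.ExtraExtend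

open Subgroup

universe u

variable {G : Type u} [Group G] [Finite G] {z : G} {E K P : Subgroup G}

/-- The standing hypotheses. -/
structure Hyp (z : G) (E K P : Subgroup G) : Prop where
  sym : Sym z E
  kN : K ≤ normalizer (E : Set G)
  pN : P ≤ normalizer (E : Set G)
  pK : P ≤ normalizer (K : Set G)
  odd : Odd (Nat.card K)
  fpf : ∀ a ∈ E, (∀ k ∈ K, π z E (k * a * k⁻¹) = π z E a) → π z E a = 0
  isP : IsPGroup 2 P

/-- The elements of `K`. -/
noncomputable def kfin (K : Subgroup G) : Finset G := (Set.toFinite (K : Set G)).toFinset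

theorem mem_kfin {k : G} : k ∈ kfin K ↔ k ∈ K := Set.Finite.mem_toFinset _

theorem card_kfin (K : Subgroup G) : (kfin K).card = Nat.card K := by
  rw [kfin, ← Set.ncard_eq_toFinset_card _ _, ← Nat.card_coe_set_eq]; rfl

/-- The class sum. -/
noncomputable def cs (z : G) (E K : Subgroup G) (k : G) : AddMonoid.End (V z E) :=
  ∑ j ∈ kfin K, act z E (j * k * j⁻¹)

/-- The ring of class sums. -/
noncomputable def cR (z : G) (E K : Subgroup G) : Subring (AddMonoid.End (V z E)) :=
  Subring.closure (cs z E K '' (K : Set G))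

/-- Adjointness for `B`. -/
def IsAdj (T U : AddMonoid.End (V z E)) : Prop := ∀ x y : V z E, B (T x) y = B x (U y)

theorem cs_mem {k : G} (hk : k ∈ K) : cs z E K k ∈ cR z E K :=
  Subring.subset_closure ⟨k, hk, rfl⟩

theorem mul_app (T U : AddMonoid.End (V z E)) (x : V z E) : (T * U) x = T (U x) := rfl

theorem one_app (x : V z E) : (1 : AddMonoid.End (V z E)) x = x := rfl

theorem add_app (T U : AddMonoid.End (V z E)) (x : V z E) : (T + U) x = T x + U x := rfl

theorem zero_app (x : V z E) : (0 : AddMonoid.End (V z E)) x = 0 := rfl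

theorem sum_app {ι : Type*} (s : Finset ι) (f : ι → AddMonoid.End (V z E)) (x : V z E) :
    (∑ i ∈ s, f i) x = ∑ i ∈ s, f i x := by
  classical
  induction s using Finset.induction_on with
  | empty => rw [Finset.sum_empty, Finset.sum_empty]; rfl
  | insert a s ha ih => rw [Finset.sum_insert ha, Finset.sum_insert ha, add_app, ih]

theorem _root_.CfsgLib.ExtraExtend.Sym.B_sum_right (hS : Sym z E) {ι : Type*} (s : Finset ι)
    (f : ι → V z E) (x : V z E) : B x (∑ i ∈ s, f i) = ∑ i ∈ s, B x (f i) :=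
  map_sum (hS.bHom x) f s

theorem _root_.CfsgLib.ExtraExtend.Sym.B_sum_left (hS : Sym z E) {ι : Type*} (s : Finset ι)
    (f : ι → V z E) (x : V z E) : B (∑ i ∈ s, f i) x = ∑ i ∈ s, B (f i) x := by
  rw [hS.B_symm, hS.B_sum_right]
  exact Finset.sum_congr rfl fun i _ => hS.B_symm _ _

theorem Hyp.kN' (h : Hyp z E K P) {j k : G} (hj : j ∈ K) (hk : k ∈ K) :
    j * k * j⁻¹ ∈ normalizer (E : Set G) :=
  h.kN (mul_mem (mul_mem hj hk) (inv_mem hj))

theorem Hyp.act_comm_cs (h : Hyp z E K P) {l k : G} (hl : l ∈ K) (hk : k ∈ K) :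
    act z E l * cs z E K k = cs z E K k * act z E l := by
  rw [cs, Finset.mul_sum, Finset.sum_mul]
  refine Finset.sum_bij' (fun j _ => l * j) (fun j _ => l⁻¹ * j)
    (fun j hj => mem_kfin.2 (mul_mem hl (mem_kfin.1 hj)))
    (fun j hj => mem_kfin.2 (mul_mem (inv_mem hl) (mem_kfin.1 hj)))
    (fun j _ => inv_mul_cancel_left l j) (fun j _ => mul_inv_cancel_left l j) fun j hj => ?_
  rw [← h.sym.act_mul (h.kN hl) (h.kN' (mem_kfin.1 hj) hk),
    ← h.sym.act_mul (h.kN' (mul_mem hl (mem_kfin.1 hj)) hk) (h.kN hl)]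
  congr 1
  group

theorem Hyp.comm_of_comm_act (h : Hyp z E K P) {T : AddMonoid.End (V z E)}
    (hT : ∀ l ∈ K, act z E l * T = T * act z E l) {R : AddMonoid.End (V z E)}
    (hR : R ∈ cR z E K) : R * T = T * R := by
  induction hR using Subring.closure_induction with
  | mem x hx =>
    obtain ⟨k, hk, rfl⟩ := hx
    rw [cs, Finset.sum_mul, Finset.mul_sum]
    exact Finset.sum_congr rfl fun j hj =>
      hT _ (mul_mem (mul_mem (mem_kfin.1 hj) hk) (inv_mem (mem_kfin.1 hj)))
  | zero => rw [zero_mul, mul_zero]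
  | one => rw [one_mul, mul_one]
  | add x y _ _ hx hy => rw [add_mul, mul_add, hx, hy]
  | neg x _ hx => rw [h.sym.end_neg x]; exact hx
  | mul x y _ _ hx hy => rw [mul_assoc, hy, ← mul_assoc, hx, mul_assoc]

theorem Hyp.act_comm (h : Hyp z E K P) {l : G} (hl : l ∈ K) {R : AddMonoid.End (V z E)}
    (hR : R ∈ cR z E K) : act z E l * R = R * act z E l := by
  induction hR using Subring.closure_induction with
  | mem x hx => obtain ⟨k, hk, rfl⟩ := hx; exact h.act_comm_cs hl hk
  | zero => rw [zero_mul, mul_zero]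
  | one => rw [one_mul, mul_one]
  | add x y _ _ hx hy => rw [add_mul, mul_add, hx, hy]
  | neg x _ hx => rw [h.sym.end_neg x]; exact hx
  | mul x y _ _ hx hy => rw [← mul_assoc, hx, mul_assoc, hy, ← mul_assoc]

theorem Hyp.comm (h : Hyp z E K P) {R S : AddMonoid.End (V z E)} (hR : R ∈ cR z E K)
    (hS : S ∈ cR z E K) : R * S = S * R :=
  h.comm_of_comm_act (fun _ hl => h.act_comm hl hS) hR

theorem Hyp.conj_mem (h : Hyp z E K P) {g : G} (hg : g ∈ normalizer (E : Set G))
    (hgK : g ∈ normalizer (K : Set G)) {R : AddMonoid.End (V z E)} (hR : R ∈ cR z E K) :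
    act z E g * R * act z E g⁻¹ ∈ cR z E K := by
  have h1 : act z E g⁻¹ * act z E g = 1 := h.sym.act_inv hg
  have h2 : act z E g * act z E g⁻¹ = 1 := by
    rw [← h.sym.act_mul hg (inv_mem hg), mul_inv_cancel, h.sym.act_one]
  induction hR using Subring.closure_induction with
  | mem x hx =>
    obtain ⟨k, hk, rfl⟩ := hx
    have e : act z E g * cs z E K k * act z E g⁻¹ = cs z E K (g * k * g⁻¹) := by
      rw [cs, Finset.mul_sum, Finset.sum_mul]
      refine Finset.sum_bij' (fun j _ => g * j * g⁻¹) (fun j _ => g⁻¹ * j * g)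
        (fun j hj => mem_kfin.2 ((mem_normalizer_iff.1 hgK j).1 (mem_kfin.1 hj)))
        (fun j hj => mem_kfin.2 (by
          simpa using (mem_normalizer_iff.1 (inv_mem hgK) j).1 (mem_kfin.1 hj)))
        (fun j _ => by group) (fun j _ => by group) fun j hj => ?_
      rw [← h.sym.act_mul hg (h.kN' (mem_kfin.1 hj) hk),
        ← h.sym.act_mul (mul_mem hg (h.kN' (mem_kfin.1 hj) hk)) (inv_mem hg)]
      congr 1
      group
    rw [e]
    exact cs_mem ((mem_normalizer_iff.1 hgK k).1 hk)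
  | zero => rw [mul_zero, zero_mul]; exact zero_mem _
  | one => rw [mul_one, h2]; exact one_mem _
  | add x y _ _ hx hy => rw [mul_add, add_mul]; exact add_mem hx hy
  | neg x _ hx => rw [h.sym.end_neg x]; exact hx
  | mul x y _ _ hx hy =>
    rw [show act z E g * (x * y) * act z E g⁻¹ =
      act z E g * x * act z E g⁻¹ * (act z E g * y * act z E g⁻¹) by
        simp only [mul_assoc]; rw [← mul_assoc (act z E g⁻¹) (act z E g), h1, one_mul]]
    exact mul_mem hx hy

theorem Hyp.exists_adj (h : Hyp z E K P) {R : AddMonoid.End (V z E)} (hR : R ∈ cR z E K) :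
    ∃ S ∈ cR z E K, IsAdj R S := by
  have hS := h.sym
  induction hR using Subring.closure_induction with
  | mem x hx =>
    obtain ⟨k, hk, rfl⟩ := hx
    refine ⟨cs z E K k⁻¹, cs_mem (inv_mem hk), fun x y => ?_⟩
    rw [cs, cs, sum_app, sum_app, hS.B_sum_left, hS.B_sum_right]
    refine Finset.sum_congr rfl fun j hj => ?_
    rw [hS.B_act_adj (h.kN' (mem_kfin.1 hj) hk)]
    congr 3
    group
  | zero => exact ⟨0, zero_mem _, fun x y => by
      rw [zero_app, zero_app, hS.B_zero_left, hS.B_zero_right]⟩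
  | one => exact ⟨1, one_mem _, fun x y => rfl⟩
  | add x y _ _ hx hy =>
    obtain ⟨a, ha, ha'⟩ := hx
    obtain ⟨b, hb, hb'⟩ := hy
    refine ⟨a + b, add_mem ha hb, fun u w => ?_⟩
    rw [add_app, add_app, hS.B_add_left, hS.B_add_right, ha', hb']
  | neg x _ hx =>
    obtain ⟨a, ha, ha'⟩ := hx
    exact ⟨a, ha, by rwa [hS.end_neg]⟩
  | mul x y _ _ hx hy =>
    obtain ⟨a, ha, ha'⟩ := hx
    obtain ⟨b, hb, hb'⟩ := hy
    refine ⟨b * a, mul_mem hb ha, fun u w => ?_⟩
    rw [mul_app, mul_app, ha', hb']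

open scoped Classical in
/-- The adjoint. -/
noncomputable def adj (z : G) (E K : Subgroup G) (R : AddMonoid.End (V z E)) :
    AddMonoid.End (V z E) :=
  if h : ∃ S ∈ cR z E K, IsAdj R S then h.choose else 0

theorem Hyp.adj_mem (h : Hyp z E K P) {R : AddMonoid.End (V z E)} (hR : R ∈ cR z E K) :
    adj z E K R ∈ cR z E K := by
  rw [adj, dif_pos (h.exists_adj hR)]; exact (h.exists_adj hR).choose_spec.1

theorem Hyp.isAdj (h : Hyp z E K P) {R : AddMonoid.End (V z E)} (hR : R ∈ cR z E K) :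
    IsAdj R (adj z E K R) := by
  rw [adj, dif_pos (h.exists_adj hR)]; exact (h.exists_adj hR).choose_spec.2

theorem Hyp.adj_eq (h : Hyp z E K P) {R S : AddMonoid.End (V z E)} (hR : R ∈ cR z E K)
    (hS : IsAdj R S) : adj z E K R = S :=
  end_ext fun y => h.sym.eq_of_B fun w => by rw [← h.isAdj hR w y, hS w y]

theorem Hyp.adj_adj (h : Hyp z E K P) {R : AddMonoid.End (V z E)} (hR : R ∈ cR z E K) :
    adj z E K (adj z E K R) = R :=
  h.adj_eq (h.adj_mem hR) fun x y => by rw [h.sym.B_symm, ← h.isAdj hR, h.sym.B_symm]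

theorem Hyp.adj_mul (h : Hyp z E K P) {R S : AddMonoid.End (V z E)} (hR : R ∈ cR z E K)
    (hS : S ∈ cR z E K) : adj z E K (R * S) = adj z E K R * adj z E K S := by
  rw [h.comm (h.adj_mem hR) (h.adj_mem hS)]
  exact h.adj_eq (mul_mem hR hS) fun x y => by
    rw [mul_app, mul_app, h.isAdj hR, h.isAdj hS]

theorem Hyp.adj_add (h : Hyp z E K P) {R S : AddMonoid.End (V z E)} (hR : R ∈ cR z E K)
    (hS : S ∈ cR z E K) : adj z E K (R + S) = adj z E K R + adj z E K S :=
  h.adj_eq (add_mem hR hS) fun x y => by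
    rw [add_app, add_app, h.sym.B_add_left, h.sym.B_add_right, h.isAdj hR, h.isAdj hS]

theorem Hyp.adj_one (h : Hyp z E K P) : adj z E K (1 : AddMonoid.End (V z E)) = 1 :=
  h.adj_eq (one_mem _) fun _ _ => rfl

theorem Hyp.adj_zero (h : Hyp z E K P) : adj z E K (0 : AddMonoid.End (V z E)) = 0 :=
  h.adj_eq (zero_mem _) fun x y => by
    rw [zero_app, zero_app, h.sym.B_zero_left, h.sym.B_zero_right]

theorem Hyp.adj_conj (h : Hyp z E K P) {g : G} (hg : g ∈ normalizer (E : Set G))
    (hgK : g ∈ normalizer (K : Set G)) {R : AddMonoid.End (V z E)} (hR : R ∈ cR z E K) :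
    adj z E K (act z E g * R * act z E g⁻¹) = act z E g * adj z E K R * act z E g⁻¹ := by
  refine h.adj_eq (h.conj_mem hg hgK hR) fun x y => ?_
  rw [mul_app, mul_app, mul_app, mul_app, h.sym.B_act_adj hg, h.isAdj hR,
    h.sym.B_act_adj (inv_mem hg), inv_inv]

theorem Hyp.sum_act (h : Hyp z E K P) : ∑ k ∈ kfin K, act z E k = 0 := by
  refine end_ext fun x => ?_
  rw [zero_app, sum_app]
  obtain ⟨a, ha, e⟩ := exists_lift z E (∑ k ∈ kfin K, act z E k x)
  rw [← e]
  refine h.fpf a ha fun l hl => ?_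
  rw [← h.sym.act_π (h.kN hl) ha, e, map_sum]
  refine Finset.sum_bij' (fun k _ => l * k) (fun k _ => l⁻¹ * k)
    (fun j hj => mem_kfin.2 (mul_mem hl (mem_kfin.1 hj)))
    (fun j hj => mem_kfin.2 (mul_mem (inv_mem hl) (mem_kfin.1 hj)))
    (fun j _ => inv_mul_cancel_left l j) (fun j _ => mul_inv_cancel_left l j) fun j hj => ?_
  rw [← mul_app, h.sym.act_mul (h.kN hl) (h.kN (mem_kfin.1 hj))]

/-- An additive functional invariant under `K` vanishes. -/
theorem Hyp.functional_eq_zero (h : Hyp z E K P) (l : V z E →+ ZMod 2)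
    (hl : ∀ k ∈ K, ∀ x, l (act z E k x) = l x) : l = 0 := by
  refine AddMonoidHom.ext fun x => ?_
  have e : l ((∑ k ∈ kfin K, act z E k) x) = 0 := by rw [h.sum_act, zero_app, map_zero]
  rw [sum_app, map_sum, Finset.sum_congr rfl fun k hk => hl k (mem_kfin.1 hk) x, Finset.sum_const,
    card_kfin] at e
  obtain ⟨m, hm⟩ := h.odd
  rw [hm, add_nsmul, mul_comm, mul_nsmul, two_nsmul, one_nsmul, ← nsmul_add,
    CharTwo.add_self_eq_zero, nsmul_zero, zero_add] at e
  exact e

theorem Hyp.eq_zero_of_sq (h : Hyp z E K P) {n : AddMonoid.End (V z E)} (hn : n ∈ cR z E K)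
    (hnn : n * n = 0) : n = 0 := by
  letI : Module (ZMod 2) (V z E) :=
    AddCommGroup.zmodModule fun x => by rw [two_nsmul]; exact h.sym.add_self x
  let n' : V z E →ₗ[ZMod 2] V z E := (n : V z E →+ V z E).toZModLinearMap 2
  obtain ⟨Wc, hWc⟩ := Submodule.exists_isCompl (LinearMap.range n')
  let q0 : AddMonoid.End (V z E) :=
    ((LinearMap.range n').subtype ∘ₗ
      (LinearMap.range n').projectionOnto Wc hWc).toAddMonoidHom
  have hq0 : ∀ x, ∃ y, q0 x = n y := fun x => by
    obtain ⟨y, hy⟩ := ((LinearMap.range n').projectionOnto Wc hWc x).2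
    exact ⟨y, hy.symm⟩
  have hfix : ∀ y, q0 (n y) = n y := fun y => by
    have := Submodule.projectionOnto_apply_left hWc ⟨n' y, ⟨y, rfl⟩⟩
    exact congrArg Subtype.val this
  let q : AddMonoid.End (V z E) := ∑ k ∈ kfin K, act z E k * q0 * act z E k⁻¹
  have hqK : ∀ l ∈ K, act z E l * q = q * act z E l := by
    intro l hl
    simp only [q, Finset.mul_sum, Finset.sum_mul]
    refine Finset.sum_bij' (fun k _ => l * k) (fun k _ => l⁻¹ * k)
      (fun j hj => mem_kfin.2 (mul_mem hl (mem_kfin.1 hj)))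
      (fun j hj => mem_kfin.2 (mul_mem (inv_mem hl) (mem_kfin.1 hj)))
      (fun j _ => inv_mul_cancel_left l j) (fun j _ => mul_inv_cancel_left l j) fun j hj => ?_
    have hj' := h.kN (mem_kfin.1 hj)
    rw [h.sym.act_mul (h.kN hl) hj', _root_.mul_inv_rev]
    rw [mul_assoc (act z E l * act z E j * q0), ← h.sym.act_mul (mul_mem (inv_mem hj')
      (inv_mem (h.kN hl))) (h.kN hl), inv_mul_cancel_right]
    simp only [mul_assoc]
  have hcomm := h.comm_of_comm_act hqK hn
  have hqn : ∀ y, q (n y) = n y := by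
    intro y
    simp only [q, sum_app, mul_app]
    rw [Finset.sum_congr rfl fun k hk => show act z E k (q0 (act z E k⁻¹ (n y))) = n y from ?_,
      Finset.sum_const, card_kfin, h.sym.odd_nsmul _ h.odd]
    have hk' := h.kN (mem_kfin.1 hk)
    have hcm : ∀ u, act z E k⁻¹ (n u) = n (act z E k⁻¹ u) := fun u => by
      rw [← mul_app, h.act_comm (inv_mem (mem_kfin.1 hk)) hn, mul_app]
    rw [hcm, hfix, ← hcm, ← mul_app, ← h.sym.act_mul hk' (inv_mem hk'), mul_inv_cancel,
      h.sym.act_one, one_app]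
  refine end_ext fun y => ?_
  have hqy : ∃ w, q y = n w := by
    refine ⟨∑ k ∈ kfin K, act z E k (hq0 (act z E k⁻¹ y)).choose, ?_⟩
    simp only [q, sum_app, mul_app, map_sum]
    refine Finset.sum_congr rfl fun k hk => ?_
    refine (congrArg (act z E k) (hq0 (act z E k⁻¹ y)).choose_spec).trans ?_
    rw [← mul_app, h.act_comm (mem_kfin.1 hk) hn, mul_app]
  obtain ⟨w, hw⟩ := hqy
  rw [zero_app, ← hqn y, ← mul_app, ← hcomm, mul_app, hw, ← mul_app, hnn, zero_app]

/-- A power which is idempotent. -/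
theorem exists_idem_pow {M : Type*} [Monoid M] [Finite M] (x : M) :
    ∃ n : ℕ, 0 < n ∧ x ^ n * x ^ n = x ^ n := by
  obtain ⟨i, j, hij, he⟩ : ∃ i j : ℕ, i < j ∧ x ^ i = x ^ j := by
    obtain ⟨i, j, hne, he⟩ := Finite.exists_ne_map_eq_of_infinite (fun k : ℕ => x ^ k)
    rcases lt_or_gt_of_ne hne with h | h
    · exact ⟨i, j, h, he⟩
    · exact ⟨j, i, h, he.symm⟩
  have per : ∀ m : ℕ, i ≤ m → ∀ t : ℕ, x ^ (m + t * (j - i)) = x ^ m := by
    intro m hm t
    induction t with
    | zero => rw [zero_mul, add_zero]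
    | succ t ih =>
      conv_rhs => rw [← ih]
      rw [show m + (t + 1) * (j - i) = j + (m + t * (j - i) - i) by
        rw [add_mul, one_mul]; omega, pow_add, ← he, ← pow_add]
      congr 1
      omega
  refine ⟨(i + 1) * (j - i), Nat.mul_pos (by omega) (by omega), ?_⟩
  rw [← pow_add, per _ (le_trans (Nat.le_succ i) (Nat.le_mul_of_pos_right _ (by omega))) (i + 1)]

theorem finite_end (h : Sym z E) : Finite (AddMonoid.End (V z E)) :=
  haveI : Finite (V z E) :=
    Finite.of_surjective (fun a : ↥E => π z E (a : G)) fun v => ⟨⟨lift v, lift_mem v⟩, π_lift v⟩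
  Finite.of_injective (fun T : AddMonoid.End (V z E) => (T : V z E → V z E)) DFunLike.coe_injective

/-- Below a nonzero idempotent with a property there is a minimal one. -/
theorem Hyp.exists_minimal (h : Hyp z E K P) (p : AddMonoid.End (V z E) → Prop)
    {g : AddMonoid.End (V z E)} (hg0 : g ≠ 0) (hgg : g * g = g) (hg : p g) :
    ∃ e, p e ∧ e ≠ 0 ∧ e * e = e ∧ e * g = e ∧
      ∀ d, p d → d * d = d → d * e = d → e * d = d → d = 0 ∨ d = e := by
  haveI := finite_end h.sym
  haveI : Finite (V z E) :=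
    Finite.of_surjective (fun a : ↥E => π z E (a : G)) fun v => ⟨⟨lift v, lift_mem v⟩, π_lift v⟩
  obtain ⟨e, ⟨hpe, he0, hee, heg⟩, hmin⟩ := (Set.toFinite
    {e : AddMonoid.End (V z E) | p e ∧ e ≠ 0 ∧ e * e = e ∧ e * g = e}).exists_minimalFor
    (fun e : AddMonoid.End (V z E) => Nat.card (Set.range ⇑e)) _ ⟨g, hg, hg0, hgg, hgg⟩
  refine ⟨e, hpe, he0, hee, heg, fun d hd hdd hde hed => (em (d = 0)).imp id fun hd0 => ?_⟩
  have hdg : d * g = d := by rw [← hde, mul_assoc, heg]
  have hsub : Set.range ⇑d ⊆ Set.range ⇑e := by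
    rintro _ ⟨x, rfl⟩
    exact ⟨d x, by rw [← mul_app, hed]⟩
  have hle := hmin ⟨hd, hd0, hdd, hdg⟩
  have heq : Set.range ⇑d = Set.range ⇑e := by
    refine Set.eq_of_subset_of_ncard_le hsub ?_ (Set.toFinite _)
    have hc := Nat.card_mono (Set.toFinite _) hsub
    simp only [Nat.card_coe_set_eq] at hle hc ⊢
    exact hle hc
  refine end_ext fun x => ?_
  obtain ⟨y, hy⟩ : e x ∈ Set.range ⇑d := heq ▸ ⟨x, rfl⟩
  rw [← hde, mul_app, ← hy, ← mul_app, hdd]

/-- `e` is a minimal idempotent of the ring. -/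
def Atom (z : G) (E K : Subgroup G) (e : AddMonoid.End (V z E)) : Prop :=
  e ∈ cR z E K ∧ e ≠ 0 ∧ e * e = e ∧
    ∀ d ∈ cR z E K, d * d = d → d * e = d → d = 0 ∨ d = e

theorem Hyp.exists_atom (h : Hyp z E K P) {g : AddMonoid.End (V z E)} (hgm : g ∈ cR z E K)
    (hg0 : g ≠ 0) (hgg : g * g = g) : ∃ e, Atom z E K e ∧ e * g = e := by
  obtain ⟨e, hem, he0, hee, heg, hmin⟩ := h.exists_minimal (· ∈ cR z E K) hg0 hgg hgm
  exact ⟨e, ⟨hem, he0, hee, fun d hd hdd hde =>
    hmin d hd hdd hde (by rw [h.comm hem hd, hde])⟩, heg⟩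

theorem Hyp.atom_inv (h : Hyp z E K P) {e : AddMonoid.End (V z E)} (he : Atom z E K e)
    {T : AddMonoid.End (V z E)} (hT : T ∈ cR z E K) (hne : e * T ≠ 0) :
    ∃ U ∈ cR z E K, e * T * U = e := by
  obtain ⟨hem, he0, hee, hmin⟩ := he
  haveI := finite_end h.sym
  set x := e * T with hx
  have hxm : x ∈ cR z E K := mul_mem hem hT
  obtain ⟨n, hn, hidem⟩ := exists_idem_pow x
  have hxe : x * e = x := by rw [hx, mul_assoc, h.comm hT hem, ← mul_assoc, hee]
  have hne' : x ^ n ≠ 0 := by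
    intro h0
    have key : ∀ m : ℕ, x ^ (m + 1) = 0 → x = 0 := by
      intro m
      induction m with
      | zero => intro h1; rwa [zero_add, pow_one] at h1
      | succ m ih =>
        intro h1
        refine ih (h.eq_zero_of_sq (pow_mem hxm _) ?_)
        rw [← pow_add, show m + 1 + (m + 1) = (m + 1 + 1) + m by omega, pow_add, h1, zero_mul]
    obtain ⟨m, rfl⟩ : ∃ m, n = m + 1 := ⟨n - 1, by omega⟩
    exact hne (key m h0)
  obtain ⟨m, rfl⟩ : ∃ m, n = m + 1 := ⟨n - 1, by omega⟩
  refine ⟨x ^ m, pow_mem hxm _, ?_⟩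
  rw [← pow_succ']
  refine (hmin _ (pow_mem hxm _) hidem ?_).resolve_left hne'
  rw [pow_succ, mul_assoc, hxe]

theorem Hyp.adj_idem (h : Hyp z E K P) {e : AddMonoid.End (V z E)} (hem : e ∈ cR z E K)
    (hee : e * e = e) : adj z E K e * adj z E K e = adj z E K e := by
  rw [← h.adj_mul hem hem, hee]

theorem Hyp.adj_atom (h : Hyp z E K P) {e : AddMonoid.End (V z E)} (he : Atom z E K e) :
    Atom z E K (adj z E K e) := by
  obtain ⟨hem, he0, hee, hmin⟩ := he
  refine ⟨h.adj_mem hem, fun h0 => he0 ?_, h.adj_idem hem hee, fun d hd hdd hde => ?_⟩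
  · rw [← h.adj_adj hem, h0, h.adj_zero]
  · have h1 : adj z E K d * e = adj z E K d := by
      conv_lhs => rw [← h.adj_adj hem, ← h.adj_mul hd (h.adj_mem hem), hde]
    rcases hmin _ (h.adj_mem hd) (h.adj_idem hd hdd) h1 with h2 | h2
    · left; rw [← h.adj_adj hd, h2, h.adj_zero]
    · right; rw [← h.adj_adj hd, h2]

/-- The involution is nontrivial on every fixed corner. -/
theorem Hyp.exists_not_fixed (h : Hyp z E K P) {e : AddMonoid.End (V z E)}
    (hem : e ∈ cR z E K) (he0 : e ≠ 0) (hfix : adj z E K e = e) :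
    ∃ T ∈ cR z E K, adj z E K (e * T) ≠ e * T := by
  classical
  by_contra hcon
  push Not at hcon
  refine he0 ?_
  have hS := h.sym
  have hcs : ∀ k ∈ K, adj z E K (cs z E K k) = cs z E K k⁻¹ := by
    intro k hk
    refine h.adj_eq (cs_mem hk) fun x y => ?_
    rw [cs, cs, sum_app, sum_app, hS.B_sum_left, hS.B_sum_right]
    refine Finset.sum_congr rfl fun j hj => ?_
    rw [hS.B_act_adj (h.kN' (mem_kfin.1 hj) hk)]
    congr 3
    group
  have htot : ∑ k ∈ kfin K, cs z E K k = 0 := by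
    simp only [cs]
    rw [Finset.sum_comm]
    refine Finset.sum_eq_zero fun j hj => ?_
    rw [← h.sum_act]
    refine Finset.sum_bij' (fun k _ => j * k * j⁻¹) (fun k _ => j⁻¹ * k * j)
      (fun k hk => mem_kfin.2
        (mul_mem (mul_mem (mem_kfin.1 hj) (mem_kfin.1 hk)) (inv_mem (mem_kfin.1 hj))))
      (fun k hk => mem_kfin.2
        (mul_mem (mul_mem (inv_mem (mem_kfin.1 hj)) (mem_kfin.1 hk)) (mem_kfin.1 hj)))
      (fun k _ => by group) (fun k _ => by group) fun _ _ => rfl
  have hone : cs z E K 1 = 1 := by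
    rw [cs, Finset.sum_congr rfl fun j _ => show act z E (j * 1 * j⁻¹) = 1 by
      rw [mul_one, mul_inv_cancel, hS.act_one], Finset.sum_const, card_kfin,
      hS.end_odd_nsmul _ h.odd]
  have hpair : ∑ k ∈ (kfin K).erase 1, e * cs z E K k = 0 := by
    refine Finset.sum_involution (fun k _ => k⁻¹) (fun k hk => ?_) (fun k hk _ he => ?_)
      (fun k hk => ?_) fun k hk => inv_inv k
    · have hk' := mem_kfin.1 (Finset.mem_erase.1 hk).2
      have h1 := hcon _ (cs_mem (z := z) (E := E) hk')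
      rw [h.adj_mul hem (cs_mem hk'), hfix, hcs k hk'] at h1
      rw [h1, hS.end_add_self]
    · have hk' := mem_kfin.1 (Finset.mem_erase.1 hk).2
      refine (Finset.mem_erase.1 hk).1 (orderOf_eq_one_iff.1 ?_)
      have h2 : orderOf k ∣ 2 := orderOf_dvd_of_pow_eq_one (by
        rw [pow_two]; nth_rewrite 1 [← he]; exact inv_mul_cancel k)
      have h3 : orderOf k ∣ Nat.card K := by
        rw [← Subgroup.orderOf_mk k hk']; exact orderOf_dvd_natCard _
      exact Nat.eq_one_of_dvd_coprimes h.odd.coprime_two_left h2 h3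
    · refine Finset.mem_erase.2 ⟨fun h1 => (Finset.mem_erase.1 hk).1 (inv_eq_one.1 h1), ?_⟩
      exact mem_kfin.2 (inv_mem (mem_kfin.1 (Finset.mem_erase.1 hk).2))
  rw [← Finset.mul_sum] at hpair
  have h3 := congrArg (e * ·) htot
  rw [mul_zero, ← Finset.add_sum_erase _ _ (mem_kfin.2 (one_mem K)), mul_add, hone, mul_one,
    hpair, add_zero] at h3
  exact h3

end CfsgLib.ExtraExtend
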