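import Cfsg.Agent.Char.ExtraExtend.Ring

/-!
# Cutting a group of extraspecial type along a self-adjoint idempotent

If `g` is an idempotent fixed by the adjoint, `E` is the central product of `eSub z E g` and
`eSub z E (1 + g)`; representations of the factors combine by the Kronecker product, and an element
exchanging the factors acts through the swap.
-/

set_option autoImplicit false
set_option linter.unusedSectionVars false
set_option linter.unusedVariables false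
set_option linter.style.haveILetI false

namespace CfsgLib.ExtraExtend

open Subgroup

universe u

variable {G : Type u} [Group G] [Finite G] {z : G} {E K P : Subgroup G}

/-- The preimage of the range of an idempotent. -/
noncomputable def eSub (z : G) (E : Subgroup G) (g : AddMonoid.End (V z E)) : Subgroup G where
  carrier := {a | a ∈ E ∧ g (π z E a) = π z E a}
  one_mem' := ⟨one_mem E, by rw [π_one, map_zero]⟩
  mul_mem' := fun {a b} ha hb => ⟨mul_mem ha.1 hb.1, by rw [π_mul z ha.1 hb.1, map_add, ha.2, hb.2]⟩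
  inv_mem' := fun {a} ha => ⟨inv_mem ha.1, by rw [π_inv z ha.1, map_neg, ha.2]⟩

theorem mem_eSub {g : AddMonoid.End (V z E)} {a : G} :
    a ∈ eSub z E g ↔ a ∈ E ∧ g (π z E a) = π z E a := Iff.rfl

theorem eSub_le (g : AddMonoid.End (V z E)) : eSub z E g ≤ E := fun _ h => h.1

/-- A splitting idempotent. -/
structure SplitAt (z : G) (E : Subgroup G) (g : AddMonoid.End (V z E)) : Prop where
  idem : g * g = g
  self_adj : ∀ x y : V z E, B (g x) y = B x (g y)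

theorem SplitAt.compl {g : AddMonoid.End (V z E)} (hg : SplitAt z E g) (hS : Sym z E) :
    SplitAt z E (1 + g) := by
  refine ⟨?_, fun x y => ?_⟩
  · rw [add_mul, one_mul, mul_add, mul_one, hg.idem, hS.end_add_self, add_zero]
  · rw [add_app, add_app, one_app, one_app, hS.B_add_left, hS.B_add_right, hg.self_adj]

theorem eSub_lift_mem {g : AddMonoid.End (V z E)} (hg : g * g = g) (x : V z E) :
    lift (g x) ∈ eSub z E g :=
  ⟨lift_mem _, by rw [π_lift, ← mul_app, hg]⟩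

theorem SplitAt.sym {g : AddMonoid.End (V z E)} (hg : SplitAt z E g) (hS : Sym z E) :
    Sym z (eSub z E g) := by
  refine ⟨⟨hS.z_mem, by rw [hS.π_z, map_zero]⟩, hS.z_ne, hS.z_sq, fun a ha => hS.z_comm a ha.1,
    fun a ha b hb => hS.comm a ha.1 b hb.1, fun a ha => hS.sq a ha.1, fun a ha h => ?_⟩
  refine (hS.π_eq_zero ha.1).1 (hS.B_nondeg fun y => ?_)
  rw [← ha.2, hg.self_adj, ← π_lift (g y), hS.B_π ha.1 (lift_mem _)]
  exact cb_eq_zero.2 (h _ (eSub_lift_mem hg.idem y))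

theorem SplitAt.hyp {g : AddMonoid.End (V z E)} (hg : SplitAt z E g) (h : Hyp z E K P)
    (hgK : ∀ k ∈ K, act z E k * g = g * act z E k) {M : Subgroup G} (hMP : M ≤ P)
    (hgM : ∀ p ∈ M, act z E p * g = g * act z E p) : Hyp z (eSub z E g) K M := by
  have hS' := hg.sym h.sym
  have hN : ∀ p ∈ normalizer (E : Set G), act z E p * g = g * act z E p →
      ∀ a ∈ eSub z E g, p * a * p⁻¹ ∈ eSub z E g := by
    intro p hp hc a ha
    refine ⟨(mem_normalizer_iff.1 hp a).1 ha.1, ?_⟩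
    rw [← h.sym.act_π hp ha.1, ← mul_app, ← hc, mul_app, ha.2]
  have hle : ∀ L : Subgroup G, L ≤ normalizer (E : Set G) →
      (∀ p ∈ L, act z E p * g = g * act z E p) →
      L ≤ normalizer (eSub z E g : Set G) := by
    intro L hL hc p hp
    rw [mem_normalizer_iff]
    refine fun a => ⟨hN p (hL hp) (hc p hp) a, fun ha => ?_⟩
    have := hN p⁻¹ (hL (inv_mem hp)) (hc _ (inv_mem hp)) _ ha
    simpa [mul_assoc] using this
  refine ⟨hS', hle K h.kN hgK, hle M (hMP.trans h.pN) hgM, hMP.trans h.pK, h.odd,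
    fun a ha hfix => ?_, h.isP.to_le hMP⟩
  refine (hS'.π_eq_zero ha).2 ((h.sym.π_eq_zero ha.1).1 (h.fpf a ha.1 fun k hk => ?_))
  rcases hS'.π_eq (hN k (h.kN hk) (hgK k hk) a ha) ha (hfix k hk) with e | e
  · rw [e]
  · rw [e, π_mul z ha.1 h.sym.z_mem, h.sym.π_z, add_zero]

theorem SplitAt.card_lt {g : AddMonoid.End (V z E)} (hne : g ≠ 1) :
    Nat.card (eSub z E g) < Nat.card E := by
  refine Nat.lt_of_le_of_ne (Subgroup.card_le_of_le (eSub_le g)) fun he => hne ?_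
  have heq := Subgroup.eq_of_le_of_card_ge (eSub_le g) he.ge
  refine end_ext fun x => ?_
  have := (heq.ge (lift_mem x) : lift x ∈ eSub z E g).2
  rwa [π_lift] at this

theorem SplitAt.commute {g : AddMonoid.End (V z E)} (hg : SplitAt z E g) (hS : Sym z E) {a b : G}
    (ha : a ∈ eSub z E g) (hb : b ∈ eSub z E (1 + g)) : a * b = b * a := by
  refine cb_eq_zero.1 ?_
  rw [← hS.B_π ha.1 hb.1, ← ha.2, ← hb.2, hg.self_adj, ← mul_app, mul_add, mul_one, hg.idem,
    hS.end_add_self, zero_app, hS.B_zero_right]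

theorem SplitAt.exists_decomp {g : AddMonoid.End (V z E)} (hg : SplitAt z E g) (hS : Sym z E)
    {a : G} (ha : a ∈ E) :
    ∃ a₁ ∈ eSub z E g, ∃ a₂ ∈ eSub z E (1 + g), a = a₁ * a₂ := by
  set b := lift (g (π z E a)) with hb
  have hbm : b ∈ eSub z E g := eSub_lift_mem hg.idem _
  refine ⟨b, hbm, b⁻¹ * a, ⟨mul_mem (inv_mem hbm.1) ha, ?_⟩, (mul_inv_cancel_left b a).symm⟩
  have hb' : π z E b = g (π z E a) := π_lift _
  rw [π_mul z (inv_mem hbm.1) ha, π_inv z hbm.1, hS.neg_eq, hb', add_app, one_app, map_add,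
    ← mul_app g g, hg.idem, hS.add_self, add_zero]

theorem SplitAt.inter {g : AddMonoid.End (V z E)} (hg : SplitAt z E g) (hS : Sym z E) {a : G}
    (h1 : a ∈ eSub z E g) (h2 : a ∈ eSub z E (1 + g)) : a = 1 ∨ a = z := by
  refine (hS.π_eq_zero h1.1).1 ?_
  rw [← h2.2, add_app, one_app, h1.2, hS.add_self]

theorem SplitAt.card_mul {g : AddMonoid.End (V z E)} (hg : SplitAt z E g) (hS : Sym z E) :
    Nat.card (eSub z E g) * Nat.card (eSub z E (1 + g)) = 2 * Nat.card E := by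
  let φ : ↥(eSub z E g) × ↥(eSub z E (1 + g)) →* ↥E :=
    MonoidHom.mk' (fun p => ⟨(p.1 : G) * (p.2 : G), mul_mem p.1.2.1 p.2.2.1⟩) fun p q => by
      refine Subtype.ext ?_
      simp only [Prod.fst_mul, Prod.snd_mul, Subgroup.coe_mul]
      calc (p.1 : G) * q.1 * (p.2 * q.2) = p.1 * (q.1 * p.2) * q.2 := by group
        _ = p.1 * (p.2 * q.1) * q.2 := by rw [hg.commute hS q.1.2 p.2.2]
        _ = _ := by group
  have hsurj : Function.Surjective φ := fun a => by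
    obtain ⟨a₁, h1, a₂, h2, he⟩ := hg.exists_decomp hS a.2
    exact ⟨(⟨a₁, h1⟩, ⟨a₂, h2⟩), Subtype.ext he.symm⟩
  have hker : Nat.card φ.ker = 2 := by
    let c : Bool → ↥φ.ker := fun b => if b then
      ⟨(⟨z, (hg.sym hS).z_mem⟩, ⟨z, ((hg.compl hS).sym hS).z_mem⟩),
        Subtype.ext (by simpa [φ] using hS.z_sq)⟩ else 1
    rw [← Nat.card_eq_of_bijective c ⟨?_, ?_⟩, Nat.card_eq_fintype_card, Fintype.card_bool]
    · intro a b hab
      have h1 := congrArg (fun y : ↥φ.ker => ((y.1.1 : ↥(eSub z E g)) : G)) hab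
      cases a <;> cases b <;> simp [c] at h1 ⊢
      · exact hS.z_ne h1.symm
      · exact hS.z_ne h1
    · rintro ⟨⟨⟨a, ha⟩, ⟨b, hb⟩⟩, hp⟩
      have hab : a * b = 1 := congrArg Subtype.val hp
      have hb' : b = a⁻¹ := (inv_eq_of_mul_eq_one_right hab).symm
      rcases hg.inter hS ha (by rw [← inv_inv a, ← hb']; exact inv_mem hb) with e | e
      · refine ⟨false, Subtype.ext (Prod.ext (Subtype.ext ?_) (Subtype.ext ?_))⟩
        · simp [c, e]
        · simp [c, hb', e]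
      · refine ⟨true, Subtype.ext (Prod.ext (Subtype.ext ?_) (Subtype.ext ?_))⟩
        · simp [c, e]
        · simp [c, hb', e, hS.inv_z]
  rw [← Nat.card_prod, Subgroup.card_eq_card_quotient_mul_card_subgroup φ.ker, hker, mul_comm,
    Nat.card_congr (QuotientGroup.quotientKerEquivOfSurjective φ hsurj).toEquiv]

/-- Kronecker product on `Fin (N₁ * N₂)`. -/
def tens {N₁ N₂ : ℕ} (A : Mat N₁) (C : Mat N₂) : Mat (N₁ * N₂) :=
  (Matrix.kroneckerMap (· * ·) A C).submatrix finProdFinEquiv.symm finProdFinEquiv.symm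

theorem tens_mul {N₁ N₂ : ℕ} (A A' : Mat N₁) (C C' : Mat N₂) :
    tens A C * tens A' C' = tens (A * A') (C * C') := by
  rw [tens, tens, tens, Matrix.submatrix_mul_equiv, ← Matrix.mul_kronecker_mul]

theorem tens_one {N₁ N₂ : ℕ} : tens (1 : Mat N₁) (1 : Mat N₂) = 1 := by
  rw [tens, Matrix.one_kronecker_one, Matrix.submatrix_one_equiv]

theorem tens_neg {N₁ N₂ : ℕ} (A : Mat N₁) (C : Mat N₂) : tens (-A) C = -tens A C := by
  ext i j; simp [tens]

theorem tens_neg_neg {N₁ N₂ : ℕ} (A : Mat N₁) (C : Mat N₂) : tens (-A) (-C) = tens A C := by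
  ext i j; simp [tens]

/-- The swap of the indices. -/
def swapE (N : ℕ) : Fin (N * N) ≃ Fin (N * N) :=
  finProdFinEquiv.symm.trans ((Equiv.prodComm _ _).trans finProdFinEquiv)

/-- The swap of two equal factors. -/
def swapM (N : ℕ) : Mat (N * N) := (1 : Mat (N * N)).submatrix (swapE N) (Equiv.refl _)

theorem swapE_symm (N : ℕ) : (swapE N).symm = swapE N := by
  ext i; simp [swapE]

theorem swapM_tens {N : ℕ} (A C : Mat N) : swapM N * tens A C = tens C A * swapM N := by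
  rw [swapM, Matrix.one_submatrix_mul, Matrix.mul_submatrix_one]
  ext i j
  simp [tens, swapE, mul_comm]

theorem swapM_sq {N : ℕ} : swapM N * swapM N = 1 := by
  rw [swapM, Matrix.one_submatrix_mul, Matrix.submatrix_submatrix]
  ext i j
  simp [swapE, Matrix.one_apply]
  rw [show finProdFinEquiv (i.divNat, i.modNat) = i from finProdFinEquiv.apply_symm_apply i]

/-- The representation of `E` from representations of the two factors. -/
theorem SplitAt.exists_tens {g : AddMonoid.End (V z E)} (hg : SplitAt z E g) (hS : Sym z E)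
    {N₁ N₂ : ℕ} {σ₁ : G → Mat N₁} {σ₂ : G → Mat N₂} (h₁ : ERep z (eSub z E g) N₁ σ₁)
    (h₂ : ERep z (eSub z E (1 + g)) N₂ σ₂) :
    ∃ σ : G → Mat (N₁ * N₂), ERep z E (N₁ * N₂) σ ∧
      ∀ a₁ ∈ eSub z E g, ∀ a₂ ∈ eSub z E (1 + g), σ (a₁ * a₂) = tens (σ₁ a₁) (σ₂ a₂) := by
  classical
  have hd : ∀ a : G, a ∈ E → ∃ p : G × G, p.1 ∈ eSub z E g ∧ p.2 ∈ eSub z E (1 + g) ∧
      a = p.1 * p.2 := fun a ha => by
    obtain ⟨a₁, h1, a₂, h2, he⟩ := hg.exists_decomp hS ha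
    exact ⟨(a₁, a₂), h1, h2, he⟩
  choose p hp1 hp2 hpe using hd
  let σ : G → Mat (N₁ * N₂) := fun a =>
    if ha : a ∈ E then tens (σ₁ (p a ha).1) (σ₂ (p a ha).2) else 1
  have hwell : ∀ a₁ ∈ eSub z E g, ∀ a₂ ∈ eSub z E (1 + g),
      σ (a₁ * a₂) = tens (σ₁ a₁) (σ₂ a₂) := by
    intro a₁ h1 a₂ h2
    have ha : a₁ * a₂ ∈ E := mul_mem h1.1 h2.1
    simp only [σ, dif_pos ha]
    set b₁ := (p _ ha).1
    set b₂ := (p _ ha).2
    have hb1 : b₁ ∈ eSub z E g := hp1 _ ha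
    have hb2 : b₂ ∈ eSub z E (1 + g) := hp2 _ ha
    have he : a₁ * a₂ = b₁ * b₂ := hpe _ ha
    have hc : b₁⁻¹ * a₁ = b₂ * a₂⁻¹ := by
      rw [inv_mul_eq_iff_eq_mul, ← mul_assoc, ← he, mul_inv_cancel_right]
    rcases hg.inter hS (mul_mem (inv_mem hb1) h1)
      (by rw [hc]; exact mul_mem hb2 (inv_mem h2)) with e | e
    · have e1 : a₁ = b₁ := (inv_mul_eq_one.1 e).symm
      have e2 : a₂ = b₂ := by rw [e1] at he; exact mul_left_cancel he
      rw [e1, e2]
    · have e1 : a₁ = b₁ * z := by rw [← e, mul_inv_cancel_left]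
      have e2 : b₂ = a₂ * z := by
        rw [hc] at e
        rw [mul_inv_eq_iff_eq_mul.1 e, hS.z_comm _ h2.1]
      rw [e1, e2, h₁.mul _ hb1 _ (hg.sym hS).z_mem, h₂.mul _ h2 _ ((hg.compl hS).sym hS).z_mem,
        h₁.map_z, h₂.map_z, mul_neg, mul_one, mul_neg, mul_one]
      ext i j; simp [tens]
  refine ⟨σ, ⟨?_, ?_, ?_, ?_⟩, hwell⟩
  · have := hwell 1 (one_mem _) 1 (one_mem _)
    rwa [mul_one, h₁.one, h₂.one, tens_one] at this
  · intro a ha b hb
    obtain ⟨a₁, ha1, a₂, ha2, rfl⟩ := hg.exists_decomp hS ha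
    obtain ⟨b₁, hb1, b₂, hb2, rfl⟩ := hg.exists_decomp hS hb
    rw [hwell _ ha1 _ ha2, hwell _ hb1 _ hb2, tens_mul, ← h₁.mul _ ha1 _ hb1, ← h₂.mul _ ha2 _ hb2,
      ← hwell _ (mul_mem ha1 hb1) _ (mul_mem ha2 hb2)]
    congr 1
    calc a₁ * a₂ * (b₁ * b₂) = a₁ * (a₂ * b₁) * b₂ := by group
      _ = a₁ * (b₁ * a₂) * b₂ := by rw [hg.commute hS hb1 ha2]
      _ = _ := by group
  · have := hwell z (hg.sym hS).z_mem 1 (one_mem _)
    rwa [mul_one, h₁.map_z, h₂.one, tens_neg, tens_one] at this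
  · have h := hg.card_mul hS
    rw [← h₁.card, ← h₂.card] at h
    have e : (N₁ * N₂) ^ 2 = N₁ ^ 2 * N₂ ^ 2 := mul_pow _ _ _
    rw [e]
    nlinarith [h]

/-- Both factors normalised. -/
theorem SplitAt.ext_of_inv {g : AddMonoid.End (V z E)} (hg : SplitAt z E g) (h : Hyp z E K P)
    (hgP : ∀ p ∈ P, act z E p * g = g * act z E p)
    (h1 : Ext z (eSub z E g) P) (h2 : Ext z (eSub z E (1 + g)) P) : Ext z E P := by
  obtain ⟨N₁, σ₁, ρ₁, he1, hp1, hc1⟩ := h1
  obtain ⟨N₂, σ₂, ρ₂, he2, hp2, hc2⟩ := h2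
  obtain ⟨σ, hσ, hσe⟩ := hg.exists_tens h.sym he1 he2
  refine ⟨N₁ * N₂, σ, fun p => tens (ρ₁ p) (ρ₂ p), hσ,
    ⟨by simp only [hp1.one, hp2.one, tens_one], fun a ha b hb => by
      simp only [tens_mul, hp1.mul a ha b hb, hp2.mul a ha b hb]⟩, fun p hp a ha => ?_⟩
  obtain ⟨a₁, ha1, a₂, ha2, rfl⟩ := hg.exists_decomp h.sym ha
  have hm : ∀ (g' : AddMonoid.End (V z E)), act z E p * g' = g' * act z E p →
      ∀ a ∈ eSub z E g', p * a * p⁻¹ ∈ eSub z E g' := fun g' hc a ha => by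
    refine ⟨(mem_normalizer_iff.1 (h.pN hp) a).1 ha.1, ?_⟩
    rw [← h.sym.act_π (h.pN hp) ha.1, ← mul_app, ← hc, mul_app, ha.2]
  show tens (ρ₁ p) (ρ₂ p) * σ (a₁ * a₂) = σ (p * (a₁ * a₂) * p⁻¹) * tens (ρ₁ p) (ρ₂ p)
  rw [show p * (a₁ * a₂) * p⁻¹ = (p * a₁ * p⁻¹) * (p * a₂ * p⁻¹) by group, hσe _ ha1 _ ha2,
    hσe _ (hm g (hgP p hp) _ ha1) _ (hm _ (by rw [mul_add, mul_one, add_mul, one_mul, hgP p hp])
      _ ha2), tens_mul, tens_mul, hc1 p hp _ ha1, hc2 p hp _ ha2]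

/-- The factors exchanged by `x`. -/
theorem SplitAt.ext_of_swap {g : AddMonoid.End (V z E)} (hg : SplitAt z E g) (h : Hyp z E K P)
    {M : Subgroup G} (hMP : M ≤ P) (hgM : ∀ p ∈ M, act z E p * g = g * act z E p)
    {x : G} (hxP : x ∈ P) (hxM : ∀ m ∈ M, x * m * x⁻¹ ∈ M) (hxM' : ∀ m ∈ M, x⁻¹ * m * x ∈ M)
    (hx2 : x * x ∈ M)
    (hgen : ∀ p ∈ P, ∃ i : ℕ, ∃ c ∈ M, p = c * x ^ i)
    (hswap : act z E x * g = (1 + g) * act z E x) (h1 : Ext z (eSub z E g) M) : Ext z E P := by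
  have hS := h.sym
  obtain ⟨N, σ₁, ρ₁, he1, hp1, hc1⟩ := h1
  have hxN := h.pN hxP
  have hswap' : act z E x * (1 + g) = g * act z E x := by
    rw [mul_add, mul_one, hswap, add_mul, one_mul, ← add_assoc, hS.end_add_self, zero_add]
  have hto : ∀ a ∈ eSub z E g, x * a * x⁻¹ ∈ eSub z E (1 + g) := fun a ha => by
    refine ⟨(mem_normalizer_iff.1 hxN a).1 ha.1, ?_⟩
    rw [← hS.act_π hxN ha.1, ← mul_app, ← hswap, mul_app, ha.2]
  have hfro : ∀ a ∈ eSub z E (1 + g), x * a * x⁻¹ ∈ eSub z E g := fun a ha => by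
    refine ⟨(mem_normalizer_iff.1 hxN a).1 ha.1, ?_⟩
    rw [← hS.act_π hxN ha.1, ← mul_app, ← hswap', mul_app, ha.2]
  have hback : ∀ a ∈ eSub z E (1 + g), x⁻¹ * a * x ∈ eSub z E g := fun a ha => by
    have haE : x⁻¹ * a * x ∈ E := by simpa using (mem_normalizer_iff.1 (inv_mem hxN) a).1 ha.1
    refine ⟨haE, ?_⟩
    have e : act z E x (π z E (x⁻¹ * a * x)) = π z E a := by
      rw [hS.act_π hxN haE]; congr 1; group
    have e2 : act z E x (g (π z E (x⁻¹ * a * x))) = act z E x (π z E (x⁻¹ * a * x)) := by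
      rw [← mul_app, hswap, mul_app, e, ha.2]
    have := congrArg (act z E x⁻¹) e2
    have inv_app : ∀ y, act z E x⁻¹ (act z E x y) = y := fun y => by
      rw [← mul_app, hS.act_inv hxN, one_app]
    rwa [inv_app, inv_app] at this
  have he2 : ERep z (eSub z E (1 + g)) N (fun y => σ₁ (x⁻¹ * y * x)) := by
    refine ⟨by simp [he1.one], fun a ha b hb => ?_, ?_, ?_⟩
    · show σ₁ (x⁻¹ * (a * b) * x) = σ₁ (x⁻¹ * a * x) * σ₁ (x⁻¹ * b * x)
      rw [← he1.mul _ (hback a ha) _ (hback b hb)]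
      congr 1; group
    · show σ₁ (x⁻¹ * z * x) = -1
      have := hS.conj_z (inv_mem hxN)
      rw [inv_inv] at this
      rw [this, he1.map_z]
    · rw [he1.card]
      exact Nat.card_congr
        { toFun := fun a => ⟨x * a * x⁻¹, hto a a.2⟩
          invFun := fun a => ⟨x⁻¹ * a * x, hback a a.2⟩
          left_inv := fun a => Subtype.ext (by simp [mul_assoc])
          right_inv := fun a => Subtype.ext (by simp [mul_assoc]) }
  obtain ⟨σ, hσ, hσe⟩ := hg.exists_tens hS he1 he2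
  let ρ : G → Mat (N * N) := fun m => tens (ρ₁ m) (ρ₁ (x⁻¹ * m * x))
  have hρ : PRep M (N * N) ρ := by
    refine ⟨by simp [ρ, hp1.one, tens_one], fun a ha b hb => ?_⟩
    simp only [ρ, tens_mul, ← hp1.mul a ha b hb, ← hp1.mul _ (hxM' a ha) _ (hxM' b hb)]
    congr 2
    group
  have hgmem : ∀ p ∈ M, ∀ g' : AddMonoid.End (V z E), act z E p * g' = g' * act z E p →
      ∀ a ∈ eSub z E g', p * a * p⁻¹ ∈ eSub z E g' := fun p hp g' hc a ha => by
    refine ⟨(mem_normalizer_iff.1 (h.pN (hMP hp)) a).1 ha.1, ?_⟩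
    rw [← hS.act_π (h.pN (hMP hp)) ha.1, ← mul_app, ← hc, mul_app, ha.2]
  have hcomp : Compat E M σ ρ := by
    intro m hm a ha
    obtain ⟨a₁, ha1, a₂, ha2, rfl⟩ := hg.exists_decomp hS ha
    have hgm2 : act z E m * (1 + g) = (1 + g) * act z E m := by
      rw [mul_add, mul_one, add_mul, one_mul, hgM m hm]
    rw [show m * (a₁ * a₂) * m⁻¹ = (m * a₁ * m⁻¹) * (m * a₂ * m⁻¹) by group, hσe _ ha1 _ ha2,
      hσe _ (hgmem m hm g (hgM m hm) _ ha1) _ (hgmem m hm _ hgm2 _ ha2)]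
    simp only [ρ, tens_mul]
    rw [hc1 m hm _ ha1, hc1 _ (hxM' m hm) _ (hback _ ha2)]
    congr 3
    group
  let S : Mat (N * N) := tens (ρ₁ (x * x)) 1 * swapM N
  have hSu : IsUnit S := by
    refine IsUnit.mul ?_ (IsUnit.of_mul_eq_one _ swapM_sq)
    exact IsUnit.of_mul_eq_one (tens (ρ₁ (x * x)⁻¹) 1)
      (by rw [tens_mul, hp1.mul_inv hx2, one_mul, tens_one])
  have hSI : Inter E σ (fun a => σ (x * a * x⁻¹)) S := by
    intro a ha
    obtain ⟨a₁, ha1, a₂, ha2, rfl⟩ := hg.exists_decomp hS ha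
    have e : x * (a₁ * a₂) * x⁻¹ = (x * a₂ * x⁻¹) * (x * a₁ * x⁻¹) := by
      rw [hg.commute hS (hfro _ ha2) (hto _ ha1)]; group
    show S * σ (a₁ * a₂) = σ (x * (a₁ * a₂) * x⁻¹) * S
    rw [e, hσe _ (hfro _ ha2) _ (hto _ ha1), hσe _ ha1 _ ha2]
    simp only [S]
    rw [mul_assoc (tens (ρ₁ (x * x)) 1), swapM_tens, ← mul_assoc, tens_mul, ← mul_assoc, tens_mul,
      one_mul, mul_one,
      hc1 _ hx2 _ (hback _ ha2), show x * x * (x⁻¹ * a₂ * x) * (x * x)⁻¹ = x * a₂ * x⁻¹ by group,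
      show x⁻¹ * (x * a₁ * x⁻¹) * x = a₁ by group]
  refine hS.extend_cyclic hσ h.pN hMP hρ hcomp hxP hxM hgen hSu hSI fun m hm => ?_
  simp only [S, ρ]
  rw [mul_assoc (tens (ρ₁ (x * x)) 1), swapM_tens, ← mul_assoc, tens_mul, ← mul_assoc, tens_mul,
    one_mul, mul_one,
    ← hp1.mul _ hx2 _ (hxM' m hm), ← hp1.mul _ (hxM m hm) _ hx2,
    show x * x * (x⁻¹ * m * x) = x * m * x⁻¹ * (x * x) by group,
    show x⁻¹ * (x * m * x⁻¹) * x = m by group]

end CfsgLib.ExtraExtend
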